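import Cfsg.Agent.H933.Scott
import Cfsg.Agent.H4.JT.Words
import Cfsg.Agent.H1.TJ2
import Cfsg.Agent.H921.SporJ2
import Cfsg.Agent.H908.TenA7
import Cfsg.Agent.H911.Base5

/-!
# The Hall-Janko group in dimension ten (helper933)

* `rep_false` : no irreducible injective representation of degree 9, 10, 11 in characteristic 2 (Scott's lemma);
* `o10_j2` : `J₂` is never the socle of a residual core in `Ω₁₀^±(q)`.
-/

set_option autoImplicit false
set_option linter.unusedSectionVars false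
set_option maxRecDepth 100000

namespace Cfsg.Agent.H933.JTwoTen

open Module Subgroup Cfsg.Agent.H933.Scott
open Cfsg.Agent.J2.HundredGens Cfsg.Agent.H4.JT.Words

universe u v w

abbrev G0 : Type := ↥(Cfsg.Agent.SporadicA.J2Hundred.G)

abbrev wx : List ℕ := [3]
abbrev wy : List ℕ := [0, 1, 2, 3, 4, 3, 2, 1, 0, 1, 3, 2, 3]
abbrev wz : List ℕ := wx ++ wy
abbrev wt : List ℕ := [1, 0, 4, 3, 2, 1, 0, 1, 3, 2, 1, 4, 3, 2, 1, 3, 2, 4, 3]
abbrev ws : List ℕ := [1, 3, 4, 3, 2, 1, 3, 2, 1, 0, 1, 2, 3, 2, 3]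
abbrev wr : List ℕ := [3, 2, 1, 0, 1, 2, 3, 4, 3, 2, 3, 2, 1, 0, 4]

theorem gp (L : List ℕ) (n : ℕ) : (gw L) ^ n = gw (List.replicate n L).flatten := by
  induction n with
  | zero => rw [pow_zero, ← g1]; rfl
  | succ n ih => rw [pow_succ', ih, gm, List.replicate_succ, List.flatten_cons]

theorem x_sq : gw wx * gw wx = 1 := by rw [gm, ← g1]; exact ge (by decide +kernel)
theorem y_cu : (gw wy) ^ 3 = 1 := by rw [gp, ← g1]; exact ge (by decide +kernel)
theorem z_pow : (gw wx * gw wy) ^ 7 = 1 := by rw [gm, gp, ← g1]; exact ge (by decide +kernel)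
theorem z_conj : gw wt * (gw wx * gw wy) = (gw wx * gw wy) ^ 3 * gw wt := by
  rw [gm, gm, gp, gm]; exact ge (by decide +kernel)
theorem s_pow : (gw ws) ^ 7 = 1 := by rw [gp, ← g1]; exact ge (by decide +kernel)
theorem s_y : gw wy * gw ws = (gw ws) ^ 2 * gw wy := by rw [gm, gp, gm]; exact ge (by decide +kernel)
theorem s_t : gw wr * gw ws = (gw ws) ^ 3 * gw wr := by rw [gm, gp, gm]; exact ge (by decide +kernel)

theorem s_ne : gw ws ≠ 1 := by
  intro h
  have h1 : pw ws = 1 := congrArg Subtype.val h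
  have h2 := pw_val ws 0
  rw [h1] at h2
  revert h2
  decide +kernel

/-! ### Generation -/

/-- letters `x`, `y`, `y⁻¹` -/
def lt (k : ℕ) : List ℕ := match k with
  | 0 => wx
  | 1 => wy
  | _ => wy.reverse

theorem lt_mem (k : ℕ) : gw (lt k) ∈ Subgroup.closure {gw wx, gw wy} := by
  match k with
  | 0 => exact Subgroup.subset_closure (Or.inl rfl)
  | 1 => exact Subgroup.subset_closure (Or.inr rfl)
  | (_ + 2) =>
    change gw wy.reverse ∈ _
    rw [H1.J2Cover.gw_reverse]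
    exact inv_mem (Subgroup.subset_closure (Or.inr rfl))

theorem word_mem (L : List ℕ) : gw (L.flatMap lt) ∈ Subgroup.closure {gw wx, gw wy} := by
  induction L with
  | nil => rw [List.flatMap_nil, g1]; exact one_mem _
  | cons k L ih => rw [List.flatMap_cons, ← gm]; exact mul_mem (lt_mem k) ih

theorem of_word {k : ℕ} (L : List ℕ) (h : chk [k] (L.flatMap lt) = true) :
    gw [k] ∈ Subgroup.closure {gw wx, gw wy} := by
  rw [ge h]; exact word_mem L

theorem gen : Subgroup.closure {gw wx, gw wy} = (⊤ : Subgroup G0) := by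
  refine gen_eq fun k hk => ?_
  match k, hk with
  | 0, _ => exact of_word [1, 0, 2, 0, 1, 0, 1, 0, 2, 0, 1, 0, 2, 0, 1, 0, 2, 0, 2, 0, 1, 0, 2, 0, 1, 0, 2, 0, 2, 0, 1, 0, 2,
      0, 2, 0, 1, 0, 2, 0, 1, 0, 2, 0, 2, 0, 1] (by decide +kernel)
  | 1, _ => exact of_word [1, 0, 1, 0, 2, 0, 2, 0, 1, 0, 1, 0, 2, 0, 2, 0, 1, 0, 1, 0, 2, 0, 1, 0, 2, 0, 1, 0, 2, 0, 1, 0, 1,
      0, 2, 0, 1, 0, 2, 0, 1, 0, 1, 0, 2, 0, 2] (by decide +kernel)
  | 2, _ => exact of_word [0, 1, 0, 1, 0, 2, 0, 1, 0, 1, 0, 2, 0, 1, 0, 2, 0, 2, 0, 1, 0, 1, 0, 2, 0, 1, 0, 2, 0, 1, 0, 1, 0,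
      2, 0, 2, 0, 1, 0, 2, 0, 2, 0, 1, 0, 2, 0, 1, 0, 2, 0, 2, 0] (by decide +kernel)
  | 3, _ => exact of_word [0] (by decide +kernel)
  | 4, _ => exact of_word [1, 0, 2, 0, 1, 0, 1, 0, 2, 0, 1, 0, 2, 0, 1, 0, 2, 0, 2, 0, 1, 0, 2, 0, 1, 0, 2, 0, 1, 0, 1, 0, 2,
      0, 2, 0, 1, 0, 1, 0, 2, 0, 1, 0, 2, 0, 1, 0, 1, 0, 1] (by decide +kernel)
  | (_ + 5), h => omega

/-! ### Characteristic 2 -/

variable {K : Type u} [Field K] [IsAlgClosed K] {V : Type v} [AddCommGroup V] [Module K V] [FiniteDimensional K V]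

theorem rep_false (h2 : (2 : K) = 0) (ρ : G0 →* Module.End K V)
    (hirr : ∀ W : Submodule K V, (∀ g : G0, ∀ w ∈ W, ρ g w ∈ W) → W = ⊥ ∨ W = ⊤) (hinj : Function.Injective ρ)
    (h9 : 9 ≤ finrank K V) (h11 : finrank K V ≤ 11) : False := by
  have ne1 : ∀ {g : G0}, g ≠ 1 → ρ g ≠ 1 := fun hg h => hg (hinj (by rw [h, map_one]))
  have h7 : (7 : K) ≠ 0 := by
    intro h
    have : (1 : K) = 7 - 3 * 2 := by norm_num
    rw [h, h2] at this
    norm_num at this
  have hx := fx_of_sq ρ h2 x_sq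
  have : NeZero ((7 : ℕ) : K) := ⟨by exact_mod_cast h7⟩
  obtain ⟨ζ, hζ⟩ := (HasEnoughRootsOfUnity.exists_primitiveRoot K 7)
  have hz := fx_seven ρ h7 z_pow z_conj h11
  have hy := fx_three ρ (r := 7) (k := 2) (l := 4) (k' := 3) (l' := 5) (by norm_num) hζ s_pow (ne1 s_ne) y_cu
    s_y (by norm_num) s_t (by norm_num) (by decide)
  have hs := scott_irr ρ hirr gen ⟨_, ne1 s_ne⟩
  omega

section core

open Matrix Cfsg Cfsg.Geo Cfsg.Agent.H915.LD Cfsg.Spor Cfsg.Agent.H1 Cfsg.Agent.J2.SixGens Cfsg.Agent.J2.Group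
  Cfsg.Agent.J2.ZTau Cfsg.Agent.J2.Ico Cfsg.Agent.J2.Lattice Cfsg.Agent.J2.Refl Cfsg.Agent.J2.Stab Cfsg.Agent.H1.J2Lift

variable {F : Type u} [Field F] {ι : Type} [Fintype ι] [DecidableEq ι] {P : Subgroup (GL ι F)}

theorem sc_bot (e : Soc P ≃* J2) {φ : W →* P} (hs : Function.Surjective φ) (hp : ∀ z, RealCover.pj P e (φ z) = pr z)
    (h1 : φ ng = 1) : (scalars ι F).subgroupOf P = ⊥ := by
  rw [Subgroup.eq_bot_iff_forall]
  intro g hg
  obtain ⟨w, rfl⟩ := hs g
  rw [← RealCover.ker_pj e, MonoidHom.mem_ker, hp] at hg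
  have h2 : w ∈ center W := by rw [← Cfsg.Agent.S2040.ker_pr]; exact hg
  rcases mem_center h2 with rfl | rfl
  · exact map_one φ
  · exact h1

theorem equiv_of_bot (e : Soc P ≃* J2) (h : (scalars ι F).subgroupOf P = ⊥) : Nonempty (P ≃* J2) := by
  have h2 : Function.Injective (e.toMonoidHom.comp (toSoc P)) := by
    rw [← MonoidHom.ker_eq_bot_iff]
    exact (ker_comp e).trans h
  exact ⟨MulEquiv.ofBijective _ ⟨h2, e.surjective.comp (toSoc_surjective P)⟩⟩

/-- **`J₂` in characteristic 2, degree 9, 10, 11.** -/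
theorem j2_two (hC : Core P) (h2 : (2 : F) = 0) (e : Soc P ≃* J2) (h9 : 9 ≤ Fintype.card ι)
    (h11 : Fintype.card ι ≤ 11) : False := by
  have : Nonempty ι := hC.nonempty
  obtain ⟨φ, hs, hp⟩ := TJ2.exists_cover hC e
  have h1 : φ ng = 1 := by
    have key : (((φ ng : P) : GL ι F) : Matrix ι ι F) = 1 := by
      rcases TJ2.ng_image e hp with h | h
      · exact h
      · rw [h]
        have h3 : (1 : F) + 1 = 0 := by rw [one_add_one_eq_two, h2]
        rw [neg_eq_iff_add_eq_zero]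
        ext i j
        rw [Matrix.add_apply, Matrix.zero_apply, Matrix.one_apply]
        split_ifs
        · exact h3
        · exact add_zero 0
    exact Subtype.ext (Units.ext key)
  obtain ⟨e1⟩ := equiv_of_bot e (sc_bot e hs hp h1)
  obtain ⟨e2⟩ := H921.Spor.J2.exists_iso
  let E : P ≃* G0 := e1.trans e2
  let ρ : G0 →* Module.End (AlgebraicClosure F) (ι → AlgebraicClosure F) := (H911.Five.rep P).comp E.symm.toMonoidHom
  have h2' : (2 : AlgebraicClosure F) = 0 := by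
    rw [← map_ofNat (algebraMap F (AlgebraicClosure F)) 2, h2, map_zero]
  refine rep_false h2' ρ ?_ ?_ (by rw [finrank_fintype_fun_eq_card]; exact h9) (by rw [finrank_fintype_fun_eq_card]; exact h11)
  · intro W hW
    refine H911.Five.rep_irr hC.absIrred W fun g w hw => ?_
    have := hW (E g) w hw
    simpa [ρ] using this
  · exact (H911.Five.rep_injective P).comp E.symm.injective

/-! ### Odd characteristic -/

abbrev a1 : List ℕ := [3]
abbrev a2 : List ℕ := [2, 1, 0, 1, 0, 4, 3, 2, 1, 3, 2, 3, 4, 3, 2, 1, 0, 3, 2, 1, 0, 1, 3, 2, 4]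

theorem q1 : wd (W5 a1) * wd (W5 a1) = ng := by
  have h : wd (W5 a1 ++ W5 a1) = ng * wd [] := wd_eqN (by decide +kernel)
  rwa [wd_append, wd_nil, mul_one] at h

theorem rootsB_app {L M : List Vec} (h : rootsB L = true) (h' : rootsB M = true) : rootsB (L ++ M) = true := by
  unfold rootsB at *; rw [List.all_append, h, h']; rfl

theorem chkN_of {L M : List Vec} (hL : rootsB L = true) (hM : rootsB M = true) (h1 : run L e1 = -run M e1)
    (h2 : run L e2 = -run M e2) (h3 : run L e3 = -run M e3) : chkN L M = true := by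
  unfold chkN; rw [hL, hM, Bool.and_eq_true, Bool.and_eq_true, decide_eq_true_iff]; exact ⟨rfl, rfl, h1, h2, h3⟩

theorem rt1 : rootsB (W5 a1) = true := by decide +kernel
theorem rt2 : rootsB (W5 a2) = true := by decide +kernel

theorem q21 : run (W5 a2 ++ W5 a2) e1 = -run [] e1 := by decide +kernel
theorem q22 : run (W5 a2 ++ W5 a2) e2 = -run [] e2 := by decide +kernel
theorem q23 : run (W5 a2 ++ W5 a2) e3 = -run [] e3 := by decide +kernel

theorem q31 : run (W5 a1 ++ W5 a2) e1 = -run (W5 a2 ++ W5 a1) e1 := by decide +kernel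
theorem q32 : run (W5 a1 ++ W5 a2) e2 = -run (W5 a2 ++ W5 a1) e2 := by decide +kernel
theorem q33 : run (W5 a1 ++ W5 a2) e3 = -run (W5 a2 ++ W5 a1) e3 := by decide +kernel

theorem q2 : wd (W5 a2) * wd (W5 a2) = ng := by
  have h : wd (W5 a2 ++ W5 a2) = ng * wd [] := wd_eqN (chkN_of (rootsB_app rt2 rt2) rfl q21 q22 q23)
  rwa [wd_append, wd_nil, mul_one] at h

theorem q3 : wd (W5 a1) * wd (W5 a2) = ng * (wd (W5 a2) * wd (W5 a1)) := by
  have h : wd (W5 a1 ++ W5 a2) = ng * wd (W5 a2 ++ W5 a1) :=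
    wd_eqN (chkN_of (rootsB_app rt1 rt2) (rootsB_app rt2 rt1) q31 q32 q33)
  rwa [wd_append, wd_append] at h

end core

section ten

open Matrix Cfsg Cfsg.Geo Cfsg.Agent.H915.LD Cfsg.Spor Cfsg.Agent.H1 Cfsg.Agent.J2.SixGens Cfsg.Agent.J2.Group
  Cfsg.Agent.J2.ZTau Cfsg.Agent.J2.Ico Cfsg.Agent.J2.Lattice Cfsg.Agent.J2.Refl Cfsg.Agent.J2.Stab Cfsg.Agent.H1.J2Lift Cfsg.Agent.H933.O10 Cfsg.Agent.H908.Ten

variable {F : Type u} [Field F] [Finite F] {p : ℕ} {Q : (Fin 10 → F) → F} {H P : Subgroup (GL (Fin 10) F)}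

/-- **`J₂` is never the socle of a residual core in dimension ten.** -/
theorem o10_j2 (hX : Cx p Q H P) (h : Spor.IsoJ2 (Soc P)) : False := by
  obtain ⟨e⟩ := h
  by_cases h2 : (2 : F) = 0
  · exact j2_two hX.core h2 e (by rw [Fintype.card_fin]; norm_num) (by rw [Fintype.card_fin]; norm_num)
  · obtain ⟨φ, hs, hp⟩ := TJ2.exists_cover hX.core e
    rcases TJ2.ng_image e hp with h1 | h1
    · have hb := sc_bot e hs hp (Subtype.ext (Units.ext h1))
      have hb' := (H921.Spor.J2.J2_two.bd Nat.prime_two (F := F) (by exact_mod_cast h2)) 10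
        (hX.core.pr e (by rw [hb]; simp))
      omega
    · have hneg : ∀ v, (ofCx hX).σ (φ ng) v = -v := by
        intro v
        rw [OT.σ_apply]
        change (algebraMap F (AlgebraicClosure F)).mapMatrix (((φ ng : P) : GL (Fin 10) F) : Matrix (Fin 10) (Fin 10) F) *ᵥ v = -v
        rw [h1, map_neg, map_one, Matrix.neg_mulVec, Matrix.one_mulVec]
      refine (ofCx hX).no_quat h2 (x := φ (wd (W5 a1))) (y := φ (wd (W5 a2))) (fun v => ?_) (fun v => ?_) (fun v => ?_)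
      · rw [← Module.End.mul_apply, ← map_mul, ← map_mul, q1, hneg]
      · rw [← Module.End.mul_apply, ← map_mul, ← map_mul, q2, hneg]
      · rw [← Module.End.mul_apply, ← map_mul, ← map_mul, q3, map_mul, map_mul, Module.End.mul_apply, hneg, map_mul,
          map_mul, Module.End.mul_apply]

end ten

end Cfsg.Agent.H933.JTwoTen
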