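import Mathlib
import Cfsg.Agent.H933.SubClass
import Cfsg.Agent.H933.SubField
import Cfsg.Agent.ClassicalGeometry.SympGamma
import Cfsg.Agent.S0814

/-!
# The number of subgroups of `Out(S)`, `S` symplectic
-/

set_option autoImplicit false

namespace Cfsg.Agent.H933.SubPSp

open Cfsg Matrix Cfsg.Agent.H933.SubCount Cfsg.Agent.H933.SubNum Cfsg.Agent.H933.SubField Cfsg.Agent.H933.SubClass
open Cfsg.Agent.ClassicalGeometry.SympAutSemi Cfsg.Agent.ClassicalGeometry.SympGamma

variable {F : Type*} [Field F] {m : ℕ}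

/-- the field semisimilitude -/
def fr (m : ℕ) (σ : F ≃+* F) : semiSim m F := ⟨frobPerm m σ, σ, 1, one_ne_zero, isSemi_frobPerm σ⟩

theorem fr_pow (σ : F ≃+* F) (k : ℕ) : (fr m σ) ^ k = fr m (σ ^ k) := by
  induction k with
  | zero =>
    apply Subtype.ext
    ext v i
    rfl
  | succ k ih =>
    rw [pow_succ, ih]
    apply Subtype.ext
    ext v i
    show (σ ^ k) (σ (v i)) = (σ ^ (k + 1)) (v i)
    rw [pow_succ]
    rfl

theorem exists_out (hm : 1 ≤ m) (σ : F ≃+* F) : ∃ x : Cfsg.Out (PSp m F), orderOf σ ∣ orderOf x := by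
  refine ⟨_, dvd_orderOf (Psi m F (fr m σ)) fun k g hg => ?_⟩
  rw [← map_pow, fr_pow] at hg
  induction g using QuotientGroup.induction_on with
  | H A =>
    have hA : (rho m F A) ∈ semiSim m F := ⟨_, _, one_ne_zero, isSemi_rho A⟩
    have h1 : Psi m F ⟨rho m F A, hA⟩ = MulAut.conj (QuotientGroup.mk A : PSp m F) := by
      ext x
      induction x using QuotientGroup.induction_on with
      | H B =>
        rw [Psi_mk, MulAut.conj_apply, ← QuotientGroup.mk_inv, ← QuotientGroup.mk_mul, ← QuotientGroup.mk_mul]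
        congr 1
        apply rho_injective
        rw [rho_conjHom, map_mul, map_mul, map_inv]
    rw [← h1] at hg
    have h2 : Psi m F ((⟨rho m F A, hA⟩ : semiSim m F)⁻¹ * fr m (σ ^ k)) = 1 := by
      rw [map_mul, map_inv, hg, inv_mul_cancel]
    obtain ⟨a, ha⟩ := exists_scal_of_Psi_eq_one hm _ h2
    have h3 : frobPerm m (σ ^ k) = rho m F A * scal m F a := by
      rw [← ha]
      show frobPerm m (σ ^ k) = rho m F A * ((rho m F A)⁻¹ * frobPerm m (σ ^ k))
      rw [mul_inv_cancel_left]
    have h4 := (isSemi_rho A).mul (isSemi_scal (m := m) a)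
    rw [← h3] at h4
    exact (IsSemi.unique hm (isSemi_frobPerm (σ ^ k)) h4).1

theorem card_out [Fintype F] (hs : IsSimpleGroup (PSp m F)) (hna : ¬ IsMulCommutative (PSp m F)) :
    Nat.card (MulAut (PSp m F)) = Nat.card (Cfsg.Out (PSp m F)) * Nat.card (PSp m F) := by
  have hfin : Finite (PSp m F) := inferInstance
  have hc : Subgroup.center (PSp m F) = ⊥ := by
    rcases (inferInstance : (Subgroup.center (PSp m F)).Normal).eq_bot_or_eq_top with h | h
    · exact h
    · exfalso
      apply hna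
      exact ⟨⟨fun a b => (Subgroup.mem_center_iff.1 (show b ∈ Subgroup.center (PSp m F) by rw [h]; trivial) a)⟩⟩
  have hinj : Function.Injective (MulAut.conj : PSp m F →* MulAut (PSp m F)) := by
    rw [← MonoidHom.ker_eq_bot_iff, eq_bot_iff, ← hc]
    intro g hg
    rw [Subgroup.mem_center_iff]
    intro y
    have h3 := DFunLike.congr_fun (MonoidHom.mem_ker.1 hg) y
    rw [MulAut.conj_apply, MulAut.one_apply] at h3
    calc y * g = (g * y * g⁻¹) * g := by rw [h3]
      _ = g * y := by group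
  rw [Subgroup.card_eq_card_quotient_mul_card_subgroup (Cfsg.Inn (PSp m F))]
  congr 1
  exact Nat.card_congr (MonoidHom.ofInjective hinj).symm.toEquiv

theorem few_psp [Fintype F] (hm : 2 ≤ m) (h22 : m = 2 → 3 ≤ Fintype.card F) (hs : IsSimpleGroup (PSp m F))
    (hna : ¬ IsMulCommutative (PSp m F)) : Few (PSp m F) := by
  intro H hH
  have hfin : Finite (PSp m F) := inferInstance
  obtain ⟨p, f, hp, hf, hF⟩ := exists_card F
  have hfp : Fact p.Prime := ⟨hp⟩
  have h5 := five_le hs hna H hH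
  have hidx := Cfsg.Agent.H934.IdxCl.psp hm hs H hH
  rw [hF] at hidx
  have h2 : f ≤ f ^ 3 := Nat.le_self_pow (by norm_num) f
  have h3 : 1 ^ 3 ≤ (m - 1) ^ 3 := Nat.pow_le_pow_left (by omega) 3
  by_cases hc : m = 2 ∧ p = 2
  · obtain ⟨rfl, rfl⟩ := hc
    obtain ⟨h6, h7⟩ := Cfsg.Agent.S2600.result (F := F) hf hF
    have h8 := nsub_cyclic_le (N := Cfsg.Out (PSp 2 F))
    rw [h7] at h8
    rcases Nat.eq_or_lt_of_le hf with rfl | hf2
    · exact cub_of_five h5 (by omega)
    · refine cub_two le_rfl hidx (h8.trans ?_)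
      have h9 := four_mul_le (show 2 ≤ f from hf2)
      rw [mul_pow]
      norm_num
      omega
  · have hcard := Cfsg.Agent.S0814.result (F := F) p f hf hF m hm (by rw [← hF]; exact h22)
    rw [if_neg hc, one_mul, card_out hs hna] at hcard
    have hcard' : Nat.card (Cfsg.Out (PSp m F)) = Nat.gcd 2 (p ^ f - 1) * f :=
      Nat.eq_of_mul_eq_mul_right Nat.card_pos hcard
    obtain ⟨σ, hσ⟩ := exists_orderOf hf hF
    obtain ⟨x, hx⟩ := exists_out (F := F) (m := m) (by omega) σ
    rw [hσ] at hx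
    rcases hp.eq_two_or_odd' with rfl | hodd
    · have hg : Nat.gcd 2 (2 ^ f - 1) = 1 := by
        rw [← Nat.coprime_iff_gcd_eq_one, Nat.coprime_two_left, Nat.odd_sub (Nat.one_le_two_pow)]
        simp [Nat.even_pow, Nat.one_le_iff_ne_zero.1 hf]
      rw [hg, one_mul] at hcard'
      have h6 := nsub_le_of_one hx hcard'
      refine cub_two le_rfl hidx (h6.trans ?_)
      rw [mul_pow]
      nlinarith
    · have hp3 : 3 ≤ p := by
        rcases hodd with ⟨k, hk⟩
        have := hp.two_le
        omega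
      have hg : Nat.gcd 2 (p ^ f - 1) = 2 := by
        apply Nat.gcd_eq_left
        rw [← even_iff_two_dvd, Nat.even_sub' (Nat.one_le_pow _ _ (by omega))]
        simp [Nat.odd_pow_iff (Nat.one_le_iff_ne_zero.1 hf), hodd]
      rw [hg] at hcard'
      have h6 := nsub_le_of_two hx hcard'
      refine cub_three hp3 hidx ?_
      rw [mul_pow]
      have h7 : f ^ 2 ≤ f ^ 3 := Nat.pow_le_pow_right hf (by norm_num)
      nlinarith

end Cfsg.Agent.H933.SubPSp
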