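import Cfsg.Agent.H92.ExcTits

/-!
# A proper subgroup of the Tits group of order divisible by 45 (for S5906, S5907)

The stabiliser of a vector of the 52-dimensional module (it is `A₆.2²`).
-/

set_option autoImplicit false
set_option maxRecDepth 100000

namespace Cfsg.Agent.H933.TitsE

open Cfsg Cfsg.Lie Cfsg.Agent.H92.F2Code Cfsg.Agent.H92.F4Code Cfsg.Agent.H92.ExcTwF4
  Cfsg.Agent.ChevalleyStructure Cfsg.Agent.ChevalleyStructure.Elts

/-- two commuting elements of order 3 -/
theorem nine_dvd {X : Type*} [Group X] [Finite X] {s t : X} (hs : orderOf s = 3) (ht : orderOf t = 3)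
    (hc : s * t = t * s) (h1 : t ≠ s) (h2 : t ≠ s ^ 2) : 9 ∣ Nat.card X := by
  set C := Subgroup.centralizer ({s} : Set X) with hC
  have hsC : s ∈ C := Subgroup.mem_centralizer_singleton_iff.2 rfl
  have htC : t ∈ C := Subgroup.mem_centralizer_singleton_iff.2 hc.symm
  set Z : Subgroup C := Subgroup.zpowers ⟨s, hsC⟩ with hZ
  have hZn : Z.Normal := by
    refine ⟨fun n hn g => ?_⟩
    obtain ⟨k, rfl⟩ := hn
    have hg : g * (⟨s, hsC⟩ : C) = ⟨s, hsC⟩ * g :=
      Subtype.ext (Subgroup.mem_centralizer_singleton_iff.1 g.2)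
    have h3 : g * (⟨s, hsC⟩ : C) ^ k * g⁻¹ = (⟨s, hsC⟩ : C) ^ k := by
      rw [(show Commute g (⟨s, hsC⟩ : C) from hg).zpow_right k |>.eq, mul_inv_cancel_right]
    change g * (⟨s, hsC⟩ : C) ^ k * g⁻¹ ∈ Z
    rw [h3]
    exact ⟨k, rfl⟩
  have hZc : Nat.card Z = 3 := by
    rw [hZ, Nat.card_zpowers, ← Subgroup.orderOf_coe]
    exact hs
  have ht3 : t ^ 3 = 1 := by rw [← ht]; exact pow_orderOf_eq_one t
  have hnot : (⟨t, htC⟩ : C) ∉ Z := by
    intro h
    obtain ⟨k, hk⟩ := h
    have h3 : s ^ k = t := congrArg Subtype.val hk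
    have h4 : s ^ (k % 3) = t := by
      rw [← h3]
      have := zpow_mod_orderOf s k
      rw [hs] at this
      exact_mod_cast this
    have h5 : 0 ≤ k % 3 := by omega
    have h6 : k % 3 < 3 := by omega
    have h7 : k % 3 = 0 ∨ k % 3 = 1 ∨ k % 3 = 2 := by omega
    rcases h7 with h7 | h7 | h7
    · rw [h7, zpow_zero] at h4
      rw [← h4, orderOf_one] at ht
      omega
    · rw [h7, zpow_one] at h4
      exact h1 h4.symm
    · rw [h7] at h4
      exact h2 (by rw [← h4]; norm_cast)
  have hq : orderOf (QuotientGroup.mk' Z ⟨t, htC⟩) = 3 := by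
    refine orderOf_eq_prime ?_ ?_
    · rw [← map_pow]
      have : (⟨t, htC⟩ : C) ^ 3 = 1 := Subtype.ext ht3
      rw [this, map_one]
    · intro h
      exact hnot ((QuotientGroup.eq_one_iff _).1 h)
  have h3 : 3 ∣ Z.index := by
    rw [Subgroup.index_eq_card, ← hq]
    exact orderOf_dvd_natCard _
  have h4 := Z.card_mul_index
  rw [hZc] at h4
  obtain ⟨m, hm⟩ := h3
  have h5 : 9 ∣ Nat.card C := ⟨m, by rw [← h4, hm]; ring⟩
  exact h5.trans (Subgroup.card_subgroup_dvd_card C)

/-- the Tits group inside `²F₄(2)` -/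
abbrev T4 : Subgroup (GL chevF4.Idx (ZMod 2)) := twistedF4 (ZMod 2) 1

/-- elements of odd order lie in the derived subgroup -/
theorem exists_odd {w : List ℕ} (hw : ∀ k ∈ w, k < 8) {n : ℕ} (h : orderOf (el (ZMod 2) w) = 2 * n + 1) :
    ∃ x : ↥(commutator ↥T4), ((x : ↥T4) : GL chevF4.Idx (ZMod 2)) = el (ZMod 2) w := by
  have hm : el (ZMod 2) w ∈ T4 := el_mem one_ne_zero w hw
  have h1 : ((⟨el (ZMod 2) w, hm⟩ : ↥T4) ^ (n + 1)) ^ 2 ∈ commutator ↥T4 :=
    Subgroup.sq_mem_of_index_two S1074.result.1 _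
  refine ⟨⟨_, h1⟩, ?_⟩
  show (((⟨el (ZMod 2) w, hm⟩ : ↥T4) ^ (n + 1)) ^ 2 : ↥T4) = el (ZMod 2) w
  rw [SubgroupClass.coe_pow, SubgroupClass.coe_pow, ← pow_mul]
  have h2 : (n + 1) * 2 = (2 * n + 1) + 1 := by ring
  rw [h2, pow_succ, ← h, pow_orderOf_eq_one, one_mul]

/-- the vector -/
def vec : chevF4.Idx → ZMod 2 := (enum chevF4).dec 9908489551873

/-- its stabiliser -/
def E : Subgroup ↥(commutator ↥T4) where
  carrier := {g | (((g : ↥T4) : GL chevF4.Idx (ZMod 2)) : Matrix chevF4.Idx chevF4.Idx (ZMod 2)).mulVec vec = vec}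
  mul_mem' {a b} ha hb := by
    show ((((a * b : ↥(commutator ↥T4)) : ↥T4) : GL chevF4.Idx (ZMod 2)) :
      Matrix chevF4.Idx chevF4.Idx (ZMod 2)).mulVec vec = vec
    rw [Subgroup.coe_mul, Subgroup.coe_mul, Units.val_mul, ← Matrix.mulVec_mulVec]
    have ha' : (((a : ↥T4) : GL chevF4.Idx (ZMod 2)) : Matrix chevF4.Idx chevF4.Idx (ZMod 2)).mulVec vec = vec := ha
    have hb' : (((b : ↥T4) : GL chevF4.Idx (ZMod 2)) : Matrix chevF4.Idx chevF4.Idx (ZMod 2)).mulVec vec = vec := hb
    rw [hb', ha']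
  one_mem' := by
    show ((((1 : ↥(commutator ↥T4)) : ↥T4) : GL chevF4.Idx (ZMod 2)) :
      Matrix chevF4.Idx chevF4.Idx (ZMod 2)).mulVec vec = vec
    rw [Subgroup.coe_one, Subgroup.coe_one, Units.val_one, Matrix.one_mulVec]
  inv_mem' {a} ha := by
    have ha' : (((a : ↥T4) : GL chevF4.Idx (ZMod 2)) : Matrix chevF4.Idx chevF4.Idx (ZMod 2)).mulVec vec = vec := ha
    show ((((a⁻¹ : ↥(commutator ↥T4)) : ↥T4) : GL chevF4.Idx (ZMod 2)) :
      Matrix chevF4.Idx chevF4.Idx (ZMod 2)).mulVec vec = vec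
    rw [Subgroup.coe_inv, Subgroup.coe_inv]
    conv_lhs => rw [← ha']
    rw [Matrix.mulVec_mulVec, ← Units.val_mul, inv_mul_cancel, Units.val_one, Matrix.one_mulVec]

theorem mem_E {x : ↥(commutator ↥T4)} : x ∈ E ↔
    (((x : ↥T4) : GL chevF4.Idx (ZMod 2)) : Matrix chevF4.Idx chevF4.Idx (ZMod 2)).mulVec vec = vec := Iff.rfl

theorem mulVec_el (w : List ℕ) (hw : ∀ k ∈ ex w, k < 12) :
    ((el (ZMod 2) w : GL chevF4.Idx (ZMod 2)) : Matrix chevF4.Idx chevF4.Idx (ZMod 2)).mulVec vec =
      (enum chevF4).dec (appL (cds (ex w)) 9908489551873) := by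
  have h := appL_spec (codes (ex w) hw) (v := 9908489551873) (by decide)
  rw [h.2]
  unfold el wd
  rfl

def sW : List ℕ := [0, 1]
def tW : List ℕ := [0, 7, 1, 7, 1, 6, 1, 0, 6, 4, 0, 4, 0, 3, 0, 3]
def cW : List ℕ := [3, 6, 1, 0, 3, 6, 1, 0]
def xW : List ℕ := [0, 1, 2, 5]

def sC : List ℕ := [1, 262147, 134217740, 8, 48, 16, 64, 2176, 528640, 3171840, 1057280, 128, 4096, 24576, 8192, 12681216, 4227072, 16908288, 137439215617, 256, 1536, 512, 98304, 32768, 131072, 100663296, 33554432, 402653192, 134217728, 1610612736, 536870912, 277025390592, 1662152343552, 554050781184, 112201725640704, 37400575213568, 149602300854272, 262144, 2147483648, 12884901888, 4294967296, 6597069766656, 2199023255552, 8796093022208, 299067162755072, 51539607552, 17179869184, 68719476736, 17592186044416, 562949953421312, 3377699720527872, 1125899906842624]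
def tC : List ℕ := [8933532241923, 283405585678465, 2323875376473112, 571746449100876, 2482517600826553, 3711392178473753, 673056140043855, 289178013616257, 1547200880876051, 1932728400249809, 4269926603791929, 302241168810113, 10045941387267, 19524946657408, 282855813122048, 32716938670208, 302653464860801, 21863552247809, 308002842613763, 2350100405092003, 3511798323926265, 3308970151492449, 310895515453569, 298523874801664, 287116429305984, 1547261823283113, 2490287468803504, 3953844786589804, 1704244566569084, 1330333767619496, 2785448332074545, 22967362955265, 306497468938369, 296324851558401, 3856235369701368, 3094881087981025, 3761045492964915, 26800612972675, 289869494995072, 295783681456128, 20626609852545, 300173137905792, 18429734224000, 9491886477315, 307180385681536, 3334877411650472, 1188552304981721, 1188495963315347, 20630901024769, 604903600046671, 3893464584281233, 1188569652347817]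
def cC : List ℕ := [831105853442, 16365985638400, 1052337638660000, 32776718794663, 24422908370, 24422908594, 24253610866, 6468104320, 111662845508, 1932751189983143, 1932711384249831, 6468126848, 6467664000, 3163264897026, 3165403961346, 34224467994626, 34226607335426, 35051249395713, 14033831215107, 128240809062, 1934275443290023, 1934227466950293, 32712639789058, 32712639742082, 31887993399297, 1903238996547499, 1903124334285737, 1020413092560910, 1053185455879663, 1512214966566926, 1017589217624072, 21854949883907, 308840369225730, 294405000921090, 4265759121342470, 2804575813763078, 4480189390127110, 16368133306371, 16361678127105, 289873793646594, 291660504557571, 315849755852802, 300858164527105, 303052892405760, 308962767405056, 3229241585958916, 3229162201192366, 3736469525495816, 20081127981058, 3751645611556864, 4292493394837504, 1172858413776902]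

theorem p3 : (3 : ℕ).primeFactors = {3} := by decide +kernel
theorem p5 : (5 : ℕ).primeFactors = {5} := by decide +kernel

theorem prodS : Prod 52 (cds (ex sW)) sC := by decide +kernel
theorem prodT : Prod 52 (cds (ex tW)) tC := by decide +kernel
theorem prodC : Prod 52 (cds (ex cW)) cC := by decide +kernel

theorem os : orderOf (el (ZMod 2) sW) = 3 :=
  orderOf_wd' _ sC (by decide) (by norm_num) prodS (by decide +kernel) (by rw [p3]; decide +kernel)
theorem ot : orderOf (el (ZMod 2) tW) = 3 :=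
  orderOf_wd' _ tC (by decide) (by norm_num) prodT (by decide +kernel) (by rw [p3]; decide +kernel)
theorem oc : orderOf (el (ZMod 2) cW) = 5 :=
  orderOf_wd' _ cC (by decide) (by norm_num) prodC (by decide +kernel) (by rw [p5]; decide +kernel)

theorem codeOf {w : List ℕ} (hw : ∀ k ∈ ex w, k < 12) {C : List ℕ} (h : Prod 52 (cds (ex w)) C) :
    IsCode (enum chevF4) ((el (ZMod 2) w : GL chevF4.Idx (ZMod 2)) : Matrix chevF4.Idx chevF4.Idx (ZMod 2)) C := by
  have := isCode_prod (codes (ex w) hw) rfl h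
  unfold el wd
  exact this

theorem eq_of_codes {g h : GL chevF4.Idx (ZMod 2)} {C : List (List ℕ)} {D : List (List ℕ)}
    {gs hs : List (GL chevF4.Idx (ZMod 2))} (hg : gs.prod = g) (hh : hs.prod = h)
    (h1 : Codes (enum chevF4) gs C) (h2 : Codes (enum chevF4) hs D)
    (h3 : ∀ p < 52, appL C (2 ^ p) = appL D (2 ^ p)) : g = h := by
  subst hg hh
  apply Units.ext
  apply mat_ext (E := enum chevF4)
  intro p hp
  rw [← (appL_spec h1 (two_lt hp)).2, ← (appL_spec h2 (two_lt hp)).2, h3 p hp]

theorem st_comm : el (ZMod 2) sW * el (ZMod 2) tW = el (ZMod 2) tW * el (ZMod 2) sW := by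
  have hs := codeOf (w := sW) (by decide) prodS
  have ht := codeOf (w := tW) (by decide) prodT
  refine eq_of_codes (C := [sC, tC]) (D := [tC, sC]) (gs := [el (ZMod 2) sW, el (ZMod 2) tW])
    (hs := [el (ZMod 2) tW, el (ZMod 2) sW]) (by simp) (by simp) (.cons hs (.cons ht .nil)) (.cons ht (.cons hs .nil))
    (by decide +kernel)

theorem ne_of_codes {g h : GL chevF4.Idx (ZMod 2)} {C D : List (List ℕ)} {gs hs : List (GL chevF4.Idx (ZMod 2))}
    (hg : gs.prod = g) (hh : hs.prod = h) (h1 : Codes (enum chevF4) gs C) (h2 : Codes (enum chevF4) hs D)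
    (h3 : ¬ appL C (2 ^ 0) = appL D (2 ^ 0)) : g ≠ h := by
  subst hg hh
  intro he
  apply h3
  have hp : (0 : ℕ) < (enum chevF4).n := by decide
  refine dec_inj (enum chevF4) (appL_spec h1 (two_lt hp)).1 (appL_spec h2 (two_lt hp)).1 ?_
  rw [(appL_spec h1 (two_lt hp)).2, (appL_spec h2 (two_lt hp)).2, he]

theorem t_ne : el (ZMod 2) tW ≠ el (ZMod 2) sW :=
  ne_of_codes (gs := [el (ZMod 2) tW]) (hs := [el (ZMod 2) sW]) (by simp) (by simp)
    (.cons (codeOf (w := tW) (by decide) prodT) .nil) (.cons (codeOf (w := sW) (by decide) prodS) .nil)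
    (by decide +kernel)

theorem t_ne2 : el (ZMod 2) tW ≠ el (ZMod 2) sW ^ 2 :=
  ne_of_codes (gs := [el (ZMod 2) tW]) (hs := [el (ZMod 2) sW, el (ZMod 2) sW]) (by simp) (by simp [sq])
    (.cons (codeOf (w := tW) (by decide) prodT) .nil)
    (.cons (codeOf (w := sW) (by decide) prodS) (.cons (codeOf (w := sW) (by decide) prodS) .nil))
    (by decide +kernel)

theorem mem_of {w : List ℕ} (hw : ∀ k ∈ ex w, k < 12) {x : ↥(commutator ↥T4)}
    (hx : ((x : ↥T4) : GL chevF4.Idx (ZMod 2)) = el (ZMod 2) w)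
    (h : appL (cds (ex w)) 9908489551873 = 9908489551873) : x ∈ E := by
  rw [mem_E, hx, mulVec_el w hw, h]
  rfl

theorem not_mem_of {w : List ℕ} (hw : ∀ k ∈ ex w, k < 12) {x : ↥(commutator ↥T4)}
    (hx : ((x : ↥T4) : GL chevF4.Idx (ZMod 2)) = el (ZMod 2) w)
    (h : appL (cds (ex w)) 9908489551873 ≠ 9908489551873) : x ∉ E := by
  intro hxE
  rw [mem_E, hx, mulVec_el w hw] at hxE
  have h1 := appL_spec (codes (ex w) hw) (v := 9908489551873) (by decide)
  exact h (dec_inj (enum chevF4) h1.1 (by decide) hxE)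

theorem order_coe {x : ↥(commutator ↥T4)} {g : GL chevF4.Idx (ZMod 2)}
    (hx : ((x : ↥T4) : GL chevF4.Idx (ZMod 2)) = g) : orderOf x = orderOf g := by
  rw [← hx, Subgroup.orderOf_coe, Subgroup.orderOf_coe]

theorem main : ∃ E : Subgroup TitsGroup, E ≠ ⊤ ∧ 45 ∣ Nat.card E := by
  have hfin : Finite TitsGroup := Nat.finite_of_card_ne_zero (by rw [H92.ExcTits.card_tits]; norm_num)
  have hfin' : Finite ↥(commutator ↥T4) := hfin
  obtain ⟨s, hs⟩ := exists_odd (w := sW) (by decide) (n := 1) os
  obtain ⟨t, ht⟩ := exists_odd (w := tW) (by decide) (n := 1) ot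
  obtain ⟨c, hc⟩ := exists_odd (w := cW) (by decide) (n := 2) oc
  obtain ⟨x, hx⟩ := exists_odd (w := xW) (by decide) (n := 6) o13
  refine ⟨E, fun h => ?_, ?_⟩
  · refine not_mem_of (w := xW) (by decide) hx (by decide +kernel) ?_
    rw [h]
    exact Subgroup.mem_top x
  · have hsE : s ∈ E := mem_of (w := sW) (by decide) hs (by decide +kernel)
    have htE : t ∈ E := mem_of (w := tW) (by decide) ht (by decide +kernel)
    have hcE : c ∈ E := mem_of (w := cW) (by decide) hc (by decide +kernel)
    have h9 : 9 ∣ Nat.card E := by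
      refine nine_dvd (s := (⟨s, hsE⟩ : E)) (t := ⟨t, htE⟩) ?_ ?_ ?_ ?_ ?_
      · rw [← Subgroup.orderOf_coe, order_coe hs, os]
      · rw [← Subgroup.orderOf_coe, order_coe ht, ot]
      · refine Subtype.ext (Subtype.ext (Subtype.ext ?_))
        show ((s : ↥T4) : GL chevF4.Idx (ZMod 2)) * ((t : ↥T4) : GL chevF4.Idx (ZMod 2)) =
          ((t : ↥T4) : GL chevF4.Idx (ZMod 2)) * ((s : ↥T4) : GL chevF4.Idx (ZMod 2))
        rw [hs, ht]
        exact st_comm
      · intro h
        have h1 : t = s := congrArg Subtype.val h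
        apply t_ne
        rw [← hs, ← ht, h1]
      · intro h
        have h1 : t = s ^ 2 := congrArg Subtype.val h
        apply t_ne2
        rw [← hs, ← ht, h1]
        rfl
    have h5 : 5 ∣ Nat.card E := by
      have h1 : orderOf (⟨c, hcE⟩ : E) = 5 := by rw [← Subgroup.orderOf_coe, order_coe hc, oc]
      rw [← h1]
      exact orderOf_dvd_natCard _
    exact Nat.Coprime.mul_dvd_of_dvd_of_dvd (by norm_num : Nat.Coprime 9 5) h9 h5

end Cfsg.Agent.H933.TitsE
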