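import Cfsg.Agent.H940.MaxCls
import Cfsg.Agent.H235.TitsRow
import Cfsg.Agent.S1074
import Cfsg.Agent.H933.TitsBN
import Cfsg.Agent.H933.TitsE

/-!
# The Tits group has at least five classes of maximal subgroups (row of S5906, S5907)
-/

set_option autoImplicit false
set_option linter.unusedSectionVars false

namespace Cfsg.Agent.H933.TitsSep

open Subgroup Cfsg Cfsg.Agent.H940.MaxCls Cfsg.Agent.H235.TitsIdx

universe u

/-! ### Sylow subgroups with trivial intersections -/

section ti

variable {X : Type*} [Group X] [Finite X] {p : ℕ} [Fact p.Prime]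

theorem smul_self {P : Sylow p X} {g : X} (hg : g ∈ (P : Subgroup X)) : g • P = P :=
  Sylow.smul_eq_iff_mem_normalizer.2 (le_normalizer hg)

/-- the other Sylow subgroups -/
def others (P : Sylow p X) : SubMulAction (P : Subgroup X) (Sylow p X) where
  carrier := {Q | Q ≠ P}
  smul_mem' := by
    intro g Q hQ h
    apply hQ
    have h1 : (g : X) • P = P := smul_self g.2
    have h2 : (g : X) • Q = (g : X) • P := by rw [h1]; exact h
    exact MulAction.injective (g : X) h2

theorem card_ti (P : Sylow p X)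
    (h : ∀ Q : Sylow p X, Q ≠ P → ∀ y ∈ (P : Subgroup X), y ∈ (Q : Subgroup X) → y = 1) :
    ∃ k, Nat.card (Sylow p X) = k * Nat.card (P : Subgroup X) + 1 := by
  classical
  have hst : ∀ b : others P, MulAction.stabilizer (P : Subgroup X) b = ⊥ := by
    rintro ⟨Q, hQ⟩
    rw [eq_bot_iff]
    intro g hg
    have h1 : g • (⟨Q, hQ⟩ : others P) = ⟨Q, hQ⟩ := hg
    have h2 : (g : X) • Q = Q := congrArg Subtype.val h1
    have h3 := Sylow.smul_eq_iff_mem_normalizer.1 h2
    have h4 : (g : X) ∈ (P : Subgroup X) ⊓ normalizer (Q : Set X) := ⟨g.2, h3⟩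
    rw [P.2.inf_normalizer_sylow Q] at h4
    exact mem_bot.2 (Subtype.ext (h Q hQ g g.2 h4.2))
  have h1 : Nat.card (others P) = Nat.card (Quotient (MulAction.orbitRel (P : Subgroup X) (others P))) *
      Nat.card (P : Subgroup X) := by
    rw [← Nat.card_prod]
    exact Nat.card_congr (MulAction.selfEquivOrbitsQuotientProd hst)
  refine ⟨Nat.card (Quotient (MulAction.orbitRel (P : Subgroup X) (others P))), ?_⟩
  rw [← h1]
  have h2 : Nat.card (Sylow p X) = Nat.card {Q : Sylow p X // Q = P} + Nat.card {Q : Sylow p X // ¬ Q = P} := by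
    rw [← Nat.card_sum]
    exact Nat.card_congr (Equiv.sumCompl _).symm
  have h3 : Nat.card {Q : Sylow p X // Q = P} = 1 := by
    rw [Nat.card_eq_one_iff_unique]
    exact ⟨⟨fun a b => Subtype.ext (a.2.trans b.2.symm)⟩, ⟨⟨P, rfl⟩⟩⟩
  rw [h2, h3, add_comm]
  rfl

/-- Sylow subgroups of an overgroup of the normalizer -/
theorem card_sylow_eq (P : Sylow p X) {K : Subgroup X} (h : normalizer ((P : Subgroup X) : Set X) ≤ K) :
    Nat.card (Sylow p K) = (normalizer ((P : Subgroup X) : Set X)).relIndex K := by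
  have hPK : (P : Subgroup X) ≤ K := Subgroup.le_normalizer.trans h
  rw [Sylow.card_eq_index_normalizer (P.subtype hPK)]
  unfold Subgroup.relIndex
  congr 1
  ext x
  change x ∈ Subgroup.normalizer (((P.subtype hPK : Sylow p K) : Subgroup K) : Set K) ↔ _
  rw [Subgroup.mem_subgroupOf, Subgroup.mem_normalizer_iff, Subgroup.mem_normalizer_iff]
  constructor
  · intro hx y
    constructor
    · intro hy
      have := (hx ⟨y, hPK hy⟩).1 (by simpa [Sylow.coe_subtype, Subgroup.mem_subgroupOf] using hy)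
      simpa [Sylow.coe_subtype, Subgroup.mem_subgroupOf] using this
    · intro hy
      have hyK : y ∈ K := by
        have := K.mul_mem (K.mul_mem (K.inv_mem x.2) (hPK hy)) x.2
        have h3 : (x : X)⁻¹ * ((x : X) * y * (x : X)⁻¹) * (x : X) = y := by group
        rwa [h3] at this
      have := (hx ⟨y, hyK⟩).2 (by simpa [Sylow.coe_subtype, Subgroup.mem_subgroupOf] using hy)
      simpa [Sylow.coe_subtype, Subgroup.mem_subgroupOf] using this
  · intro hx y
    have := hx (y : X)
    simpa [Sylow.coe_subtype, Subgroup.mem_subgroupOf] using this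

/-- conjugates of normalizers of Sylow subgroups -/
theorem normalizer_smul_le (R : Sylow p X) {g : X} {K : Subgroup X}
    (h2 : ∀ x ∈ normalizer ((R : Subgroup X) : Set X), g * x * g⁻¹ ∈ K) :
    normalizer (((g • R : Sylow p X) : Subgroup X) : Set X) ≤ K := by
  intro x hx
  have h3 : g⁻¹ * x * g ∈ Subgroup.normalizer ((R : Subgroup X) : Set X) := by
    rw [Subgroup.mem_normalizer_iff] at hx ⊢
    intro y
    have h4 := hx (g * y * g⁻¹)
    have e1 : (g * y * g⁻¹ ∈ (((g • R : Sylow p X) : Subgroup X) : Set X)) ↔ y ∈ (R : Subgroup X) := by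
      rw [SetLike.mem_coe, Sylow.coe_subgroup_smul, Subgroup.mem_pointwise_smul_iff_inv_smul_mem]
      have : (MulAut.conj g)⁻¹ • (g * y * g⁻¹) = y := by
        rw [← map_inv]
        show g⁻¹ * (g * y * g⁻¹) * g⁻¹⁻¹ = y
        group
      rw [this]
    have e2 : (x * (g * y * g⁻¹) * x⁻¹ ∈ (((g • R : Sylow p X) : Subgroup X) : Set X)) ↔
        g⁻¹ * x * g * y * (g⁻¹ * x * g)⁻¹ ∈ (R : Subgroup X) := by
      rw [SetLike.mem_coe, Sylow.coe_subgroup_smul, Subgroup.mem_pointwise_smul_iff_inv_smul_mem]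
      have : (MulAut.conj g)⁻¹ • (x * (g * y * g⁻¹) * x⁻¹) = g⁻¹ * x * g * y * (g⁻¹ * x * g)⁻¹ := by
        rw [← map_inv]
        show g⁻¹ * (x * (g * y * g⁻¹) * x⁻¹) * g⁻¹⁻¹ = _
        group
      rw [this]
    rw [SetLike.mem_coe] at e1 e2
    exact (e1.symm.trans h4).trans e2
  have h5 := h2 _ h3
  have h6 : g * (g⁻¹ * x * g) * g⁻¹ = x := by group
  rwa [h6] at h5

end ti

section tits

variable {G : Type u} [Group G] [Finite G] (F : Facts G)

include F

/-- the normalizer of a Sylow 13-subgroup -/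
theorem exists_thirteen [Fact (Nat.Prime 13)] : ∃ P : Sylow 13 G,
    Nat.card (normalizer ((P : Subgroup G) : Set G)) = 78 := by
  obtain ⟨D⟩ := F.dat
  obtain ⟨P, hP⟩ := Facts.exists_sylow_x F D
  refine ⟨P, ?_⟩
  have f2 : Fact (Nat.Prime 2) := ⟨by norm_num⟩
  have f5 : Fact (Nat.Prime 5) := ⟨by norm_num⟩
  have hx := Facts.order_x D
  have hxP : D.x ∈ (P : Subgroup G) := by rw [hP]; exact mem_zpowers _
  have hcP : Nat.card (P : Subgroup G) = 13 := by rw [hP, Nat.card_zpowers, hx]
  set C := centralizer ((P : Subgroup G) : Set G) with hC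
  set N := normalizer ((P : Subgroup G) : Set G) with hN
  have hC2 : ¬ 2 ∣ Nat.card C := by
    intro h
    obtain ⟨t, ht⟩ := exists_prime_orderOf_dvd_card' (G := C) 2 h
    have h1 := mem_centralizer_iff.1 t.2 D.x hxP
    exact F.na D.x t hx (by rw [Subgroup.orderOf_coe, ht]) h1
  have hC5 : ¬ 5 ∣ Nat.card C := by
    intro h
    obtain ⟨y, hy⟩ := exists_prime_orderOf_dvd_card' (G := C) 5 h
    have h1 := mem_centralizer_iff.1 y.2 D.x hxP
    have h2 := F.cent y (by rw [Subgroup.orderOf_coe, hy])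
    have h3 : D.x ∈ centralizer ({(y : G)} : Set G) := mem_centralizer_singleton_iff.2 h1
    have h4 := Subgroup.orderOf_dvd_natCard _ h3
    rw [h2, hx] at h4
    revert h4; norm_num
  have hCd : Nat.card C ∣ 351 := by
    have h1 : Nat.card C ∣ 17971200 := by rw [← F.card]; exact C.card_subgroup_dvd_card
    have h2 : Nat.Coprime (Nat.card C) (2 ^ 11 * 5 ^ 2) :=
      Nat.Coprime.mul_right (Nat.Coprime.pow_right _ ((Nat.Prime.coprime_iff_not_dvd Nat.prime_two).2 hC2).symm)
        (Nat.Coprime.pow_right _ ((Nat.Prime.coprime_iff_not_dvd Nat.prime_five).2 hC5).symm)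
    refine h2.dvd_of_dvd_mul_left ?_
    exact h1
  have hcyc : IsCyclic (P : Subgroup G) := by
    rw [hP]; infer_instance
  have key : (C.subgroupOf N).index ∣ 12 := by
    have h1 := card_dvd_of_injective _ (QuotientGroup.kerLift_injective (P : Subgroup G).normalizerMonoidHom)
    rw [normalizerMonoidHom_ker, ← Subgroup.index, hcyc.card_mulAut, hcP] at h1
    have e : Nat.totient 13 = 12 := by rw [Nat.totient_prime (by norm_num)]
    rwa [e] at h1
  have hN1 : Nat.card N ∣ 4212 := by
    rw [← (C.subgroupOf N).card_mul_index]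
    exact mul_dvd_mul ((card_subgroupOf_dvd C N).trans hCd) key
  have hN2 : Nat.card N * N.index = 17971200 := by rw [← F.card]; exact N.card_mul_index
  have hN3 : N.index % 13 = 1 := by
    have h1 := card_sylow_modEq_one 13 G
    rw [P.card_eq_index_normalizer] at h1
    exact h1
  have hN4 : 13 ∣ Nat.card N := by
    rw [← hcP]
    exact Subgroup.card_dvd_of_le Subgroup.le_normalizer
  have hpos : 0 < Nat.card N := Nat.card_pos
  have hmem : Nat.card N ∈ (Nat.divisors 4212).filter (fun m => 17971200 % m = 0 ∧ m % 13 = 0 ∧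
      (17971200 / m) % 13 = 1) := by
    rw [Finset.mem_filter, Nat.mem_divisors]
    refine ⟨⟨hN1, by norm_num⟩, ?_, Nat.mod_eq_zero_of_dvd hN4, ?_⟩
    · rw [← hN2]; exact Nat.mul_mod_right _ _
    · rw [← hN2, Nat.mul_div_cancel_left _ hpos, hN3]
  have hchk : (Nat.divisors 4212).filter (fun m => 17971200 % m = 0 ∧ m % 13 = 0 ∧
      (17971200 / m) % 13 = 1) = {78} := by decide +kernel
  rw [hchk] at hmem
  exact Finset.mem_singleton.1 hmem

/-- the normalizer of a Sylow 5-subgroup -/
theorem card_five [Fact (Nat.Prime 5)] (Q : Sylow 5 G) :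
    Nat.card (normalizer ((Q : Subgroup G) : Set G)) = 1200 := by
  classical
  set N := normalizer ((Q : Subgroup G) : Set G) with hN
  have hQ : (Q : Subgroup G) ≠ ⊥ := by
    intro h
    have := F.card_syl Q
    rw [h, Subgroup.card_bot] at this
    omega
  obtain ⟨y, hy, hy1⟩ := (Q : Subgroup G).bot_or_exists_ne_one.resolve_left hQ
  have ho := F.order_syl Q hy hy1
  -- `N` controls
  have hmem : ∀ g : G, ∀ a ∈ (Q : Subgroup G), a ≠ 1 → g * a * g⁻¹ ∈ (Q : Subgroup G) → g ∈ N := by
    intro g a ha ha1 hg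
    have h1 : g * a * g⁻¹ ∈ ((g • Q : Sylow 5 G) : Subgroup G) := by
      rw [Sylow.coe_subgroup_smul]
      exact Subgroup.smul_mem_pointwise_smul _ _ _ ha
    have h2 : g * a * g⁻¹ ≠ 1 := by
      intro h
      apply ha1
      have : a = g⁻¹ * (g * a * g⁻¹) * g := by group
      rw [this, h]; group
    exact Sylow.smul_eq_iff_mem_normalizer.1 (F.ti (g • Q) Q h1 hg h2)
  have hC : centralizer ({y} : Set G) ≤ N := by
    intro c hc
    refine hmem c y hy hy1 ?_
    have h1 := mem_centralizer_singleton_iff.1 hc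
    have : c * y * c⁻¹ = y := by rw [h1]; group
    rwa [this]
  -- orbit of `y`
  let Y : Type u := {a : G // a ∈ (Q : Subgroup G) ∧ a ≠ 1}
  let act : MulAction N Y :=
    { smul := fun g a => ⟨(g : G) * a.1 * (g : G)⁻¹, (mem_normalizer_iff.1 g.2 _).1 a.2.1, fun h => a.2.2 (by
        have : a.1 = (g : G)⁻¹ * ((g : G) * a.1 * (g : G)⁻¹) * g := by group
        rw [this, h]; group)⟩
      one_smul := fun a => Subtype.ext (by show (1 : G) * a.1 * (1 : G)⁻¹ = a.1; group)
      mul_smul := fun g h a => Subtype.ext (by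
        show ((g * h : N) : G) * a.1 * ((g * h : N) : G)⁻¹ = g * (h * a.1 * (h : G)⁻¹) * (g : G)⁻¹
        rw [Subgroup.coe_mul]; group) }
  have hsm : ∀ (g : N) (a : Y), (g • a).1 = (g : G) * a.1 * (g : G)⁻¹ := fun _ _ => rfl
  let y0 : Y := ⟨y, hy, hy1⟩
  have hor : MulAction.orbit N y0 = Set.univ := by
    rw [Set.eq_univ_iff_forall]
    rintro ⟨a, ha, ha1⟩
    obtain ⟨g, hg⟩ := isConj_iff.1 (F.one y a ho (F.order_syl Q ha ha1))
    have hgN : g ∈ N := hmem g y hy hy1 (by rwa [hg])
    exact ⟨⟨g, hgN⟩, Subtype.ext hg⟩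
  have h1 := (MulAction.stabilizer N y0).card_mul_index
  rw [MulAction.index_stabilizer, hor, Set.ncard_univ] at h1
  have h2 : Nat.card Y = 24 := by
    have h3 : Nat.card (Q : Subgroup G) = Nat.card {a : (Q : Subgroup G) // a = 1} +
        Nat.card {a : (Q : Subgroup G) // ¬ a = 1} := by
      rw [← Nat.card_sum]
      exact Nat.card_congr (Equiv.sumCompl _).symm
    have h4 : Nat.card {a : (Q : Subgroup G) // a = 1} = 1 := by
      rw [Nat.card_eq_one_iff_unique]
      exact ⟨⟨fun a b => Subtype.ext (a.2.trans b.2.symm)⟩, ⟨⟨1, rfl⟩⟩⟩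
    have h5 : Nat.card {a : (Q : Subgroup G) // ¬ a = 1} = Nat.card Y :=
      Nat.card_congr
        { toFun := fun a => ⟨a.1.1, a.1.2, fun h => a.2 (Subtype.ext h)⟩
          invFun := fun a => ⟨⟨a.1, a.2.1⟩, fun h => a.2.2 (congrArg Subtype.val h)⟩
          left_inv := fun _ => rfl
          right_inv := fun _ => rfl }
    rw [F.card_syl Q, h4, h5] at h3
    omega
  have h3 : Nat.card (MulAction.stabilizer N y0) = 50 := by
    rw [← F.cent y ho]
    refine Nat.card_congr
      { toFun := fun g => ⟨g.1.1, mem_centralizer_singleton_iff.2 ?_⟩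
        invFun := fun g => ⟨⟨g.1, hC g.2⟩, ?_⟩
        left_inv := fun _ => rfl
        right_inv := fun _ => rfl }
    · have h4 : (g.1.1 : G) * y * (g.1.1 : G)⁻¹ = y := congrArg Subtype.val (MulAction.mem_stabilizer_iff.1 g.2)
      exact mul_inv_eq_iff_eq_mul.1 h4
    · refine MulAction.mem_stabilizer_iff.2 (Subtype.ext ?_)
      show (g.1 : G) * y * (g.1 : G)⁻¹ = y
      exact mul_inv_eq_iff_eq_mul.2 (mem_centralizer_singleton_iff.1 g.2)
  rw [h2, h3] at h1
  omega

/-- the number of Sylow 5-subgroups of a subgroup of order divisible by 25 -/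
theorem five_sub {K : Subgroup G} (hK : 25 ∣ Nat.card K) :
    ∃ k m, Nat.card K = (k * 25 + 1) * m ∧ m ∣ 1200 := by
  have f5 : Fact (Nat.Prime 5) := ⟨Nat.prime_five⟩
  have hle : ∀ R : Sylow 5 K, ∃ R' : Sylow 5 G, (R' : Subgroup G) = (R : Subgroup K).map K.subtype := by
    intro R
    have h1 : IsPGroup 5 ((R : Subgroup K).map K.subtype) := R.2.map _
    obtain ⟨Q, hQ⟩ := h1.exists_le_sylow
    refine ⟨Q, ?_⟩
    have hi := R.not_dvd_index
    have hmul := (R : Subgroup K).card_mul_index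
    have h2 : 25 ∣ Nat.card (R : Subgroup K) := by
      have h4 : Nat.Coprime 25 ((R : Subgroup K).index) := by
        have : Nat.Coprime (5 ^ 2) ((R : Subgroup K).index) :=
          Nat.Coprime.pow_left _ ((Nat.Prime.coprime_iff_not_dvd Nat.prime_five).2 hi)
        simpa using this
      refine h4.dvd_of_dvd_mul_right ?_
      rw [hmul]
      exact hK
    have h3 : Nat.card ((R : Subgroup K).map K.subtype) = Nat.card (R : Subgroup K) :=
      Nat.card_congr (Subgroup.equivMapOfInjective _ _ K.subtype_injective).toEquiv.symm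
    refine (Subgroup.eq_of_le_of_card_ge hQ ?_).symm
    rw [F.card_syl Q, h3]
    exact Nat.le_of_dvd Nat.card_pos h2
  obtain ⟨R⟩ : Nonempty (Sylow 5 K) := inferInstance
  obtain ⟨R', hR'⟩ := hle R
  have hti : ∀ Q : Sylow 5 K, Q ≠ R → ∀ y ∈ (R : Subgroup K), y ∈ (Q : Subgroup K) → y = 1 := by
    intro Q hQR y hy hy'
    by_contra h1
    obtain ⟨Q', hQ'⟩ := hle Q
    have h2 : (y : G) ∈ (R' : Subgroup G) := by rw [hR']; exact mem_map_of_mem _ hy
    have h3 : (y : G) ∈ (Q' : Subgroup G) := by rw [hQ']; exact mem_map_of_mem _ hy'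
    have h4 := F.ti R' Q' h2 h3 fun h => h1 (Subtype.ext h)
    apply hQR
    apply Sylow.ext
    apply Subgroup.map_injective K.subtype_injective
    rw [← hQ', ← hR', h4]
  obtain ⟨k, hk⟩ := card_ti R hti
  have hcR : Nat.card (R : Subgroup K) = 25 := by
    rw [← F.card_syl R', hR']
    exact Nat.card_congr (Subgroup.equivMapOfInjective _ _ K.subtype_injective).toEquiv
  rw [hcR] at hk
  refine ⟨k, Nat.card (normalizer ((R : Subgroup K) : Set K)), ?_, ?_⟩
  · rw [← hk, R.card_eq_index_normalizer, mul_comm]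
    exact (normalizer ((R : Subgroup K) : Set K)).card_mul_index.symm
  · rw [← card_five F R']
    have h1 : Nat.card (normalizer ((R : Subgroup K) : Set K)) =
        Nat.card ((normalizer ((R : Subgroup K) : Set K)).map K.subtype) :=
      Nat.card_congr (Subgroup.equivMapOfInjective _ _ K.subtype_injective).toEquiv
    rw [h1]
    apply Subgroup.card_dvd_of_le
    rw [hR']
    rintro _ ⟨x, hx, rfl⟩
    rw [mem_normalizer_iff]
    intro z
    have hx' := mem_normalizer_iff.1 hx
    constructor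
    · rintro ⟨w, hw, rfl⟩
      exact ⟨x * w * x⁻¹, (hx' w).1 hw, rfl⟩
    · rintro ⟨w, hw, hwz⟩
      refine ⟨x⁻¹ * w * x, (hx' _).2 ?_, ?_⟩
      · have : x * (x⁻¹ * w * x) * x⁻¹ = w := by group
        rw [this]; exact hw
      · have h2 : (w : G) = x * z * (x : G)⁻¹ := hwz
        show (x : G)⁻¹ * w * x = z
        rw [h2]; group

/-- the index of an overgroup of the normalizer of a Sylow 5-subgroup -/
theorem index_mod25 [Fact (Nat.Prime 5)] (Q : Sylow 5 G) {K : Subgroup G}
    (h : normalizer ((Q : Subgroup G) : Set G) ≤ K) : K.index % 25 = 1 := by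
  have hQK : (Q : Subgroup G) ≤ K := le_normalizer.trans h
  have h1 := card_sylow_eq Q h
  have hti : ∀ R : Sylow 5 K, R ≠ Q.subtype hQK → ∀ y ∈ ((Q.subtype hQK : Sylow 5 K) : Subgroup K),
      y ∈ (R : Subgroup K) → y = 1 := by
    intro R hR y hy hy'
    by_contra h1
    have hcR : Nat.card ((R : Subgroup K).map K.subtype) = 25 := by
      rw [← F.card_syl Q]
      have h3 : Nat.card (R : Subgroup K) = Nat.card ((Q.subtype hQK : Sylow 5 K) : Subgroup K) :=
        Nat.card_congr (Sylow.equiv R (Q.subtype hQK)).toEquiv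
      rw [Nat.card_congr (Subgroup.equivMapOfInjective _ _ K.subtype_injective).toEquiv.symm, h3]
      exact Nat.card_congr (Subgroup.subgroupOfEquivOfLe hQK).toEquiv
    obtain ⟨R', hR'⟩ := (R.2.map K.subtype).exists_le_sylow
    have hR'' : (R : Subgroup K).map K.subtype = R' :=
      Subgroup.eq_of_le_of_card_ge hR' (by rw [F.card_syl R', hcR])
    have h2 : (y : G) ∈ (Q : Subgroup G) := hy
    have h3 : (y : G) ∈ (R' : Subgroup G) := by rw [← hR'']; exact mem_map_of_mem _ hy'
    have h4 := F.ti Q R' h2 h3 fun h => h1 (Subtype.ext h)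
    apply hR
    apply Sylow.ext
    apply Subgroup.map_injective K.subtype_injective
    rw [hR'', ← h4]
    exact (Subgroup.map_subgroupOf_eq_of_le hQK).symm
  obtain ⟨k, hk⟩ := card_ti _ hti
  have hc : Nat.card ((Q.subtype hQK : Sylow 5 K) : Subgroup K) = 25 := by
    rw [← F.card_syl Q]
    exact Nat.card_congr (Subgroup.subgroupOfEquivOfLe hQK).toEquiv
  rw [hc, h1] at hk
  have h2 := Subgroup.relIndex_mul_index h
  have h3 := (normalizer ((Q : Subgroup G) : Set G)).card_mul_index
  rw [card_five F Q, F.card, ← h2, hk] at h3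
  have h4 : (k * 25 + 1) * K.index = 14976 := by omega
  have h5 : K.index = 25 * (599 - k * K.index) + 1 ∨ True := Or.inr trivial
  have h6 : k * 25 * K.index + K.index = 14976 := by rw [← h4]; ring
  have h7 : k * 25 * K.index = 25 * (k * K.index) := by ring
  rw [h7] at h6
  omega

end tits

/-! ### the arithmetic -/

theorem chk_AB : ((Nat.divisors 1152).filter fun n => n % 13 = 1 ∧ n % 25 = 1) = {1} := by decide +kernel

theorem chk_BE : ((Nat.divisors 4992).filter fun n => n % 25 = 1 ∧ 42 ≤ n) = ∅ := by decide +kernel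

theorem chk_AE : ((Nat.divisors 15360).filter fun n => n % 13 = 1 ∧ 42 ≤ n) = {768} := by decide +kernel

theorem chk_AE' : ((Nat.divisors 1200).filter fun m => 23400 % m = 0 ∧ (23400 / m) % 25 = 1) = ∅ := by decide +kernel

section main

variable {G : Type u} [Group G] [Finite G] [IsSimpleGroup G] (F : Facts G)

include F

/-- index and order -/
theorem index_dvd {K : Subgroup G} {m n : ℕ} (hm : m ∣ Nat.card K) (h : m * n = 17971200) : K.index ∣ n := by
  have h1 : Nat.card K * K.index = 17971200 := by rw [← F.card]; exact K.card_mul_index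
  obtain ⟨c, hc⟩ := hm
  have hm0 : 0 < m := by
    rcases Nat.eq_zero_or_pos m with h0 | h0
    · rw [h0] at h; omega
    · exact h0
  refine ⟨c, ?_⟩
  rw [hc, mul_assoc, ← h] at h1
  have := Nat.eq_of_mul_eq_mul_left hm0 h1
  rw [← this, mul_comm]

theorem apart_AB [Fact (Nat.Prime 13)] [Fact (Nat.Prime 5)] {P : Sylow 13 G}
    (hP : Nat.card (normalizer ((P : Subgroup G) : Set G)) = 78) (Q : Sylow 5 G) :
    Apart (normalizer ((P : Subgroup G) : Set G)) (normalizer ((Q : Subgroup G) : Set G)) := by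
  intro g K h1 h2
  have h3 : normalizer (((g • Q : Sylow 5 G) : Subgroup G) : Set G) ≤ K := normalizer_smul_le Q h2
  have i13 := index_modEq_one P h1
  have i25 := index_mod25 F (g • Q) h3
  have d1 : 78 ∣ Nat.card K := by rw [← hP]; exact Subgroup.card_dvd_of_le h1
  have d2 : 1200 ∣ Nat.card K := by rw [← card_five F (g • Q)]; exact Subgroup.card_dvd_of_le h3
  have d3 : 15600 ∣ Nat.card K := by
    have : Nat.lcm 78 1200 = 15600 := by decide +kernel
    rw [← this]; exact Nat.lcm_dvd d1 d2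
  have d4 : K.index ∣ 1152 := index_dvd F d3 (by norm_num)
  have hmem : K.index ∈ ((Nat.divisors 1152).filter fun n => n % 13 = 1 ∧ n % 25 = 1) := by
    rw [Finset.mem_filter, Nat.mem_divisors]
    exact ⟨⟨d4, by norm_num⟩, i13, i25⟩
  rw [chk_AB, Finset.mem_singleton] at hmem
  exact Subgroup.index_eq_one.1 hmem

theorem apart_BE [Fact (Nat.Prime 5)] (Q : Sylow 5 G) {E : Subgroup G} (hE : 45 ∣ Nat.card E) :
    Apart (normalizer ((Q : Subgroup G) : Set G)) E := by
  refine apart_of_card' fun K h1 h2 => ?_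
  by_contra hK
  have h42 := F.le_index hK
  have i25 := index_mod25 F Q h1
  have d2 : 1200 ∣ Nat.card K := by rw [← card_five F Q]; exact Subgroup.card_dvd_of_le h1
  have d3 : 3600 ∣ Nat.card K := by
    have : Nat.lcm 1200 45 = 3600 := by decide +kernel
    rw [← this]; exact Nat.lcm_dvd d2 (hE.trans h2)
  have d4 : K.index ∣ 4992 := index_dvd F d3 (by norm_num)
  have hmem : K.index ∈ ((Nat.divisors 4992).filter fun n => n % 25 = 1 ∧ 42 ≤ n) := by
    rw [Finset.mem_filter, Nat.mem_divisors]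
    exact ⟨⟨d4, by norm_num⟩, i25, h42⟩
  rw [chk_BE] at hmem
  exact absurd hmem (Finset.notMem_empty _)

theorem apart_AE [Fact (Nat.Prime 13)] {P : Sylow 13 G}
    (hP : Nat.card (normalizer ((P : Subgroup G) : Set G)) = 78) {E : Subgroup G} (hE : 45 ∣ Nat.card E) :
    Apart (normalizer ((P : Subgroup G) : Set G)) E := by
  refine apart_of_card' fun K h1 h2 => ?_
  by_contra hK
  have h42 := F.le_index hK
  have i13 := index_modEq_one P h1
  have d1 : 78 ∣ Nat.card K := by rw [← hP]; exact Subgroup.card_dvd_of_le h1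
  have d3 : 1170 ∣ Nat.card K := by
    have : Nat.lcm 78 45 = 1170 := by decide +kernel
    rw [← this]; exact Nat.lcm_dvd d1 (hE.trans h2)
  have d4 : K.index ∣ 15360 := index_dvd F d3 (by norm_num)
  have hmem : K.index ∈ ((Nat.divisors 15360).filter fun n => n % 13 = 1 ∧ 42 ≤ n) := by
    rw [Finset.mem_filter, Nat.mem_divisors]
    exact ⟨⟨d4, by norm_num⟩, i13, h42⟩
  rw [chk_AE, Finset.mem_singleton] at hmem
  have hc : Nat.card K = 23400 := by
    have h3 : Nat.card K * K.index = 17971200 := by rw [← F.card]; exact K.card_mul_index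
    rw [hmem] at h3
    omega
  obtain ⟨k, m, h3, h4⟩ := five_sub F (K := K) (by rw [hc]; norm_num)
  have hm0 : 0 < m := Nat.pos_of_dvd_of_pos h4 (by norm_num)
  rw [hc] at h3
  have hmem : m ∈ ((Nat.divisors 1200).filter fun m => 23400 % m = 0 ∧ (23400 / m) % 25 = 1) := by
    rw [Finset.mem_filter, Nat.mem_divisors]
    refine ⟨⟨h4, by norm_num⟩, ?_, ?_⟩
    · rw [h3]; exact Nat.mul_mod_left _ _
    · rw [h3, Nat.mul_div_cancel _ hm0]; omega
  rw [chk_AE'] at hmem
  exact absurd hmem (Finset.notMem_empty _)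

/-- pairs generating a subgroup of odd index -/
theorem apart_odd (O : TitsBN.Odd2 G) {A B : Subgroup G} {a b : ℕ} (ha : a ∣ Nat.card A) (hb : b ∣ Nat.card B)
    (h2 : 2 ^ 11 ∣ Nat.lcm a b) (h3 : ¬ Nat.lcm a b ∣ 2 ^ 11 * 3) (h5 : ¬ Nat.lcm a b ∣ 2 ^ 11 * 5) : Apart A B := by
  refine apart_of_card fun K h6 h7 => ?_
  by_contra hK
  have h8 : Nat.lcm a b ∣ Nat.card K := Nat.lcm_dvd (ha.trans h6) (hb.trans h7)
  have h9 : K.index ∣ 8775 := index_dvd F (h2.trans h8) (by norm_num)
  have h10 : ¬ 2 ∣ K.index := fun h => absurd (h.trans h9) (by norm_num)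
  rcases O.1 K hK h10 with h | h
  · exact h3 (h8.trans h)
  · exact h5 (h8.trans h)

end main

theorem ne_top_of_card {X : Type*} [Group X] {A : Subgroup X} (h : Nat.card A ≠ Nat.card X) : A ≠ ⊤ := by
  rintro rfl
  exact h Subgroup.card_top

theorem simple_equiv {X : Type*} {Y : Type*} [Group X] [Group Y] (h : IsSimpleGroup Y) (e : X ≃* Y) :
    IsSimpleGroup X :=
  e.isSimpleGroup

theorem simple_tits {G : Type u} [Group G] (h : Lie.IsoTits G) : IsSimpleGroup G := by
  obtain ⟨e⟩ := h
  exact simple_equiv Cfsg.Agent.S1074.result.2.1 e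

theorem finite_equiv {X : Type*} {Y : Type*} {n : ℕ} (h : Nat.card Y = n) (hn : n ≠ 0) (e : X ≃ Y) : Finite X :=
  Nat.finite_of_card_ne_zero (by rw [Nat.card_congr e, h]; exact hn)

theorem exists_transfer {X : Type*} {Y : Type*} [Group X] [Group Y] {n : ℕ}
    (h : ∃ E : Subgroup Y, E ≠ ⊤ ∧ n ∣ Nat.card E) (e : X ≃* Y) : ∃ E : Subgroup X, E ≠ ⊤ ∧ n ∣ Nat.card E := by
  obtain ⟨E, h1, h2⟩ := h
  refine ⟨E.map e.symm.toMonoidHom, ?_, ?_⟩
  · intro h3
    apply h1
    rw [eq_top_iff]
    intro x _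
    have h4 : e.symm x ∈ E.map e.symm.toMonoidHom := by rw [h3]; trivial
    obtain ⟨y, hy, hyx⟩ := h4
    have h5 : y = x := e.symm.injective hyx
    rwa [h5] at hy
  · rw [← Nat.card_congr (E.equivMapOfInjective e.symm.toMonoidHom e.symm.injective).toEquiv]
    exact h2

/-- **five pairwise apart subgroups of the Tits group** -/
theorem tits {G : Type u} [Group G] (h : Lie.IsoTits G) : Sep 5 G := by
  have f13 : Fact (Nat.Prime 13) := ⟨by norm_num⟩
  have f5 : Fact (Nat.Prime 5) := ⟨Nat.prime_five⟩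
  have hfin : Finite G := by
    obtain ⟨e⟩ := h
    exact finite_equiv H92.ExcTits.card_tits (by norm_num) e.toEquiv
  have hs : IsSimpleGroup G := simple_tits h
  have F := H235.TitsRow.facts h
  have O := TitsBN.odd2_tits h
  obtain ⟨P, hP⟩ := exists_thirteen F
  obtain ⟨Q⟩ : Nonempty (Sylow 5 G) := inferInstance
  have hQ := card_five F Q
  obtain ⟨C, hC⟩ := O.2.2
  obtain ⟨D, hD⟩ := O.2.1
  obtain ⟨E, hEt, hE⟩ : ∃ E : Subgroup G, E ≠ ⊤ ∧ 45 ∣ Nat.card E := by
    obtain ⟨e⟩ := h
    exact exists_transfer TitsE.main e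
  refine sep_five (A := normalizer ((P : Subgroup G) : Set G)) (B := normalizer ((Q : Subgroup G) : Set G))
    (C := C) (D := D) (E := E) ?_ ?_ ?_ ?_ hEt ?_ ?_ ?_ ?_ ?_ ?_ ?_ ?_ ?_ ?_
  · exact ne_top_of_card (by rw [hP, F.card]; norm_num)
  · exact ne_top_of_card (by rw [hQ, F.card]; norm_num)
  · exact ne_top_of_card (by rw [hC, F.card]; norm_num)
  · exact ne_top_of_card (by rw [hD, F.card]; norm_num)
  · exact apart_AB F hP Q
  · exact apart_odd F O (a := 13) (b := 2 ^ 11 * 5) (by rw [hP]; norm_num) hC.symm.dvd (by decide +kernel)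
      (by decide +kernel) (by decide +kernel)
  · exact apart_odd F O (a := 13) (b := 2 ^ 11 * 3) (by rw [hP]; norm_num) hD.symm.dvd (by decide +kernel)
      (by decide +kernel) (by decide +kernel)
  · exact apart_AE F hP hE
  · exact apart_odd F O (a := 25) (b := 2 ^ 11 * 5) (by rw [hQ]; norm_num) hC.symm.dvd (by decide +kernel)
      (by decide +kernel) (by decide +kernel)
  · exact apart_odd F O (a := 25) (b := 2 ^ 11 * 3) (by rw [hQ]; norm_num) hD.symm.dvd (by decide +kernel)
      (by decide +kernel) (by decide +kernel)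
  · exact apart_BE F Q hE
  · exact apart_odd F O (a := 2 ^ 11 * 5) (b := 2 ^ 11 * 3) hC.symm.dvd hD.symm.dvd (by decide +kernel)
      (by decide +kernel) (by decide +kernel)
  · exact apart_odd F O (a := 2 ^ 11 * 5) (b := 45) hC.symm.dvd hE (by decide +kernel)
      (by decide +kernel) (by decide +kernel)
  · exact apart_odd F O (a := 2 ^ 11 * 3) (b := 45) hD.symm.dvd hE (by decide +kernel)
      (by decide +kernel) (by decide +kernel)

end Cfsg.Agent.H933.TitsSep
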