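import Cfsg.Agent.H933.Big
import Cfsg.Agent.S0458
import Cfsg.Agent.J3Type.Iso

/-!
A large subgroup of the third Janko group: `L₂(16):2` of order 8160.
-/

set_option autoImplicit false

namespace Cfsg.Agent.H933

universe u

open Cfsg.Agent.Lib.FieldFour Cfsg.Agent.J3Type.PresDef Cfsg.Agent.J3Type

theorem s_ne_one {G : Type*} [Group G] {z y s c f g u h d w x v : G} (A : Amal z y s c f g u h d w x v)
    (htop : Subgroup.closure ({c, f, h, s, d, w} : Set G) = ⊤) [Nontrivial G] : s ≠ 1 := by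
  intro hs
  subst hs
  have hy : y = 1 := by rw [A.y_def, mul_one, A.h2]
  have hz : z = 1 := by rw [← A.sy, hy]; simp
  have hf : f = 1 := by rw [← A.zw, hz, mul_one, A.w2]
  have hh : h = 1 := by
    have h1 := A.fh
    rw [hf, one_mul, A.h2, one_mul] at h1
    exact h1
  have hc : c = 1 := by
    have h1 := A.ch
    rw [hh, mul_one] at h1
    have h2 := A.c3
    rwa [h1, one_mul] at h2
  have hd : d = 1 := by rw [← A.cw, hc, mul_one, A.w2]
  have hu : u = 1 := by rw [A.u_def, hf]; simp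
  have hw : w = 1 := by
    have h1 := A.wu
    rw [hu, mul_one, A.w2, one_mul] at h1
    exact h1
  have h1 : Subgroup.closure ({c, f, h, 1, d, w} : Set G) = ⊥ := by
    rw [Subgroup.closure_eq_bot_iff]
    intro t ht
    simp only [Set.mem_insert_iff, Set.mem_singleton_iff] at ht ⊢
    rcases ht with h | h | h | h | h | h <;> rw [h] <;> assumption
  rw [htop] at h1
  exact top_ne_bot h1

/-- All models of `J₃` are isomorphic to the one over the standard field with four elements. -/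
theorem j3_equiv {F : Type} [Field F] [Fintype F] (hF : Fintype.card F = 4) {ω : F} (hω : ω ^ 2 + ω + 1 = 0) :
    Nonempty (Spor.J3 F4 F4.w ≃* Spor.J3 F ω) := by
  have hw : (F4.w) ^ 2 + F4.w + 1 = 0 := by decide
  obtain ⟨-, -, hJ, hsimple⟩ := Cfsg.Agent.S1625.result F4 rfl F4.w hw
  obtain ⟨z, y, s, c, f, g, u, h, d, w, x, v, A, hrel, htop⟩ :=
    Mats.exists_amal (F := F4) rfl (ω := F4.w) (Cfsg.Agent.J3.Core.good_of_card rfl hw)
  have hnt : Nontrivial (Spor.J3 F4 F4.w) := hsimple.toNontrivial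
  obtain ⟨e⟩ := Iso.iso_of_amal A (s_ne_one A htop) hrel hF hω
  exact ⟨(Subgroup.topEquiv.symm.trans (MulEquiv.subgroupCongr htop.symm)).trans e⟩

theorem big_j3 {G : Type u} [Group G] (h : Spor.IsoJ3 G) : Big G := by
  obtain ⟨F, _, _, ω, hF, hω, ⟨e⟩⟩ := h
  obtain ⟨e'⟩ := j3_equiv hF hω
  refine Big.of_equiv (e.trans e'.symm) ?_
  obtain ⟨hZ, -, hcard, -⟩ := Cfsg.Agent.S1625.result F4 rfl F4.w (by decide)
  obtain ⟨H, hH⟩ := Cfsg.Agent.S0458.exists_subgroup hZ
  exact Big.of_card hH hcard (by norm_num) (by norm_num) (by norm_num)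

end Cfsg.Agent.H933
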