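import Mathlib
import Cfsg.Agent.H933.SubClass
import Cfsg.Agent.H933.SubField
import Cfsg.Agent.H70.OutCount
import Cfsg.Agent.H934.IdxExc
import Cfsg.Agent.H934.HeisE6
import Cfsg.Agent.H934.HeisE7
import Cfsg.Agent.H934.HeisE8
import Cfsg.Agent.S2121
import Cfsg.Agent.S2122
import Cfsg.Agent.S2123
import Cfsg.Agent.S2124
import Cfsg.Agent.S2125

/-!
# The number of subgroups of `Out(S)`, `S` an exceptional Chevalley group
-/

set_option autoImplicit false

namespace Cfsg.Agent.H933.SubChev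

open Cfsg Cfsg.Agent.H933.SubCount Cfsg.Agent.H933.SubNum Cfsg.Agent.H933.SubField Cfsg.Agent.H933.SubClass
open scoped Pointwise
open Cfsg.Lie Cfsg.Agent.ChevalleyStructure Cfsg.Agent.ChevalleyStructure.Elts
  Cfsg.Agent.ChevalleyStructure.NConj Cfsg.Agent.ChevalleyStructure.BNChev Cfsg.Agent.S1042
  Cfsg.Agent.Schreier.ChevLocal Cfsg.Agent.H70.AutFix Cfsg.Agent.H70.ChevTab Cfsg.Agent.H70.ChevFix
  Cfsg.Agent.H70.ChevField Cfsg.Agent.H70.PermFix Cfsg.Agent.H70.ChevDiag Cfsg.Agent.H70.OutCount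

universe u

theorem exists_out {D : ChevalleyDatum} (hD : InList D) {F : Type u} [Field F] [Finite F] (σ : F ≃+* F) :
    ∃ x : Cfsg.Out ↥(D.group F), orderOf σ ∣ orderOf x := by
  obtain ⟨α, hα⟩ := exists_fieldAut hD σ
  refine ⟨_, dvd_orderOf α fun k g hg => ?_⟩
  have hk : ∀ (k : ℕ) (r : ℕ), r < D.nroots → ∀ t : F, (α ^ k) (xe hD r t) = xe hD r ((σ ^ k) t) := by
    intro k
    induction k with
    | zero => intro r _ t; rfl
    | succ k ih =>
      intro r hr t
      rw [pow_succ, MulAut.mul_apply, hα r hr, ih r hr, pow_succ]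
      rfl
  have h1 : Perm D F (α ^ k) 1 := by
    refine perm_one_of_values hD (c := fun _ => 1) (σ := fun _ => σ ^ k) (fun _ => one_ne_zero) (fun i t => ?_)
      (fun i t => ?_)
    · rw [hk _ _ (simple_lt hD i.2), one_mul]
    · rw [hk _ _ (neg_simple_lt hD i.2), inv_one, one_mul]
  have h2 : g ∈ HH D F := by
    rw [hg] at h1
    rw [← normalizer_inf hD, Subgroup.mem_inf, mem_normalizer_iff_smul, mem_normalizer_iff_smul]
    exact ⟨Perm.smul_UU hD h1, Perm.smul_VN hD h1⟩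
  have hrank : 0 < D.rank := (RootComb.good_of_mem hD).rank_pos
  have hr : D.simple 0 < D.nroots := simple_lt hD hrank
  obtain ⟨c, hc, h3⟩ := diagonal_conj hD h2 hr
  have h4 : ∀ t : F, (σ ^ k) t = c * t := by
    intro t
    apply xe_inj hD hr
    rw [← hk k _ hr t, hg, MulAut.conj_apply]
    exact Subtype.ext (h3 t)
  have h5 := h4 1
  rw [map_one, mul_one] at h5
  ext t
  rw [h4, ← h5, one_mul]
  rfl

section

variable {F : Type} [Field F] [Fintype F]

theorem few_g2 (hq : 3 ≤ Fintype.card F) (hs : IsSimpleGroup ↥(chevG2.group F)) : Few ↥(chevG2.group F) := by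
  intro H hH
  obtain ⟨p, f, hp, hf, hF⟩ := exists_card F
  have hfp : Fact p.Prime := ⟨hp⟩
  have hch : CharP F p := charP_of_card_eq_prime_pow hF
  have hidx := Cfsg.Agent.H934.IdxExc.g2 hs H hH
  rw [hF, ← pow_one (p ^ f)] at hidx
  obtain ⟨σ, hσ⟩ := exists_orderOf hf hF
  obtain ⟨x, hx⟩ := exists_out (F := F) (show InList chevG2 by simp [InList]) σ
  rw [hσ] at hx
  have hfin : Finite ↥(chevG2.group F) := inferInstance
  have hcard := Cfsg.Agent.S2121.result (F := F) p f hF (by rw [← hF]; exact hq)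
  have h7 : f ^ 2 ≤ f ^ 3 := Nat.pow_le_pow_right hf (by norm_num)
  split_ifs at hcard with hp3
  · subst hp3
    have h6 := nsub_le_of_two hx hcard
    refine cub_three le_rfl hidx ?_
    rw [mul_one]
    nlinarith
  · have h6 := nsub_le_of_one hx hcard
    refine cub_two hp.two_le hidx (h6.trans ?_)
    rw [mul_one]
    nlinarith

theorem few_f4 (hs : IsSimpleGroup ↥(chevF4.group F)) (hna : ¬ IsMulCommutative ↥(chevF4.group F)) :
    Few ↥(chevF4.group F) := by
  intro H hH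
  obtain ⟨p, f, hp, hf, hF⟩ := exists_card F
  have hfp : Fact p.Prime := ⟨hp⟩
  have hch : CharP F p := charP_of_card_eq_prime_pow hF
  have hfin : Finite ↥(chevF4.group F) := inferInstance
  have h5 := five_le hs hna H hH
  have hidx := Cfsg.Agent.H934.IdxExc.f4 hs H hH
  rw [hF, ← pow_one (p ^ f)] at hidx
  obtain ⟨σ, hσ⟩ := exists_orderOf hf hF
  obtain ⟨x, hx⟩ := exists_out (F := F) (show InList chevF4 by simp [InList]) σ
  rw [hσ] at hx
  have hcard := Cfsg.Agent.S2122.result (F := F) p f hF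
  have h7 : f ^ 2 ≤ f ^ 3 := Nat.pow_le_pow_right hf (by norm_num)
  rcases (Nat.dvd_prime Nat.prime_two).1 (Nat.gcd_dvd_left 2 p) with h1 | h1
  · rw [h1, one_mul] at hcard
    have h6 := nsub_le_of_one hx hcard
    refine cub_two hp.two_le hidx (h6.trans ?_)
    rw [mul_one]
    nlinarith
  · rw [h1] at hcard
    have h6 := nsub_le_of_two hx hcard
    rcases Nat.eq_or_lt_of_le hf with rfl | hf2
    · exact cub_of_five h5 (by omega)
    · refine cub_two hp.two_le hidx (h6.trans ?_)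
      rw [mul_one]
      have hf2' : 2 ≤ f := hf2
      have h8 : f * (f + 1) ≤ f * (f * f) := by
        refine Nat.mul_le_mul_left f ?_
        nlinarith
      calc f * (f + 1) ≤ f * (f * f) := h8
        _ = f ^ 3 := by ring

theorem few_e6 (hs : IsSimpleGroup ↥(chevE6.group F)) : Few ↥(chevE6.group F) := by
  intro H hH
  obtain ⟨p, f, hp, hf, hF⟩ := exists_card F
  have hfp : Fact p.Prime := ⟨hp⟩
  have hch : CharP F p := charP_of_card_eq_prime_pow hF
  have hfin : Finite ↥(chevE6.group F) := inferInstance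
  have hidx : (p ^ f) ^ 11 ≤ H.index := by
    have := Cfsg.Agent.H934.HeisE6.two_mul_le hs H hH
    rw [hF] at this
    omega
  obtain ⟨σ, hσ⟩ := exists_orderOf hf hF
  obtain ⟨x, hx⟩ := exists_out (F := F) (show InList chevE6 by simp [InList]) σ
  rw [hσ] at hx
  have hcard := Cfsg.Agent.S2123.result (F := F) p f hF
  have hx' : f ≤ orderOf x := Nat.le_of_dvd (orderOf_pos x) hx
  have hd : Nat.gcd 3 (p ^ f - 1) ≤ 3 := Nat.le_of_dvd (by norm_num) (Nat.gcd_dvd_left _ _)
  have h1 : Nat.card (Cfsg.Out ↥(chevE6.group F)) ≤ 6 * f := by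
    rw [hcard]
    nlinarith
  have h6 := nsub_le_of_seven (x := x) (by omega)
  refine cub_two hp.two_le hidx (h6.trans ?_)
  have h7 : f ^ 2 ≤ f ^ 3 := Nat.pow_le_pow_right hf (by norm_num)
  calc 2 * Nat.card (Cfsg.Out ↥(chevE6.group F)) ^ 2 ≤ 2 * (6 * f) ^ 2 :=
      Nat.mul_le_mul_left 2 (Nat.pow_le_pow_left h1 2)
    _ = 72 * f ^ 2 := by ring
    _ ≤ 1331 * f ^ 3 := Nat.mul_le_mul (by norm_num) h7
    _ = _ := by ring

theorem few_e7 (hs : IsSimpleGroup ↥(chevE7.group F)) : Few ↥(chevE7.group F) := by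
  intro H hH
  obtain ⟨p, f, hp, hf, hF⟩ := exists_card F
  have hfp : Fact p.Prime := ⟨hp⟩
  have hch : CharP F p := charP_of_card_eq_prime_pow hF
  have hfin : Finite ↥(chevE7.group F) := inferInstance
  have hidx : (p ^ f) ^ 17 ≤ H.index := by
    have := Cfsg.Agent.H934.HeisE7.two_mul_le hs H hH
    rw [hF] at this
    omega
  obtain ⟨σ, hσ⟩ := exists_orderOf hf hF
  obtain ⟨x, hx⟩ := exists_out (F := F) (show InList chevE7 by simp [InList]) σ
  rw [hσ] at hx
  have hcard := Cfsg.Agent.S2124.result (F := F) p f hF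
  have hx' : f ≤ orderOf x := Nat.le_of_dvd (orderOf_pos x) hx
  have hd : Nat.gcd 2 (p ^ f - 1) ≤ 2 := Nat.le_of_dvd (by norm_num) (Nat.gcd_dvd_left _ _)
  have h1 : Nat.card (Cfsg.Out ↥(chevE7.group F)) ≤ 6 * f := by
    rw [hcard]
    nlinarith
  have h6 := nsub_le_of_seven (x := x) (by omega)
  refine cub_two hp.two_le hidx (h6.trans ?_)
  have h7 : f ^ 2 ≤ f ^ 3 := Nat.pow_le_pow_right hf (by norm_num)
  calc 2 * Nat.card (Cfsg.Out ↥(chevE7.group F)) ^ 2 ≤ 2 * (6 * f) ^ 2 :=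
      Nat.mul_le_mul_left 2 (Nat.pow_le_pow_left h1 2)
    _ = 72 * f ^ 2 := by ring
    _ ≤ 4913 * f ^ 3 := Nat.mul_le_mul (by norm_num) h7
    _ = _ := by ring

theorem few_e8 (hs : IsSimpleGroup ↥(chevE8.group F)) : Few ↥(chevE8.group F) := by
  intro H hH
  obtain ⟨p, f, hp, hf, hF⟩ := exists_card F
  have hfp : Fact p.Prime := ⟨hp⟩
  have hch : CharP F p := charP_of_card_eq_prime_pow hF
  have hfin : Finite ↥(chevE8.group F) := inferInstance
  have hidx : (p ^ f) ^ 29 ≤ H.index := by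
    have := Cfsg.Agent.H934.HeisE8.two_mul_le hs H hH
    rw [hF] at this
    omega
  obtain ⟨σ, hσ⟩ := exists_orderOf hf hF
  obtain ⟨x, hx⟩ := exists_out (F := F) (show InList chevE8 by simp [InList]) σ
  rw [hσ] at hx
  have hcard := Cfsg.Agent.S2125.result (F := F) p f hF
  have h6 := nsub_le_of_one hx hcard
  refine cub_two hp.two_le hidx (h6.trans ?_)
  have h7 : f ^ 1 ≤ f ^ 3 := Nat.pow_le_pow_right hf (by norm_num)
  calc f = 1 * f ^ 1 := by ring
    _ ≤ 24389 * f ^ 3 := Nat.mul_le_mul (by norm_num) h7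
    _ = _ := by ring

end

end Cfsg.Agent.H933.SubChev
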