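import Mathlib
import Cfsg.Prelude.Def_Classification2
import Cfsg.Agent.H933.SubClass
import Cfsg.Agent.H933.SubPSp
import Cfsg.Agent.H933.SubChev
import Cfsg.Agent.H933.SubTwist
import Cfsg.Agent.H498.SporOut
import Cfsg.Agent.TitsK.RankRK
import Cfsg.Agent.StandardComponent.AltAut
import Cfsg.Agent.S0252
import Cfsg.Agent.S0254

/-!
# The number of subgroups of `Out(S)` for every known simple group `S`

`few_known` : at most the cube of the binary logarithm of the index of any proper subgroup.
-/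

set_option autoImplicit false

namespace Cfsg.Agent.H933.SubKnown

open Cfsg Matrix Subgroup Cfsg.Agent.H933.SubCount Cfsg.Agent.H933.SubNum Cfsg.Agent.H933.SubClass

theorem center_eq_bot {S : Type*} [Group S] (hs : IsSimpleGroup S) (hna : ¬ IsMulCommutative S) : center S = ⊥ := by
  rcases (inferInstance : (center S).Normal).eq_bot_or_eq_top with h | h
  · exact h
  · exfalso
    apply hna
    exact ⟨⟨fun a b => (mem_center_iff.1 (show b ∈ center S by rw [h]; trivial) a)⟩⟩

theorem conj_injective {S : Type*} [Group S] (hc : center S = ⊥) :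
    Function.Injective (MulAut.conj : S →* MulAut S) := by
  rw [← MonoidHom.ker_eq_bot_iff, eq_bot_iff, ← hc]
  intro g hg
  rw [mem_center_iff]
  intro y
  have h3 := DFunLike.congr_fun (MonoidHom.mem_ker.1 hg) y
  rw [MulAut.conj_apply, MulAut.one_apply] at h3
  calc y * g = (g * y * g⁻¹) * g := by rw [h3]
    _ = g * y := by group

theorem centralizer_inn {S : Type*} [Group S] (hc : center S = ⊥) :
    centralizer ((MulAut.conj : S →* MulAut S).range : Set (MulAut S)) = ⊥ := by
  rw [eq_bot_iff]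
  intro f hf
  rw [mem_bot]
  ext s
  have h1 := mem_centralizer_iff.1 hf (MulAut.conj s) ⟨s, rfl⟩
  have h2 : MulAut.conj (f s) = MulAut.conj s := by
    have h3 : f * MulAut.conj s * f⁻¹ = MulAut.conj (f s) := by
      ext t
      show f (s * f⁻¹ t * s⁻¹) = f s * t * (f s)⁻¹
      rw [map_mul, map_mul, map_inv]
      have : f (f⁻¹ t) = t := f.apply_symm_apply t
      rw [this]
    rw [← h3, ← h1, mul_inv_cancel_right]
  exact conj_injective hc h2

/-- groups with few outer automorphisms -/
theorem few_of_small {S : Type*} [Group S] [Finite S] (hs : IsSimpleGroup S) (hna : ¬ IsMulCommutative S)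
    (h : (MulAut.conj : S →* MulAut S).range.index ≤ 2) : Few S := by
  intro H hH
  refine cub_of_five (five_le hs hna H hH) ?_
  have h1 : Nat.card (Cfsg.Out S) ≤ 2 := h
  have h2 := nsub_le_two_pow (X := Cfsg.Out S)
  have h3 : 2 ^ (Nat.card (Cfsg.Out S) - 1) ≤ 2 ^ 1 := Nat.pow_le_pow_right (by norm_num) (by omega)
  omega

/-- the alternating groups of degree at least seven -/
theorem index_alt {n : ℕ} (hn : 7 ≤ n) :
    (MulAut.conj : alternatingGroup (Fin n) →* MulAut (alternatingGroup (Fin n))).range.index ≤ 2 := by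
  classical
  obtain ⟨ψ, hψ⟩ := StandardComponent.AltAut.exists_autHom n hn
  have hinj : Function.Injective ψ := by
    intro a b hab
    ext x : 1
    apply Subtype.ext
    rw [hψ, hψ, hab]
  have h1 : Nat.card (MulAut (alternatingGroup (Fin n))) ≤ Nat.card (Equiv.Perm (Fin n)) :=
    Nat.card_le_card_of_injective ψ hinj
  have : Nontrivial (Fin n) := Fin.nontrivial_iff_two_le.2 (by omega)
  have h2 : 2 * Nat.card (alternatingGroup (Fin n)) = Nat.card (Equiv.Perm (Fin n)) := by
    rw [Nat.card_eq_fintype_card, Nat.card_eq_fintype_card]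
    exact two_mul_card_alternatingGroup
  have hc : center (alternatingGroup (Fin n)) = ⊥ := alternatingGroup.center_eq_bot (by simp; omega)
  have h3 : Nat.card (MulAut.conj : alternatingGroup (Fin n) →* MulAut (alternatingGroup (Fin n))).range =
      Nat.card (alternatingGroup (Fin n)) :=
    Nat.card_congr (MonoidHom.ofInjective (conj_injective hc)).symm.toEquiv
  have h4 := Subgroup.card_mul_index (MulAut.conj : alternatingGroup (Fin n) →* MulAut (alternatingGroup (Fin n))).range
  rw [h3] at h4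
  rw [← h4, ← h2, mul_comm 2] at h1
  exact Nat.le_of_mul_le_mul_left h1 Nat.card_pos

theorem simple_of_equiv {G K : Type*} [Group G] [Group K] (hs : IsSimpleGroup G) (e : G ≃* K) : IsSimpleGroup K :=
  e.symm.isSimpleGroup

theorem na_of_equiv {G K : Type*} [Group G] [Group K] (hna : ¬ IsMulCommutative G) (e : G ≃* K) :
    ¬ IsMulCommutative K := by
  intro h
  apply hna
  refine ⟨⟨fun a b => e.injective ?_⟩⟩
  rw [map_mul, map_mul]
  exact h.is_comm.comm _ _

theorem few_alt {G : Type*} [Group G] (hs : IsSimpleGroup G) (hna : ¬ IsMulCommutative G)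
    (h : IsAlternating G) : Few G := by
  obtain ⟨n, hn, ⟨e⟩⟩ := h
  have hs' := simple_of_equiv hs e
  have hna' := na_of_equiv hna e
  refine Few.of_equiv e ?_
  have hn' : n = 5 ∨ n = 6 ∨ 7 ≤ n := by omega
  rcases hn' with rfl | rfl | hn'
  · have : Fact (Nat.Prime 2) := ⟨Nat.prime_two⟩
    let F := GaloisField 2 2
    let _ : Fintype F := Fintype.ofFinite F
    have hF : Fintype.card F = 4 := by
      rw [← Nat.card_eq_fintype_card, GaloisField.card 2 2 (by norm_num)]
      norm_num
    obtain ⟨f⟩ := Cfsg.Agent.S0252.result (F := F) hF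
    exact Few.of_equiv f.symm (few_psl_two (simple_of_equiv hs' f.symm) (na_of_equiv hna' f.symm) (by omega))
  · obtain ⟨f⟩ := Cfsg.Agent.S0254.psl_k9
    exact Few.of_equiv f.symm (few_psl_two (simple_of_equiv hs' f.symm) (na_of_equiv hna' f.symm)
      (by rw [Cfsg.Agent.S0254.card_k9]; norm_num))
  · exact few_of_small hs' hna' (index_alt hn')

theorem few_tits {G : Type*} [Group G] [Finite G] (hs : IsSimpleGroup G) (hna : ¬ IsMulCommutative G)
    (h : Lie.IsoTits G) : Few G := by
  refine few_of_small hs hna ?_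
  have hc := center_eq_bot hs hna
  have hn : ((MulAut.conj : G →* MulAut G).range).Normal := inferInstanceAs (Inn G).Normal
  exact Cfsg.Agent.TitsK.index_le h _ ⟨(MonoidHom.ofInjective (conj_injective hc)).symm⟩ (centralizer_inn hc)

theorem few_exceptional {G : Type*} [Group G] [Finite G] (hs : IsSimpleGroup G) (hna : ¬ IsMulCommutative G)
    (h : IsExceptionalLieType G) : Few G := by
  rcases h with h | h | h | h | h | h | h | h | h | h | h
  · obtain ⟨F, _, _, hq, ⟨e⟩⟩ := h
    exact Few.of_equiv e (SubChev.few_g2 hq (simple_of_equiv hs e))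
  · obtain ⟨F, _, _, ⟨e⟩⟩ := h
    exact Few.of_equiv e (SubChev.few_f4 (simple_of_equiv hs e) (na_of_equiv hna e))
  · obtain ⟨F, _, _, ⟨e⟩⟩ := h
    exact Few.of_equiv e (SubChev.few_e6 (simple_of_equiv hs e))
  · obtain ⟨F, _, _, ⟨e⟩⟩ := h
    exact Few.of_equiv e (SubChev.few_e7 (simple_of_equiv hs e))
  · obtain ⟨F, _, _, ⟨e⟩⟩ := h
    exact Few.of_equiv e (SubChev.few_e8 (simple_of_equiv hs e))
  · obtain ⟨K, _, _, q, hq, hK, ⟨e⟩⟩ := h
    exact Few.of_equiv e (SubTwistE.few_twE6 hq hK (simple_of_equiv hs e) (na_of_equiv hna e))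
  · obtain ⟨K, _, _, q, hq, hK, ⟨e⟩⟩ := h
    exact Few.of_equiv e (SubTwistD.few_twD4 hq hK (simple_of_equiv hs e))
  · obtain ⟨K, _, _, m, hm, hK, ⟨e⟩⟩ := h
    exact Few.of_equiv e (SubTwist.few_sz hm hK (simple_of_equiv hs e))
  · obtain ⟨K, _, _, m, hm, hK, ⟨e⟩⟩ := h
    exact Few.of_equiv e (SubTwist.few_ree hm hK (simple_of_equiv hs e) (na_of_equiv hna e))
  · obtain ⟨K, _, _, m, hm, hK, ⟨e⟩⟩ := h
    exact Few.of_equiv e (SubTwist.few_twF4 hm hK (simple_of_equiv hs e))
  · exact few_tits hs hna h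

/-- **The number of subgroups of `Out(G)`.** -/
theorem few_known {G : Type*} [Group G] [Finite G] (hs : IsSimpleGroup G) (hna : ¬ IsMulCommutative G)
    (h : IsKnownSimple' G) : Few G := by
  rcases h with h | h | h | h | h | h | h | h | h | h
  · exfalso
    apply hna
    have h1 : Fact (Nat.card G).Prime := ⟨h⟩
    have h2 : IsCyclic G := isCyclic_of_prime_card (p := Nat.card G) rfl
    exact IsCyclic.isMulCommutative
  · exact few_alt hs hna h
  · obtain ⟨F, _, _, n, hn, hn2, ⟨e⟩⟩ := h
    refine Few.of_equiv e ?_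
    rcases Nat.eq_or_lt_of_le hn with rfl | hn3
    · exact few_psl_two (simple_of_equiv hs e) (na_of_equiv hna e) (hn2 rfl)
    · exact few_psl hn3 (simple_of_equiv hs e)
  · obtain ⟨F, _, _, m, hm, hm2, ⟨e⟩⟩ := h
    exact Few.of_equiv e (SubPSp.few_psp hm hm2 (simple_of_equiv hs e) (na_of_equiv hna e))
  · obtain ⟨F, _, _, n, q, hF, hn, hn3, ⟨e⟩⟩ := h
    exact Few.of_equiv e (few_psu hF hn hn3 (simple_of_equiv hs e) (na_of_equiv hna e))
  · obtain ⟨F, _, _, m, hm, hodd, ⟨e⟩⟩ := h
    exact Few.of_equiv e (few_omega_odd hm hodd (simple_of_equiv hs e))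
  · obtain ⟨F, _, _, m, hm, ⟨e⟩⟩ := h
    exact Few.of_equiv e (few_omega_plus hm (simple_of_equiv hs e))
  · obtain ⟨F, _, _, m, a, b, hm, hab, ⟨e⟩⟩ := h
    exact Few.of_equiv e (few_omega_minus hm a b hab (simple_of_equiv hs e))
  · exact few_exceptional hs hna h
  · exact few_of_small hs hna (Cfsg.Agent.H498.SporOut.index_le_two h)

end Cfsg.Agent.H933.SubKnown
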