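import Cfsg.Agent.H933.Scott
import Cfsg.Agent.H1.J1Real
import Cfsg.Agent.H911.Base5
import Cfsg.Agent.H915.LD
import Cfsg.Agent.S2039

/-!
# The first Janko group has no faithful irreducible representation of degree 9, 10, 11 (helper933)

By Scott's lemma, from `(2,3,7)`- and `(2,3,19)`-generation.

* `rep_false` : `ρ : J1 →* End V` irreducible and injective, `K` algebraically closed of any characteristic,
  `9 ≤ dim V ≤ 11` is impossible;
* `j1_false` : the same for a core with socle `J₁`.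
-/

set_option autoImplicit false
set_option linter.unusedSectionVars false

namespace Cfsg.Agent.H933.JOneTen

open Module Subgroup Cfsg.Agent.H933.Scott
open Cfsg.Agent.SporadicB.J1.Mat Cfsg.Agent.SporadicB.J1.Data Cfsg.Agent.SporadicB.J1.Main
open Cfsg.Spor (J1 jankoX jankoY)

universe u v w

abbrev wx : List Nat := [0, 1, 0, 3]
abbrev wy7 : List Nat := [0, 0, 1, 0, 1, 0, 1, 0]
abbrev wy19 : List Nat := [2, 1, 1, 2, 1, 1]

theorem x_sq : ev wx * ev wx = 1 := ((rep_ev _).mul (rep_ev _)).eq Rep.one (by decide +kernel)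

/-! ### `2^3:7` -/

theorem e8_ab : ev wx * ev ([0] ++ wx ++ [2]) = ev ([0] ++ wx ++ [2]) * ev wx :=
  ((rep_ev _).mul (rep_ev _)).eq ((rep_ev _).mul (rep_ev _)) (by decide +kernel)
theorem e8_wa : ev [0] * ev wx = ev ([0] ++ wx ++ [2]) * ev [0] :=
  ((rep_ev _).mul (rep_ev _)).eq ((rep_ev _).mul (rep_ev _)) (by decide +kernel)
theorem e8_wb : ev [0] * ev ([0] ++ wx ++ [2]) = ev ([0, 0] ++ wx ++ [2, 2]) * ev [0] :=
  ((rep_ev _).mul (rep_ev _)).eq ((rep_ev _).mul (rep_ev _)) (by decide +kernel)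
theorem e8_wc : ev [0] * ev ([0, 0] ++ wx ++ [2, 2]) = ev wx * ev ([0] ++ wx ++ [2]) * ev [0] :=
  ((rep_ev _).mul (rep_ev _)).eq (((rep_ev _).mul (rep_ev _)).mul (rep_ev _)) (by decide +kernel)

/-! ### `7:6` -/

theorem y7_cu : (ev wy7) ^ 3 = 1 := ((rep_ev _).pow 3).eq Rep.one (by decide +kernel)
theorem z7_pow : (ev wx * ev wy7) ^ 7 = 1 := (((rep_ev _).mul (rep_ev _)).pow 7).eq Rep.one (by decide +kernel)
theorem z7_conj : ev [1, 0, 0, 1, 0, 1, 2] * (ev wx * ev wy7) = (ev wx * ev wy7) ^ 3 * ev [1, 0, 0, 1, 0, 1, 2] :=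
  ((rep_ev _).mul ((rep_ev _).mul (rep_ev _))).eq ((((rep_ev _).mul (rep_ev _)).pow 3).mul (rep_ev _)) (by decide +kernel)

abbrev ws7 : List Nat := [0, 0, 0, 3, 2, 3, 2, 3, 2, 3]

theorem s7_pow : (ev ws7) ^ 7 = 1 := ((rep_ev _).pow 7).eq Rep.one (by decide +kernel)
theorem s7_ne : ev ws7 ≠ 1 := (rep_ev _).ne Rep.one (by decide +kernel)
theorem s7_y : ev wy7 * ev ws7 = (ev ws7) ^ 2 * ev wy7 :=
  ((rep_ev _).mul (rep_ev _)).eq (((rep_ev _).pow 2).mul (rep_ev _)) (by decide +kernel)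
theorem s7_t : ev [0, 0, 3, 0, 1, 2, 1, 0, 1, 2] * ev ws7 = (ev ws7) ^ 3 * ev [0, 0, 3, 0, 1, 2, 1, 0, 1, 2] :=
  ((rep_ev _).mul (rep_ev _)).eq (((rep_ev _).pow 3).mul (rep_ev _)) (by decide +kernel)

/-! ### `19:6` -/

theorem y19_cu : (ev wy19) ^ 3 = 1 := ((rep_ev _).pow 3).eq Rep.one (by decide +kernel)
theorem z19_pow : (ev wx * ev wy19) ^ 19 = 1 := (((rep_ev _).mul (rep_ev _)).pow 19).eq Rep.one (by decide +kernel)
theorem z19_conj : ev [0, 1, 0, 1, 0, 0, 0, 1, 1, 0] * (ev wx * ev wy19) =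
    (ev wx * ev wy19) ^ 8 * ev [0, 1, 0, 1, 0, 0, 0, 1, 1, 0] :=
  ((rep_ev _).mul ((rep_ev _).mul (rep_ev _))).eq ((((rep_ev _).mul (rep_ev _)).pow 8).mul (rep_ev _)) (by decide +kernel)

abbrev ws19 : List Nat := [1, 0, 0, 1, 1, 0, 1, 2, 1, 0]

theorem s19_pow : (ev ws19) ^ 19 = 1 := ((rep_ev _).pow 19).eq Rep.one (by decide +kernel)
theorem s19_ne : ev ws19 ≠ 1 := (rep_ev _).ne Rep.one (by decide +kernel)
theorem s19_y : ev wy19 * ev ws19 = (ev ws19) ^ 7 * ev wy19 :=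
  ((rep_ev _).mul (rep_ev _)).eq (((rep_ev _).pow 7).mul (rep_ev _)) (by decide +kernel)
theorem s19_t : ev [0, 0, 3, 3, 2, 3, 3] * ev ws19 = (ev ws19) ^ 8 * ev [0, 0, 3, 3, 2, 3, 3] :=
  ((rep_ev _).mul (rep_ev _)).eq (((rep_ev _).pow 8).mul (rep_ev _)) (by decide +kernel)

/-! ### Generation -/

/-- evaluate a word in `x`, `y`, `y⁻¹` -/
def ev2 (x y : J1) : List Nat → J1
  | [] => 1
  | 0 :: w => x * ev2 x y w
  | 1 :: w => y * ev2 x y w
  | _ :: w => (y * y) * ev2 x y w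

def ev2C (a b : Nat) : List Nat → Nat
  | [] => cI
  | 0 :: w => mulC a (ev2C a b w)
  | 1 :: w => mulC b (ev2C a b w)
  | _ :: w => mulC (mulC b b) (ev2C a b w)

theorem rep_ev2 {x y : J1} {a b : Nat} (hx : Rep x a) (hy : Rep y b) : ∀ w : List Nat, Rep (ev2 x y w) (ev2C a b w)
  | [] => Rep.one
  | 0 :: w => hx.mul (rep_ev2 hx hy w)
  | 1 :: w => hy.mul (rep_ev2 hx hy w)
  | (_ + 2) :: w => (hy.mul hy).mul (rep_ev2 hx hy w)

theorem ev2_mem (x y : J1) : ∀ w : List Nat, ev2 x y w ∈ Subgroup.closure {x, y}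
  | [] => one_mem _
  | 0 :: w => mul_mem (subset_closure (by simp)) (ev2_mem x y w)
  | 1 :: w => mul_mem (subset_closure (by simp)) (ev2_mem x y w)
  | (_ + 2) :: w => mul_mem (mul_mem (subset_closure (by simp)) (subset_closure (by simp))) (ev2_mem x y w)

theorem closure_XY : Subgroup.closure {X, Y} = (⊤ : Subgroup J1) := by
  have h : (Subgroup.closure {X, Y}).map J1.subtype = J1 := by
    rw [MonoidHom.map_closure, Set.image_insert_eq, Set.image_singleton]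
    rfl
  apply Subgroup.map_injective J1.subtype_injective
  rw [h, ← MonoidHom.range_eq_map, Subgroup.range_subtype]

theorem gen_of_words {x y : J1} {a b : Nat} (hx : Rep x a) (hy : Rep y b) (w1 w2 : List Nat) (h1 : ev2C a b w1 = evC [0])
    (h2 : ev2C a b w2 = evC [1]) : Subgroup.closure {x, y} = (⊤ : Subgroup J1) := by
  have e1 : ev2 x y w1 = ev [0] := (rep_ev2 hx hy w1).eq (rep_ev _) h1
  have e2 : ev2 x y w2 = ev [1] := (rep_ev2 hx hy w2).eq (rep_ev _) h2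
  have e3 : ev [0] = X := mul_one X
  have e4 : ev [1] = Y := mul_one Y
  rw [eq_top_iff, ← closure_XY, closure_le]
  rintro g (rfl | hg)
  · rw [← e3, ← e1]; exact ev2_mem x y w1
  · rw [Set.mem_singleton_iff] at hg
    rw [hg, ← e4, ← e2]; exact ev2_mem x y w2

theorem gen7 : Subgroup.closure {ev wx, ev wy7} = (⊤ : Subgroup J1) :=
  gen_of_words (rep_ev _) (rep_ev _)
    [0, 2, 0, 1, 0, 2, 0, 1, 0, 2, 0, 2, 0, 1, 0, 1, 0, 2, 0, 1, 0, 2, 0, 2, 0, 1, 0, 2, 0, 2, 0, 1, 0, 1, 0, 2, 0, 1]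
    [2, 0, 2, 0, 2, 0, 1, 0, 2, 0, 1, 0, 2, 0, 1, 0, 1, 0, 2, 0, 2, 0, 1, 0, 2]
    (by decide +kernel) (by decide +kernel)

theorem gen19 : Subgroup.closure {ev wx, ev wy19} = (⊤ : Subgroup J1) :=
  gen_of_words (rep_ev _) (rep_ev _)
    [1, 0, 1, 0, 1, 0, 2, 0, 1, 0, 2, 0, 1, 0, 1, 0, 2, 0, 2, 0, 1, 0, 2, 0, 2, 0, 1, 0, 1]
    [2, 0, 1, 0, 1, 0, 1, 0, 1, 0, 2, 0, 1, 0, 2, 0, 1, 0, 2, 0, 1, 0, 1, 0, 2, 0, 2]
    (by decide +kernel) (by decide +kernel)

/-! ### The theorem -/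

variable {K : Type u} [Field K] [IsAlgClosed K] {V : Type v} [AddCommGroup V] [Module K V] [FiniteDimensional K V]

theorem rep_false (ρ : J1 →* Module.End K V)
    (hirr : ∀ W : Submodule K V, (∀ g : J1, ∀ w ∈ W, ρ g w ∈ W) → W = ⊥ ∨ W = ⊤) (hinj : Function.Injective ρ)
    (h9 : 9 ≤ finrank K V) (h11 : finrank K V ≤ 11) : False := by
  have ne1 : ∀ {g : J1}, g ≠ 1 → ρ g ≠ 1 := fun hg h => hg (hinj (by rw [h, map_one]))
  have hx : finrank K V ≤ 2 * fx ρ (ev wx) := by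
    by_cases h2 : (2 : K) = 0
    · exact fx_of_sq ρ h2 x_sq
    · have := fx_frob8 ρ h2 x_sq e8_ab e8_wa e8_wb e8_wc (by omega)
      omega
  by_cases h7 : (7 : K) = 0
  · have h19 : (19 : K) ≠ 0 := by
      intro h
      have : (1 : K) = 3 * 19 - 8 * 7 := by norm_num
      rw [h, h7] at this
      norm_num at this
    have h2 : (2 : K) ≠ 0 := by
      intro h
      have : (1 : K) = 4 * 2 - 7 := by norm_num
      rw [h, h7] at this
      norm_num at this
    have hx' := fx_frob8 ρ h2 x_sq e8_ab e8_wa e8_wb e8_wc (by omega)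
    have : NeZero ((19 : ℕ) : K) := ⟨by exact_mod_cast h19⟩
    obtain ⟨ζ, hζ⟩ := (HasEnoughRootsOfUnity.exists_primitiveRoot K 19)
    have hz := fx_nineteen ρ h19 z19_pow z19_conj h11
    have hy := fx_three ρ (r := 19) (k := 7) (l := 11) (k' := 8) (l' := 12) (by norm_num) hζ s19_pow (ne1 s19_ne) y19_cu
      s19_y (by norm_num) s19_t (by norm_num) (by decide)
    have hs := scott_irr ρ hirr gen19 ⟨_, ne1 s19_ne⟩
    omega
  · have : NeZero ((7 : ℕ) : K) := ⟨by exact_mod_cast h7⟩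
    obtain ⟨ζ, hζ⟩ := (HasEnoughRootsOfUnity.exists_primitiveRoot K 7)
    have hz := fx_seven ρ h7 z7_pow z7_conj h11
    have hy := fx_three ρ (r := 7) (k := 2) (l := 4) (k' := 3) (l' := 5) (by norm_num) hζ s7_pow (ne1 s7_ne) y7_cu
      s7_y (by norm_num) s7_t (by norm_num) (by decide)
    have hs := scott_irr ρ hirr gen7 ⟨_, ne1 s7_ne⟩
    omega

section core

open Matrix Cfsg Cfsg.Geo Cfsg.Agent.H915.LD

variable {F : Type u} [Field F] [Finite F] {ι : Type} [Fintype ι] [DecidableEq ι] {P : Subgroup (GL ι F)}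

/-- **`J₁` in degree 9, 10, 11.** -/
theorem j1_false (hC : Core P) (e : Soc P ≃* Spor.J1) (h9 : 9 ≤ Fintype.card ι) (h11 : Fintype.card ι ≤ 11) : False := by
  obtain ⟨e', -⟩ := hC.equiv_of_coprime e S2039.result (by simp)
  have : Nonempty ι := hC.nonempty
  let ρ : Spor.J1 →* Module.End (AlgebraicClosure F) (ι → AlgebraicClosure F) := (H911.Five.rep P).comp e'.symm.toMonoidHom
  refine rep_false ρ ?_ ?_ (by rw [finrank_fintype_fun_eq_card]; exact h9) (by rw [finrank_fintype_fun_eq_card]; exact h11)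
  · intro W hW
    refine H911.Five.rep_irr hC.absIrred W fun g w hw => ?_
    have := hW (e' g) w hw
    simpa [ρ] using this
  · exact (H911.Five.rep_injective P).comp e'.symm.injective

theorem j1_false' (hC : Core P) (h : Spor.IsoJ1 (Soc P)) (h9 : 9 ≤ Fintype.card ι) (h11 : Fintype.card ι ≤ 11) : False := by
  obtain ⟨e⟩ := h
  exact j1_false hC e h9 h11

end core

end Cfsg.Agent.H933.JOneTen
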