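import Mathlib

/-!
Arithmetic for the classical groups: the square of the number of lines is smaller than the order.
-/

set_option autoImplicit false

namespace Cfsg.Agent.H933.Arith

/-- `PSL₂`. -/
theorem psl_two {q d g N : ℕ} (hq : 4 ≤ q) (hd : d = Nat.gcd 2 (q - 1)) (hN : N * (q - 1) = q ^ 2 - 1)
    (hg : d * ((q - 1) * g) = (q ^ 2 - 1) * (q ^ 2 - q)) : N ^ 2 < g := by
  obtain ⟨a, rfl⟩ : ∃ a, q = a + 1 := ⟨q - 1, by omega⟩
  have e0 : a + 1 - 1 = a := rfl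
  have e1 : (a + 1) ^ 2 - 1 = (a + 2) * a := by
    have : (a + 1) ^ 2 = (a + 2) * a + 1 := by ring
    omega
  have e2 : (a + 1) ^ 2 - (a + 1) = (a + 1) * a := by
    have : (a + 1) ^ 2 = (a + 1) * a + (a + 1) := by ring
    omega
  rw [e0] at hN hg hd
  rw [e1] at hN
  rw [e1, e2] at hg
  have hNa : N = a + 2 := Nat.eq_of_mul_eq_mul_right (by omega : 0 < a) hN
  have hg' : d * g = (a + 2) * ((a + 1) * a) := by
    apply Nat.eq_of_mul_eq_mul_left (by omega : 0 < a)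
    calc a * (d * g) = d * (a * g) := by ring
      _ = (a + 2) * a * ((a + 1) * a) := hg
      _ = _ := by ring
  have hd2 : d ≤ 2 := by rw [hd]; exact Nat.le_of_dvd (by norm_num) (Nat.gcd_dvd_left _ _)
  have hd0 : 0 < d := by rw [hd]; exact Nat.gcd_pos_of_pos_left _ (by norm_num)
  rw [hNa]
  rcases Nat.lt_or_ge a 4 with h4 | h4
  · have ha : a = 3 := by omega
    subst ha
    have : d = 1 := by rw [hd]; rfl
    subst this
    omega
  · apply lt_of_mul_lt_mul_left _ (Nat.zero_le d)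
    rw [hg']
    calc d * (a + 2) ^ 2 ≤ 2 * (a + 2) ^ 2 := Nat.mul_le_mul_right _ hd2
      _ = (a + 2) * (2 * (a + 2)) := by ring
      _ < (a + 2) * ((a + 1) * a) := Nat.mul_lt_mul_of_pos_left (by nlinarith) (by omega)

/-- `PSLₙ`, `n ≥ 3`. -/
theorem psl {q d g N k : ℕ} (hq : 2 ≤ q) (hd : d ≤ q - 1) (hN : N ≤ 2 * q ^ (k + 2))
    (hg : d * ((q - 1) * g) = ∏ i : Fin (k + 3), (q ^ (k + 3) - q ^ (i : ℕ))) : N ^ 2 < g := by
  rw [Fin.prod_univ_eq_prod_range (fun i => q ^ (k + 3) - q ^ i) (k + 3), Finset.prod_range_succ,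
    Finset.prod_range_succ', Finset.prod_range_succ'] at hg
  have hR : 1 ≤ ∏ i ∈ Finset.range k, (q ^ (k + 3) - q ^ (i + 1 + 1)) := by
    apply Nat.one_le_iff_ne_zero.2
    apply Finset.prod_ne_zero_iff.2
    intro i hi
    rw [Finset.mem_range] at hi
    have : q ^ (i + 1 + 1) < q ^ (k + 3) := Nat.pow_lt_pow_right (by omega) (by omega)
    omega
  set R := ∏ i ∈ Finset.range k, (q ^ (k + 3) - q ^ (i + 1 + 1))
  have hpos : 0 < q ^ (k + 2) := Nat.pow_pos (by omega)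
  have e0 : q ^ (k + 2) * (q - 1) ≤ q ^ (k + 3) - q ^ 0 := by
    have : q ^ (k + 2) * (q - 1) = q ^ (k + 3) - q ^ (k + 2) := by
      rw [Nat.mul_sub, mul_one, ← pow_succ]
    rw [this]
    exact Nat.sub_le_sub_left (Nat.pow_le_pow_right (by omega) (by omega)) _
  have e1 : 4 < q ^ (k + 3) - q ^ (0 + 1) := by
    have h1 : q ^ 3 ≤ q ^ (k + 3) := Nat.pow_le_pow_right (by omega) (by omega)
    have h2 : q * 4 ≤ q ^ 3 := by
      have : 2 ^ 2 ≤ q ^ 2 := Nat.pow_le_pow_left hq 2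
      calc q * 4 ≤ q * q ^ 2 := Nat.mul_le_mul_left _ this
        _ = q ^ 3 := by ring
    rw [zero_add, pow_one]
    omega
  have e2 : q ^ (k + 3) - q ^ (k + 2) = q ^ (k + 2) * (q - 1) := by
    rw [Nat.mul_sub, mul_one, ← pow_succ]
  rw [e2] at hg
  have hd0 : 0 < (q - 1) := by omega
  have hmain : d * ((q - 1) * N ^ 2) < d * ((q - 1) * g) := by
    rw [hg]
    have hN2 : N ^ 2 ≤ 4 * (q ^ (k + 2)) ^ 2 := by
      calc N ^ 2 ≤ (2 * q ^ (k + 2)) ^ 2 := Nat.pow_le_pow_left hN 2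
        _ = _ := by ring
    calc d * ((q - 1) * N ^ 2) ≤ (q - 1) * ((q - 1) * (4 * (q ^ (k + 2)) ^ 2)) := by gcongr
      _ = (q ^ (k + 2) * (q - 1)) * (q ^ (k + 2) * (q - 1)) * 4 := by ring
      _ < (q ^ (k + 2) * (q - 1)) * (q ^ (k + 2) * (q - 1)) * (q ^ (k + 3) - q ^ (0 + 1)) := by
          apply Nat.mul_lt_mul_of_pos_left e1
          positivity
      _ ≤ (q ^ (k + 2) * (q - 1)) * (q ^ (k + 3) - q ^ 0) * (q ^ (k + 3) - q ^ (0 + 1)) := by gcongr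
      _ = 1 * (q ^ (k + 3) - q ^ (0 + 1)) * (q ^ (k + 3) - q ^ 0) * (q ^ (k + 2) * (q - 1)) := by ring
      _ ≤ R * (q ^ (k + 3) - q ^ (0 + 1)) * (q ^ (k + 3) - q ^ 0) * (q ^ (k + 2) * (q - 1)) := by gcongr
  exact lt_of_mul_lt_mul_left (lt_of_mul_lt_mul_left hmain (Nat.zero_le _)) (Nat.zero_le _)

theorem one_le_prod {q m : ℕ} (hq : 2 ≤ q) : 1 ≤ ∏ i ∈ Finset.range m, (q ^ (2 * (i + 1)) - 1) := by
  apply Nat.one_le_iff_ne_zero.2
  apply Finset.prod_ne_zero_iff.2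
  intro i _
  have : 1 < q ^ (2 * (i + 1)) := Nat.one_lt_pow (by omega) (by omega)
  omega

theorem pow_sub_one_ge {q k : ℕ} (hq : 2 ≤ q) : q ^ k ≤ q ^ (k + 1) - 1 := by
  have h1 : 1 ≤ q ^ k := Nat.one_le_pow _ _ (by omega)
  have h2 : q ^ (k + 1) = q ^ k * q := pow_succ _ _
  have h3 : q ^ k * 2 ≤ q ^ k * q := Nat.mul_le_mul_left _ hq
  omega

/-- `PSp₄`, `q ≥ 3`. -/
theorem psp_two {q d s g N : ℕ} (hq : 3 ≤ q) (hd : d ≤ 2) (hN : N ≤ 2 * q ^ 3)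
    (hs : s = q ^ (2 ^ 2) * ∏ i ∈ Finset.range 2, (q ^ (2 * (i + 1)) - 1)) (hg : d * g = s) : N ^ 2 < g := by
  apply lt_of_mul_lt_mul_left _ (Nat.zero_le d)
  rw [hg, hs, Finset.prod_range_succ, Finset.prod_range_succ, Finset.prod_range_zero, one_mul]
  have h1 : q ^ 3 ≤ q ^ (2 * (1 + 1)) - 1 := pow_sub_one_ge (k := 3) (by omega)
  have h2 : q ^ 2 ≤ 2 * (q ^ (2 * (0 + 1)) - 1) := by
    have : 3 ^ 2 ≤ q ^ 2 := Nat.pow_le_pow_left hq 2
    have e : q ^ (2 * (0 + 1)) = q ^ 2 := by norm_num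
    omega
  have h3 : 27 ≤ q ^ 3 := by
    calc 27 = 3 ^ 3 := by norm_num
      _ ≤ q ^ 3 := Nat.pow_le_pow_left hq 3
  have hpos : 0 < q ^ 6 := Nat.pow_pos (by omega)
  apply lt_of_mul_lt_mul_left _ (Nat.zero_le 2)
  calc 2 * (d * N ^ 2) ≤ 2 * (2 * (2 * q ^ 3) ^ 2) := by gcongr
    _ = q ^ 6 * 16 := by ring
    _ < q ^ 6 * 27 := Nat.mul_lt_mul_of_pos_left (by norm_num) hpos
    _ ≤ q ^ 6 * q ^ 3 := Nat.mul_le_mul_left _ h3
    _ = q ^ (2 ^ 2) * (q ^ 2 * q ^ 3) := by ring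
    _ ≤ q ^ (2 ^ 2) * ((2 * (q ^ (2 * (0 + 1)) - 1)) * (q ^ (2 * (1 + 1)) - 1)) := by gcongr
    _ = _ := by ring

/-- `PSp₂ₘ`, `m ≥ 3`. -/
theorem psp {q d s g N k : ℕ} (hq : 2 ≤ q) (hd : d ≤ 2) (hN : N ≤ 2 * q ^ (2 * k + 5))
    (hs : s = q ^ ((k + 3) ^ 2) * ∏ i ∈ Finset.range (k + 3), (q ^ (2 * (i + 1)) - 1)) (hg : d * g = s) :
    N ^ 2 < g := by
  apply lt_of_mul_lt_mul_left _ (Nat.zero_le d)
  rw [hg, hs, Finset.prod_range_succ]
  have h1 : q ^ (2 * k + 5) ≤ q ^ (2 * (k + 2 + 1)) - 1 := pow_sub_one_ge (k := 2 * k + 5) hq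
  have h0 := one_le_prod (m := k + 2) hq
  have h8 : 8 ≤ q ^ 3 := Nat.pow_le_pow_left (n := 2) hq 3
  calc d * N ^ 2 ≤ 2 * (2 * q ^ (2 * k + 5)) ^ 2 := by gcongr
    _ = 8 * q ^ (4 * k + 10) := by ring
    _ ≤ q ^ 3 * q ^ (4 * k + 10) := Nat.mul_le_mul_right _ h8
    _ = q ^ (4 * k + 13) := by ring
    _ < q ^ ((k + 3) ^ 2 + (2 * k + 5)) := Nat.pow_lt_pow_right (by omega) (by nlinarith)
    _ = q ^ ((k + 3) ^ 2) * (1 * q ^ (2 * k + 5)) := by rw [pow_add, one_mul]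
    _ ≤ _ := by gcongr

/-- `PΩ₂ₘ₊₁`, `m ≥ 3`, `q ≥ 3`. -/
theorem pomega_odd {q g N k : ℕ} (hq : 3 ≤ q) (hN : N ≤ 2 * q ^ (2 * k + 6))
    (hg : 2 * g = q ^ ((k + 3) ^ 2) * ∏ i ∈ Finset.range (k + 3), (q ^ (2 * (i + 1)) - 1)) : N ^ 2 < g := by
  apply lt_of_mul_lt_mul_left _ (Nat.zero_le 2)
  rw [hg, Finset.prod_range_succ, Finset.prod_range_succ]
  have h1 : q ^ (2 * k + 5) ≤ q ^ (2 * (k + 2 + 1)) - 1 := pow_sub_one_ge (k := 2 * k + 5) (by omega)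
  have h2 : q ^ (2 * k + 3) ≤ q ^ (2 * (k + 1 + 1)) - 1 := pow_sub_one_ge (k := 2 * k + 3) (by omega)
  have h0 := one_le_prod (q := q) (m := k + 1) (by omega)
  have h8 : 8 ≤ q ^ 2 := le_trans (by norm_num) (Nat.pow_le_pow_left hq 2)
  calc 2 * N ^ 2 ≤ 2 * (2 * q ^ (2 * k + 6)) ^ 2 := by gcongr
    _ = 8 * q ^ (4 * k + 12) := by ring
    _ ≤ q ^ 2 * q ^ (4 * k + 12) := Nat.mul_le_mul_right _ h8
    _ = q ^ (4 * k + 14) := by ring
    _ < q ^ ((k + 3) ^ 2 + (4 * k + 8)) := Nat.pow_lt_pow_right (by omega) (by nlinarith)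
    _ = q ^ ((k + 3) ^ 2) * (1 * q ^ (2 * k + 3) * q ^ (2 * k + 5)) := by rw [pow_add]; ring
    _ ≤ _ := by gcongr

/-- `PΩ^±₂ₘ`, `m ≥ 4`. -/
theorem pomega_even {q d e g N k : ℕ} (hq : 2 ≤ q) (hd : d ≤ 4) (hN : N ≤ 2 * q ^ (2 * k + 7))
    (he : q ^ (k + 3) ≤ e)
    (hg : d * g = q ^ ((k + 4) * (k + 4 - 1)) * e * ∏ i ∈ Finset.range (k + 4 - 1), (q ^ (2 * (i + 1)) - 1)) :
    N ^ 2 < g := by
  apply lt_of_mul_lt_mul_left _ (Nat.zero_le d)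
  have e3 : k + 4 - 1 = k + 2 + 1 := rfl
  rw [e3] at hg
  rw [hg, Finset.prod_range_succ]
  have h1 : q ^ (2 * k + 5) ≤ q ^ (2 * (k + 2 + 1)) - 1 := pow_sub_one_ge (k := 2 * k + 5) (by omega)
  have h0 := one_le_prod (q := q) (m := k + 2) (by omega)
  have h8 : 16 ≤ q ^ 4 := Nat.pow_le_pow_left (n := 2) hq 4
  calc d * N ^ 2 ≤ 4 * (2 * q ^ (2 * k + 7)) ^ 2 := by gcongr
    _ = 16 * q ^ (4 * k + 14) := by ring
    _ ≤ q ^ 4 * q ^ (4 * k + 14) := Nat.mul_le_mul_right _ h8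
    _ = q ^ (4 * k + 18) := by ring
    _ < q ^ ((k + 4) * (k + 2 + 1) + (k + 3) + (2 * k + 5)) := Nat.pow_lt_pow_right (by omega) (by nlinarith)
    _ = q ^ ((k + 4) * (k + 2 + 1)) * q ^ (k + 3) * (1 * q ^ (2 * k + 5)) := by rw [pow_add, pow_add]; ring
    _ ≤ _ := by gcongr

/-- The order of `GUₙ` without denominators. -/
def A (q n : ℕ) : ℕ := q ^ (n * (n - 1) / 2) * ∏ i ∈ Finset.range n, (if Even i then q ^ (i + 1) + 1 else q ^ (i + 1) - 1)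

theorem A_succ (q n : ℕ) : A q (n + 1) = q ^ n * (if Even n then q ^ (n + 1) + 1 else q ^ (n + 1) - 1) * A q n := by
  unfold A
  rw [Finset.prod_range_succ, Nat.triangle_succ, pow_add]
  ring

theorem A_step {q n : ℕ} (hq : 2 ≤ q) : q ^ n * q ^ n * A q n ≤ A q (n + 1) := by
  rw [A_succ]
  have h1 : q ^ n ≤ (if Even n then q ^ (n + 1) + 1 else q ^ (n + 1) - 1) := by
    have h2 := pow_sub_one_ge (q := q) (k := n) hq
    split_ifs <;> omega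
  gcongr

theorem A_five (q : ℕ) : A q 5 = q ^ 10 * ((q + 1) * (q ^ 2 - 1) * (q ^ 3 + 1) * (q ^ 4 - 1) * (q ^ 5 + 1)) := by
  unfold A
  simp only [Finset.prod_range_succ, Finset.prod_range_zero, one_mul]
  have h0 : Even 0 := by decide
  have h1 : ¬ Even 1 := by decide
  have h2 : Even 2 := by decide
  have h3 : ¬ Even 3 := by decide
  have h4 : Even 4 := by decide
  simp only [h0, h1, h2, h3, h4, if_true, if_false]
  norm_num

theorem A_ge {q : ℕ} (hq : 2 ≤ q) (k : ℕ) : 4 * q ^ (4 * k + 16) * (q + 1) * (q + 1) < A q (k + 5) := by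
  induction k with
  | zero =>
    rw [A_five]
    have h2 : q ≤ q ^ 2 - 1 := by simpa using pow_sub_one_ge (q := q) (k := 1) hq
    have h4 : q ^ 3 ≤ q ^ 4 - 1 := pow_sub_one_ge hq
    have h3 : q ^ 3 ≤ q ^ 3 + 1 := Nat.le_succ _
    have h5 : q ^ 5 ≤ q ^ 5 + 1 := Nat.le_succ _
    have h6 : 4 * (q + 1) < q ^ 6 := by
      have : 2 ^ 5 ≤ q ^ 5 := Nat.pow_le_pow_left hq 5
      calc 4 * (q + 1) < 32 * q := by omega
        _ ≤ q ^ 5 * q := Nat.mul_le_mul_right _ this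
        _ = q ^ 6 := by ring
    have hpos : 0 < q ^ 16 * (q + 1) := by positivity
    calc 4 * q ^ (4 * 0 + 16) * (q + 1) * (q + 1) = q ^ 16 * (q + 1) * (4 * (q + 1)) := by ring
      _ < q ^ 16 * (q + 1) * q ^ 6 := Nat.mul_lt_mul_of_pos_left h6 hpos
      _ = q ^ 10 * ((q + 1) * q * q ^ 3 * q ^ 3 * q ^ 5) := by ring
      _ ≤ q ^ 10 * ((q + 1) * (q ^ 2 - 1) * (q ^ 3 + 1) * (q ^ 4 - 1) * (q ^ 5 + 1)) := by gcongr
  | succ k ih =>
    refine lt_of_lt_of_le ?_ (A_step (n := k + 5) hq)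
    have h1 : q ^ 4 ≤ q ^ (k + 5) * q ^ (k + 5) := by
      rw [← pow_add]
      exact Nat.pow_le_pow_right (by omega) (by omega)
    calc 4 * q ^ (4 * (k + 1) + 16) * (q + 1) * (q + 1) = q ^ 4 * (4 * q ^ (4 * k + 16) * (q + 1) * (q + 1)) := by ring
      _ < q ^ 4 * A q (k + 5) := Nat.mul_lt_mul_of_pos_left ih (by positivity)
      _ ≤ _ := Nat.mul_le_mul_right _ h1

/-- `PSUₙ`, `n ≥ 5`. -/
theorem psu {q d g N k : ℕ} (hq : 2 ≤ q) (hd : d ≤ q + 1) (hN : N ≤ 2 * (q ^ 2) ^ (k + 4))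
    (hg : d * ((q + 1) * g) = A q (k + 5)) : N ^ 2 < g := by
  have hmain : d * ((q + 1) * N ^ 2) < d * ((q + 1) * g) := by
    rw [hg]
    refine lt_of_le_of_lt ?_ (A_ge hq k)
    calc d * ((q + 1) * N ^ 2) ≤ (q + 1) * ((q + 1) * (2 * (q ^ 2) ^ (k + 4)) ^ 2) := by gcongr
      _ = _ := by ring
  exact lt_of_mul_lt_mul_left (lt_of_mul_lt_mul_left hmain (Nat.zero_le _)) (Nat.zero_le _)

theorem A_four (q : ℕ) : A q 4 = q ^ 6 * ((q + 1) * (q ^ 2 - 1) * (q ^ 3 + 1) * (q ^ 4 - 1)) := by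
  unfold A
  simp only [Finset.prod_range_succ, Finset.prod_range_zero, one_mul]
  have h0 : Even 0 := by decide
  have h1 : ¬ Even 1 := by decide
  have h2 : Even 2 := by decide
  have h3 : ¬ Even 3 := by decide
  simp only [h0, h1, h2, h3, if_true, if_false]
  norm_num

theorem A_three (q : ℕ) : A q 3 = q ^ 3 * ((q + 1) * (q ^ 2 - 1) * (q ^ 3 + 1)) := by
  unfold A
  simp only [Finset.prod_range_succ, Finset.prod_range_zero, one_mul]
  have h0 : Even 0 := by decide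
  have h1 : ¬ Even 1 := by decide
  have h2 : Even 2 := by decide
  simp only [h0, h1, h2, if_true, if_false]
  norm_num

/-- `PSU₄`. -/
theorem psu_four {q d g N : ℕ} (hq : 2 ≤ q) (hd : d = Nat.gcd 4 (q + 1)) (hN : N * (q ^ 2 - 1) = (q ^ 2) ^ 4 - 1)
    (hg : d * ((q + 1) * g) = A q 4) : N ^ 2 < g := by
  rw [A_four] at hg
  obtain ⟨a, ha⟩ : ∃ a, q ^ 2 = a + 1 := ⟨q ^ 2 - 1, by
    have : 1 ≤ q ^ 2 := Nat.one_le_pow _ _ (by omega)
    omega⟩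
  have ha3 : 3 ≤ a := by
    have : 2 ^ 2 ≤ q ^ 2 := Nat.pow_le_pow_left hq 2
    omega
  have e4 : q ^ 4 = (a + 1) ^ 2 := by rw [← ha]; ring
  have hq2 : q ^ 2 - 1 = a := by omega
  have hN' : N = (a + 2) * ((a + 1) ^ 2 + 1) := by
    rw [hq2, ha] at hN
    have h1 : (a + 1) ^ 4 - 1 = (a + 2) * ((a + 1) ^ 2 + 1) * a := by
      have : (a + 1) ^ 4 = (a + 2) * ((a + 1) ^ 2 + 1) * a + 1 := by ring
      omega
    rw [h1] at hN
    exact Nat.eq_of_mul_eq_mul_right (by omega) hN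
  have hq4 : q ^ 4 - 1 = a * (a + 2) := by
    rw [e4]
    have : (a + 1) ^ 2 = a * (a + 2) + 1 := by ring
    omega
  have hg' : d * g = q ^ 6 * (a * (q ^ 3 + 1) * (a * (a + 2))) := by
    rw [hq2, hq4] at hg
    apply Nat.eq_of_mul_eq_mul_left (by omega : 0 < q + 1)
    calc (q + 1) * (d * g) = d * ((q + 1) * g) := by ring
      _ = _ := by rw [hg]; ring
  have hd4 : d ≤ 4 := by rw [hd]; exact Nat.le_of_dvd (by norm_num) (Nat.gcd_dvd_left _ _)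
  rw [hN']
  apply lt_of_mul_lt_mul_left _ (Nat.zero_le d)
  rw [hg']
  rcases Nat.eq_or_lt_of_le hq with rfl | hq3
  · have hd1 : d = 1 := by rw [hd]; rfl
    have ha' : a = 3 := by omega
    subst ha' hd1
    norm_num
  · rcases Nat.eq_or_lt_of_le (show 3 ≤ q from hq3) with rfl | hq4'
    · have ha' : a = 8 := by omega
      subst ha'
      have : d * ((8 + 2) * ((8 + 1) ^ 2 + 1)) ^ 2 ≤ 4 * ((8 + 2) * ((8 + 1) ^ 2 + 1)) ^ 2 := Nat.mul_le_mul_right _ hd4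
      refine lt_of_le_of_lt this (by norm_num)
    · have e6 : q ^ 6 = (a + 1) ^ 3 := by rw [← ha]; ring
      have h64 : 64 ≤ q ^ 3 := by
        calc 64 = 4 ^ 3 := by norm_num
          _ ≤ q ^ 3 := Nat.pow_le_pow_left hq4' 3
      have ha15 : 15 ≤ a := by
        have : 4 ^ 2 ≤ q ^ 2 := Nat.pow_le_pow_left hq4' 2
        omega
      rw [e6]
      have h1 : (a + 1) ^ 2 + 1 ≤ 2 * (a + 1) ^ 2 := by nlinarith
      have h2 : a + 2 ≤ 2 * a := by omega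
      have h3 : a + 1 ≤ 2 * a := by omega
      have hpos : 0 < a + 2 := by omega
      calc d * ((a + 2) * ((a + 1) ^ 2 + 1)) ^ 2 ≤ 4 * ((a + 2) * ((a + 1) ^ 2 + 1)) ^ 2 := by gcongr
        _ = (a + 2) * (4 * (a + 2) * ((a + 1) ^ 2 + 1) ^ 2) := by ring
        _ ≤ (a + 2) * (4 * (2 * a) * (2 * (a + 1) ^ 2) ^ 2) := by gcongr
        _ = (a + 2) * ((a + 1) ^ 3 * (32 * a * (a + 1))) := by ring
        _ < (a + 2) * ((a + 1) ^ 3 * (65 * a * a)) := by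
          apply Nat.mul_lt_mul_of_pos_left _ hpos
          apply Nat.mul_lt_mul_of_pos_left _ (by positivity)
          nlinarith
        _ ≤ (a + 2) * ((a + 1) ^ 3 * ((q ^ 3 + 1) * a * a)) := by
          have : 65 ≤ q ^ 3 + 1 := by omega
          gcongr
        _ = _ := by ring

end Cfsg.Agent.H933.Arith
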