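import Cfsg.Agent.H933.BigLinear
import Cfsg.Agent.H933.BigArith
import Cfsg.Agent.LieClassical.HermBasic
import Cfsg.Agent.S0243
import Cfsg.Agent.S0245
import Cfsg.Agent.S0246
import Cfsg.Agent.S0278
import Cfsg.Agent.S0279
import Cfsg.Agent.S0280
import Cfsg.Agent.S0292
import Cfsg.Agent.S0293
import Cfsg.Agent.S0294
import Cfsg.Agent.S0782

/-!
Large subgroups of the alternating and of the classical simple groups.
-/

set_option autoImplicit false

namespace Cfsg.Agent.H933

open Cfsg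
open scoped LinearAlgebra.Projectivization

universe u

theorem not_comm_of_equiv {G : Type u} [Group G] (hG : ¬ IsMulCommutative G) {K : Type*} [Group K] (e : G ≃* K) :
    ¬ ∀ a b : K, a * b = b * a := by
  intro h
  apply hG
  refine ⟨⟨fun a b => ?_⟩⟩
  apply e.injective
  rw [map_mul, map_mul]
  exact h _ _

theorem two_mul_sq_lt_factorial {n : ℕ} (hn : 5 ≤ n) : 2 * n ^ 2 < n.factorial := by
  induction n, hn using Nat.le_induction with
  | base => decide
  | succ n hn ih =>
    rw [Nat.factorial_succ]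
    calc 2 * (n + 1) ^ 2 = (n + 1) * (2 * (n + 1)) := by ring
      _ < (n + 1) * (2 * n ^ 2) := by
        apply Nat.mul_lt_mul_of_pos_left _ (Nat.succ_pos n)
        nlinarith
      _ ≤ (n + 1) * n.factorial := Nat.mul_le_mul_left _ ih.le

theorem big_alt {G : Type u} [Group G] (h : IsAlternating G) : Big G := by
  obtain ⟨n, hn, ⟨e⟩⟩ := h
  refine Big.of_equiv e ?_
  have : Nontrivial (Fin n) := Fin.nontrivial_iff_two_le.2 (by omega)
  apply Big.of_perm
  have h1 := two_mul_nat_card_alternatingGroup (α := Fin n)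
  rw [Nat.card_perm] at h1
  have h2 := two_mul_sq_lt_factorial hn
  have h3 : Nat.card (Fin n) = n := by simp
  rw [h3] at h1 ⊢
  omega

/-! ### Linear groups -/

theorem big_psl {G : Type u} [Group G] (hG : ¬ IsMulCommutative G) (h : IsPSL G) : Big G := by
  obtain ⟨F, _, _, n, hn, hn2, ⟨e⟩⟩ := h
  refine Big.of_equiv e ?_
  have hna := not_comm_of_equiv hG e
  have hq : 2 ≤ Fintype.card F := Fintype.one_lt_card
  have hord := S0243.result (F := F) rfl n hn
  refine big_matrix (slToMat n F) ?_ hna (n := Nat.card (ℙ F (Fin n → F))) le_rfl ?_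
  · intro a b hab
    apply Subtype.ext
    exact hab
  · have hlines := card_lines (F := F) (Fintype.card_fin n)
    rcases Nat.eq_or_lt_of_le hn with rfl | hn3
    · refine Arith.psl_two (hn2 rfl) rfl hlines ?_
      rw [hord]
      simp [Fin.prod_univ_two]
    · obtain ⟨k, rfl⟩ : ∃ k, n = k + 3 := ⟨n - 3, by omega⟩
      exact Arith.psl hq (Nat.le_of_dvd (by omega) (Nat.gcd_dvd_right _ _))
        (card_lines_le (F := F) (d := k + 2) (by rw [Fintype.card_fin])) hord

/-! ### Symplectic groups -/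

theorem big_psp {G : Type u} [Group G] (hG : ¬ IsMulCommutative G) (h : IsPSp G) : Big G := by
  obtain ⟨F, _, _, m, hm, hm2, ⟨e⟩⟩ := h
  refine Big.of_equiv e ?_
  have hna := not_comm_of_equiv hG e
  have hq : 2 ≤ Fintype.card F := Fintype.one_lt_card
  have hord := S0245.result (F := F) rfl m
  have hz := S0246.result (F := F) rfl m (by omega)
  have hfin : Finite (Matrix.symplecticGroup (Fin m) F) := inferInstance
  have hmul : Nat.gcd 2 (Fintype.card F - 1) * Nat.card (PSp m F) =
      Fintype.card F ^ (m ^ 2) * ∏ i ∈ Finset.range m, (Fintype.card F ^ (2 * (i + 1)) - 1) := by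
    rw [← hord, ← hz, mul_comm]
    exact (Subgroup.card_eq_card_quotient_mul_card_subgroup _).symm
  have hd : Nat.gcd 2 (Fintype.card F - 1) ≤ 2 := Nat.le_of_dvd (by norm_num) (Nat.gcd_dvd_left _ _)
  refine big_matrix (Submonoid.subtype _) Subtype.val_injective hna
    (n := Nat.card (ℙ F (Fin m ⊕ Fin m → F))) le_rfl ?_
  have hlines := card_lines_le (ι := Fin m ⊕ Fin m) (F := F) (d := 2 * m - 1)
    (by rw [Fintype.card_sum, Fintype.card_fin]; omega)
  rcases Nat.eq_or_lt_of_le hm with rfl | hm3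
  · exact Arith.psp_two (hm2 rfl) hd hlines rfl hmul
  · obtain ⟨k, rfl⟩ : ∃ k, m = k + 3 := ⟨m - 3, by omega⟩
    have e1 : 2 * (k + 3) - 1 = 2 * k + 5 := by omega
    rw [e1] at hlines
    exact Arith.psp hq hd hlines rfl hmul

/-! ### Orthogonal groups -/

theorem big_pomega_aux {ι : Type} [Fintype ι] [DecidableEq ι] {F : Type} [Field F] [Fintype F] {Q : (ι → F) → F}
    (hna : ¬ ∀ a b : POmega F Q, a * b = b * a) (h : Nat.card (ℙ F (ι → F)) ^ 2 < Nat.card (POmega F Q)) :
    Big (POmega F Q) := by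
  refine big_matrix (X := Omega F Q)
    (((Units.coeHom (Matrix ι ι F)).comp (isometryGroup F Q).subtype).comp (Omega F Q).subtype) ?_ hna le_rfl h
  intro a b hab
  apply Subtype.ext
  apply Subtype.ext
  exact Units.ext hab

theorem big_pomega_odd {G : Type u} [Group G] (hG : ¬ IsMulCommutative G) (h : IsPOmegaOdd G) : Big G := by
  obtain ⟨F, _, _, m, hm, hodd, ⟨e⟩⟩ := h
  refine Big.of_equiv e ?_
  have hna := not_comm_of_equiv hG e
  have hq : 3 ≤ Fintype.card F := by
    have : 2 ≤ Fintype.card F := Fintype.one_lt_card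
    rcases hodd with ⟨r, hr⟩
    omega
  obtain ⟨k, rfl⟩ : ∃ k, m = k + 3 := ⟨m - 3, by omega⟩
  have hord := S0292.result (F := F) rfl hodd (k + 3) hm
  refine big_pomega_aux hna ?_
  refine Arith.pomega_odd hq (card_lines_le (F := F) (d := 2 * k + 6) ?_) hord
  rw [Fintype.card_sum, Fintype.card_sum, Fintype.card_fin, Fintype.card_unit]
  omega

theorem big_pomega_plus {G : Type u} [Group G] (hG : ¬ IsMulCommutative G) (h : IsPOmegaPlus G) : Big G := by
  obtain ⟨F, _, _, m, hm, ⟨e⟩⟩ := h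
  refine Big.of_equiv e ?_
  have hna := not_comm_of_equiv hG e
  have hq : 2 ≤ Fintype.card F := Fintype.one_lt_card
  obtain ⟨k, rfl⟩ : ∃ k, m = k + 4 := ⟨m - 4, by omega⟩
  have hord := S0293.result (F := F) rfl (k + 4) hm
  refine big_pomega_aux hna ?_
  refine Arith.pomega_even hq (Nat.le_of_dvd (by norm_num) (Nat.gcd_dvd_left _ _))
    (card_lines_le (F := F) (d := 2 * k + 7) ?_) (Arith.pow_sub_one_ge hq) hord
  rw [Fintype.card_sum, Fintype.card_fin]
  omega

theorem big_pomega_minus {G : Type u} [Group G] (hG : ¬ IsMulCommutative G) (h : IsPOmegaMinus G) : Big G := by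
  obtain ⟨F, _, _, m, a, b, hm, hab, ⟨e⟩⟩ := h
  refine Big.of_equiv e ?_
  have hna := not_comm_of_equiv hG e
  have hq : 2 ≤ Fintype.card F := Fintype.one_lt_card
  obtain ⟨k, rfl⟩ : ∃ k, m = k + 4 := ⟨m - 4, by omega⟩
  have hord := S0294.result (F := F) rfl (k + 4) hm a b hab
  refine big_pomega_aux hna ?_
  refine Arith.pomega_even hq (Nat.le_of_dvd (by norm_num) (Nat.gcd_dvd_left _ _))
    (card_lines_le (F := F) (d := 2 * k + 7) ?_) (le_trans (Nat.pow_le_pow_right (by omega) (by omega)) (Nat.le_succ _)) hord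
  rw [Fintype.card_sum, Fintype.card_sum, Fintype.card_fin, Fintype.card_fin]
  omega

/-! ### Unitary groups -/

open Cfsg.Agent.LieClassical.HermBasic in
/-- An isotropic vector in dimension three. -/
theorem exists_isotropic {F : Type} [Field F] [Fintype F] {q : ℕ} (hF : Fintype.card F = q ^ 2) :
    ∃ v : Fin 3 → F, v ≠ 0 ∧ hermForm 3 F q v v = 0 := by
  obtain ⟨x, hx⟩ := exists_norm_eq hF (c := -1) (by rw [neg_pow_q hF, one_pow])
  refine ⟨![1, x, 0], ?_, ?_⟩
  · intro h
    have := congrFun h 0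
    simp at this
  · unfold hermForm
    rw [Fin.sum_univ_three]
    simp only [Matrix.cons_val_zero, Matrix.cons_val_one, Matrix.cons_val]
    rw [one_pow, hx]
    ring

theorem hermForm_smul {F : Type} [Field F] (n q : ℕ) (a b : F) (u v : Fin n → F) :
    hermForm n F q (a • u) (b • v) = a * b ^ q * hermForm n F q u v := by
  unfold hermForm
  rw [Finset.mul_sum]
  refine Finset.sum_congr rfl fun i _ => ?_
  simp only [Pi.smul_apply, smul_eq_mul, mul_pow]
  ring

theorem psu_three_arith {q d g : ℕ} (hq : 3 ≤ q) (hd : d ≤ 3) (hg : d * ((q + 1) * g) = Arith.A q 3) :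
    (q ^ 3 + 1) ^ 2 < g := by
  rw [Arith.A_three] at hg
  have hg' : d * g = q ^ 3 * ((q ^ 2 - 1) * (q ^ 3 + 1)) := by
    apply Nat.eq_of_mul_eq_mul_left (by omega : 0 < q + 1)
    calc (q + 1) * (d * g) = d * ((q + 1) * g) := by ring
      _ = _ := by rw [hg]; ring
  apply lt_of_mul_lt_mul_left _ (Nat.zero_le d)
  rw [hg']
  have h27 : 27 ≤ q ^ 3 := by
    calc 27 = 3 ^ 3 := by norm_num
      _ ≤ q ^ 3 := Nat.pow_le_pow_left hq 3
  have h8 : 8 ≤ q ^ 2 - 1 := by
    have : 3 ^ 2 ≤ q ^ 2 := Nat.pow_le_pow_left hq 2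
    omega
  calc d * (q ^ 3 + 1) ^ 2 ≤ 3 * (q ^ 3 + 1) ^ 2 := Nat.mul_le_mul_right _ hd
    _ = (3 * (q ^ 3 + 1)) * (q ^ 3 + 1) := by ring
    _ < (q ^ 3 * 8) * (q ^ 3 + 1) := Nat.mul_lt_mul_of_pos_right (by omega) (by omega)
    _ ≤ (q ^ 3 * (q ^ 2 - 1)) * (q ^ 3 + 1) := by gcongr
    _ = _ := by ring

theorem big_psu_three {F : Type} [Field F] [Fintype F] {q : ℕ} (hF : Fintype.card F = q ^ 2) (hq : 3 ≤ q) :
    Big (PSU 3 F q) := by
  obtain ⟨v, hv, hvv⟩ := exists_isotropic hF
  have hstab := S0782.result hF 3 1 (by norm_num) (by norm_num) (Submodule.span F {v})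
    (finrank_span_singleton hv) (by
      intro x hx y hy
      rw [Submodule.mem_span_singleton] at hx hy
      obtain ⟨a, rfl⟩ := hx
      obtain ⟨b, rfl⟩ := hy
      rw [hermForm_smul, hvv, mul_zero])
  have hSU := S0278.result hF 3 (by norm_num)
  have hPSU := S0280.result hF 3 (by norm_num)
  have hz := S0279.result hF 3 le_rfl
  have hfin : Finite (SU 3 F q) := inferInstance
  set K := (stabilizing (slToMat 3 F) ((Submodule.span F {v} : Submodule F (Fin 3 → F)) : Set (Fin 3 → F))).subgroupOf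
    (SU 3 F q) with hK
  have hKc : Nat.card K = q ^ 3 * (q ^ 2 - 1) := by
    have h1 : (q + 1) * Nat.card K = (q + 1) * (q ^ 3 * (q ^ 2 - 1)) := by
      rw [hstab]
      simp [Fin.prod_univ_one]
      ring
    exact Nat.eq_of_mul_eq_mul_left (by omega) h1
  have hSUc : Nat.card (SU 3 F q) = q ^ 3 * (q ^ 2 - 1) * (q ^ 3 + 1) := by
    have h1 : (q + 1) * Nat.card (SU 3 F q) = Arith.A q 3 := hSU
    rw [Arith.A_three] at h1
    apply Nat.eq_of_mul_eq_mul_left (by omega : 0 < q + 1)
    rw [h1]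
    ring
  have hpos : 0 < q ^ 3 * (q ^ 2 - 1) := by rw [← hKc]; exact Nat.card_pos
  have hidx : K.index = q ^ 3 + 1 := by
    have := K.card_mul_index
    rw [hKc, hSUc] at this
    exact Nat.eq_of_mul_eq_mul_left hpos this
  have hd : Nat.gcd 3 (q + 1) ≤ 3 := Nat.le_of_dvd (by norm_num) (Nat.gcd_dvd_left _ _)
  have h27 : 27 ≤ q ^ 3 := by
    calc 27 = 3 ^ 3 := by norm_num
      _ ≤ q ^ 3 := Nat.pow_le_pow_left hq 3
  refine Big.of_quotient (X := SU 3 F q) (H := K) (n := q ^ 3 + 1) (sup_center_ne_top' K ?_) hidx.le (by omega)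
    (psu_three_arith hq hd hPSU)
  rw [hz, hidx]
  omega

theorem big_psu {G : Type u} [Group G] (hG : ¬ IsMulCommutative G) (h : IsPSU G) : Big G := by
  obtain ⟨F, _, _, n, q, hF, hn, hn3, ⟨e⟩⟩ := h
  refine Big.of_equiv e ?_
  have hna := not_comm_of_equiv hG e
  have hq : 2 ≤ q := Cfsg.Agent.LieClassical.HermBasic.two_le hF
  rcases Nat.eq_or_lt_of_le hn with rfl | hn4
  · exact big_psu_three hF (by
      rcases Nat.eq_or_lt_of_le hq with rfl | h3
      · exact absurd ⟨rfl, rfl⟩ hn3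
      · exact h3)
  · have hord := S0280.result hF n (by omega)
    refine big_matrix (X := SU n F q) ((slToMat n F).comp (SU n F q).subtype) ?_ hna
      (n := Nat.card (ℙ F (Fin n → F))) le_rfl ?_
    · intro a b hab
      apply Subtype.ext
      apply Subtype.ext
      exact hab
    · rcases Nat.eq_or_lt_of_le (show 4 ≤ n from hn4) with rfl | hn5
      · have hl := card_lines (F := F) (Fintype.card_fin 4)
        rw [hF] at hl
        exact Arith.psu_four hq rfl hl hord
      · obtain ⟨k, rfl⟩ : ∃ k, n = k + 5 := ⟨n - 5, by omega⟩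
        have hl := card_lines_le (F := F) (d := k + 4) (ι := Fin (k + 5)) (by rw [Fintype.card_fin])
        rw [hF] at hl
        exact Arith.psu hq (Nat.le_of_dvd (by omega) (Nat.gcd_dvd_right _ _)) hl hord

end Cfsg.Agent.H933
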