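import Cfsg.Agent.H933.Big
import Cfsg.Agent.LeechPack.X100
import Cfsg.Agent.McLType.X275
import Cfsg.Agent.S0394
import Cfsg.Agent.S0397
import Cfsg.Agent.S0398
import Cfsg.Agent.S0399
import Cfsg.Agent.S0400
import Cfsg.Agent.S0402
import Cfsg.Agent.S0403
import Cfsg.Agent.S1567

/-!
Large subgroups of the Conway groups, of the McLaughlin group and of the Higman–Sims group.
-/

set_option autoImplicit false

namespace Cfsg.Agent.H933

universe u

theorem big_hs {G : Type u} [Group G] (h : Spor.IsoHS G) : Big G := by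
  obtain ⟨e⟩ := h
  obtain ⟨e'⟩ := Cfsg.Agent.LeechPack.X100.isoHS_G2
  refine Big.of_equiv (e.trans e'.symm) ?_
  refine Big.of_perm_hom Cfsg.Agent.LeechPack.X100.ψ Cfsg.Agent.LeechPack.X100.ψ_injective ?_
  rw [Cfsg.Agent.LeechPack.X100.card_G2]
  simp

theorem big_mcl {G : Type u} [Group G] (h : Spor.IsoMcL G) : Big G := by
  obtain ⟨e⟩ := h
  obtain ⟨e'⟩ := Cfsg.Agent.McLType.X275.isoMcL_G1
  refine Big.of_equiv (e.trans e'.symm) ?_
  refine Big.of_perm_hom Cfsg.Agent.McLType.X275.ψ Cfsg.Agent.McLType.X275.ψ_injective ?_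
  rw [Cfsg.Agent.McLType.X275.card_G1]
  simp

/-- The set of the minimal vectors. -/
def minVecs : Set Cfsg.leechLattice := {x | Cfsg.sqNorm (x : Cfsg.GolayPt → ℤ) = 32}

theorem ncard_minVecs : minVecs.ncard = 196560 := by
  rw [← Cfsg.Agent.S0394.result, ← Set.ncard_image_of_injective minVecs Subtype.val_injective]
  congr 1
  ext x
  constructor
  · rintro ⟨y, hy, rfl⟩
    exact ⟨y.2, hy⟩
  · rintro ⟨h1, h2⟩
    exact ⟨⟨x, h1⟩, h2, rfl⟩

theorem finite_minVecs : minVecs.Finite := Set.finite_of_ncard_ne_zero (by rw [ncard_minVecs]; norm_num)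

/-- A nontrivial automorphism moves a minimal vector. -/
theorem exists_moved (g : Equiv.Perm Cfsg.leechLattice) (hg : g ∈ Cfsg.Co0) (h1 : g ≠ 1) :
    ∃ x ∈ minVecs, g x ≠ x := by
  by_contra hcon
  push Not at hcon
  apply h1
  have hadd := hg.1
  have h0 : g 0 = 0 := by
    have := hadd 0 0
    rw [add_zero] at this
    exact (add_eq_left.1 this.symm)
  let F : AddSubgroup Cfsg.leechLattice :=
    { carrier := {x | g x = x}
      add_mem' := by
        intro a b ha hb
        change g (a + b) = a + b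
        rw [hadd, show g a = a from ha, show g b = b from hb]
      zero_mem' := h0
      neg_mem' := by
        intro a ha
        change g (-a) = -a
        have h2 := hadd a (-a)
        rw [add_neg_cancel, h0, show g a = a from ha] at h2
        exact (neg_eq_of_add_eq_zero_right h2.symm).symm }
  have hle : Cfsg.leechLattice ≤ F.map Cfsg.leechLattice.subtype := by
    conv_lhs => rw [← Cfsg.Agent.S1567.result]
    rw [AddSubgroup.closure_le]
    rintro x ⟨hx1, hx2⟩
    exact ⟨⟨x, hx1⟩, hcon ⟨x, hx1⟩ hx2, rfl⟩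
  ext1 x
  obtain ⟨y, hy, hyx⟩ := hle x.2
  have : y = x := Subtype.ext hyx
  subst this
  exact hy

theorem smul_mem_minVecs (g : Equiv.Perm Cfsg.leechLattice) (hg : g ∈ Cfsg.Co0) {x : Cfsg.leechLattice}
    (hx : x ∈ minVecs) : g x ∈ minVecs := by
  change Cfsg.sqNorm _ = 32
  rw [hg.2 x]
  exact hx

/-- A group of automorphisms of the Leech lattice of order more than `196560 ^ 2`. -/
theorem big_of_le_co0 (G : Subgroup (Equiv.Perm Cfsg.leechLattice)) (hG : G ≤ Cfsg.Co0) (h : 38635833600 < Nat.card G) :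
    Big G := by
  have hfin : Finite G := Nat.finite_of_card_ne_zero (by omega)
  have hnt : Nontrivial G := (Finite.one_lt_card_iff_nontrivial).1 (by omega)
  obtain ⟨g, hg⟩ := exists_ne (1 : G)
  obtain ⟨x, hx, hgx⟩ := exists_moved g (hG g.2) (fun h => hg (Subtype.ext h))
  refine Big.of_orbit (x := x) (g := g) hgx (n := 196560) ?_ (by norm_num; exact h)
  rw [← ncard_minVecs]
  apply Set.ncard_le_ncard _ finite_minVecs
  rintro _ ⟨k, rfl⟩
  exact smul_mem_minVecs k (hG k.2) hx

theorem sqNorm_leechU : sqNorm (Spor.leechU : GolayPt → ℤ) = 32 := by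
  change sqNorm Spor.vecU = 32
  decide +kernel

theorem sqNorm_leechV : sqNorm (Spor.leechV : GolayPt → ℤ) = 48 := by
  change sqNorm Spor.vecV = 48
  decide +kernel

theorem card_stab_eq (v : leechLattice) :
    Nat.card ↥(Co0 ⊓ MulAction.stabilizer (Equiv.Perm leechLattice) v) = Nat.card ↥(MulAction.stabilizer Co0 v) := by
  have h : (MulAction.stabilizer Co0 v).map Co0.subtype = Co0 ⊓ MulAction.stabilizer (Equiv.Perm leechLattice) v := by
    ext g
    constructor
    · rintro ⟨h, hh, rfl⟩
      exact ⟨h.2, hh⟩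
    · rintro ⟨h1, h2⟩
      exact ⟨⟨g, h1⟩, h2, rfl⟩
  rw [← h, Subgroup.card_map_of_injective Co0.subtype_injective]

theorem big_co2 {G : Type u} [Group G] (h : Spor.IsoCo2 G) : Big G := by
  refine Big.of_nonempty h (big_of_le_co0 _ inf_le_left ?_)
  have h1 : Nat.card Spor.Co2 = 42305421312000 :=
    (card_stab_eq Spor.leechU).trans (S0402.result Spor.leechU sqNorm_leechU).2
  rw [h1]
  norm_num

theorem big_co3 {G : Type u} [Group G] (h : Spor.IsoCo3 G) : Big G := by
  refine Big.of_nonempty h (big_of_le_co0 _ inf_le_left ?_)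
  have h1 : Nat.card Spor.Co3 = 495766656000 :=
    (card_stab_eq Spor.leechV).trans (S0403.result Spor.leechV sqNorm_leechV).2
  rw [h1]
  norm_num

/-- The centre cannot fill up a stabiliser if the orbit is longer than the centre. -/
theorem sup_center_ne_top {X : Type*} [Group X] {Ω : Type*} [MulAction X Ω] (v : Ω) [Finite (Subgroup.center X)]
    (h : Nat.card (Subgroup.center X) < (MulAction.orbit X v).ncard) :
    MulAction.stabilizer X v ⊔ Subgroup.center X ≠ ⊤ := by
  intro htop
  apply absurd h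
  rw [not_lt]
  have hsub : MulAction.orbit X v ⊆ Set.range (fun z : Subgroup.center X => (z : X) • v) := by
    rintro _ ⟨g, rfl⟩
    have hg : g ∈ MulAction.stabilizer X v ⊔ Subgroup.center X := by rw [htop]; trivial
    obtain ⟨s, hs, z, hz, rfl⟩ := Subgroup.mem_sup_of_normal_right.1 hg
    refine ⟨⟨z, hz⟩, ?_⟩
    change z • v = (s * z) • v
    rw [Subgroup.mem_center_iff.1 hz s, mul_smul, show s • v = v from hs]
  refine le_trans (Set.ncard_le_ncard hsub (Set.finite_range _)) ?_
  rw [← Set.image_univ]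
  refine le_trans (Set.ncard_image_le Set.finite_univ) ?_
  rw [Set.ncard_univ]

theorem big_co1 {G : Type u} [Group G] (h : Spor.IsoCo1 G) : Big G := by
  refine Big.of_nonempty h ?_
  have horb : (MulAction.orbit Co0 Spor.leechU) = minVecs := by
    ext x
    constructor
    · rintro ⟨g, rfl⟩
      exact smul_mem_minVecs g g.2 sqNorm_leechU
    · intro hx
      obtain ⟨g, hg⟩ := S0400.result Spor.leechU x sqNorm_leechU hx
      exact ⟨g, hg⟩
  have hn : (MulAction.orbit Co0 Spor.leechU).ncard = 196560 := by rw [horb, ncard_minVecs]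
  have hfin : Finite (Subgroup.center Co0) := Nat.finite_of_card_ne_zero (by rw [S0398.result]; norm_num)
  refine Big.of_quotient (H := MulAction.stabilizer Co0 Spor.leechU) (n := 196560) ?_ ?_ ?_ ?_
  · apply sup_center_ne_top
    rw [hn, S0398.result]
    norm_num
  · rw [MulAction.index_stabilizer, hn]
  · rw [MulAction.index_stabilizer, hn]
    norm_num
  · rw [S0399.result.2]
    norm_num

end Cfsg.Agent.H933
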