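import Cfsg.Agent.H933.BigMonster
import Cfsg.Agent.MonsterP.Equiv

/-!
A large subgroup of the Monster.
-/

set_option autoImplicit false

namespace Cfsg.Agent.H933

universe u

theorem big_m {G : Type u} [Group G] (h : Spor.IsoM G) : Big G := by
  obtain ⟨e⟩ := h
  obtain ⟨e'⟩ := Cfsg.Agent.MonsterP.Equiv.equiv
  exact Big.of_equiv (e.trans e') (big_model Cfsg.Agent.MonsterX.InstanceFinal.mOrbit
    Cfsg.Agent.MonsterP.EquivOf.isM_model.2)

end Cfsg.Agent.H933
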