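import Cfsg.Agent.H933.Big
import Cfsg.Agent.S1680
import Cfsg.Agent.S1683
import Cfsg.Agent.S1687
import Cfsg.Agent.S1689
import Cfsg.Agent.S1690
import Cfsg.Agent.S1691
import Cfsg.Agent.S1692
import Cfsg.Agent.S1706
import Cfsg.Agent.S1707
import Cfsg.Agent.S1709
import Cfsg.Agent.S1712
import Cfsg.Agent.S1694
import Cfsg.Agent.S1695
import Cfsg.Agent.S1696
import Cfsg.Agent.S1697
import Cfsg.Agent.S1698
import Cfsg.Agent.S1699
import Cfsg.Agent.S1700
import Cfsg.Agent.S1701
import Cfsg.Agent.S1702
import Cfsg.Agent.S1703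

/-!
Large subgroups of the sporadic groups given by presentations.
-/

set_option autoImplicit false

namespace Cfsg.Agent.H933

universe u

theorem big_suz {G : Type u} [Group G] (h : Spor.IsoSuz G) : Big G :=
  Big.of_nonempty h (Big.of_index (G := Spor.Suz) S1680.result.1 S1694.result.2 (by norm_num) (by norm_num))

theorem big_he {G : Type u} [Group G] (h : Spor.IsoHe G) : Big G :=
  Big.of_nonempty h (Big.of_index (G := Spor.He) S1683.result.1 S1695.result.2 (by norm_num) (by norm_num))

theorem big_fi22 {G : Type u} [Group G] (h : Spor.IsoFi22 G) : Big G :=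
  Big.of_nonempty h (Big.of_index (G := Spor.Fi22) S1687.result.1 S1696.result.2 (by norm_num) (by norm_num))

theorem big_fi23 {G : Type u} [Group G] (h : Spor.IsoFi23 G) : Big G :=
  Big.of_nonempty h (Big.of_index (G := Spor.Fi23) S1689.result.1 S1697.result.2 (by norm_num) (by norm_num))

theorem big_on {G : Type u} [Group G] (h : Spor.IsoON G) : Big G :=
  Big.of_nonempty h (Big.of_index (G := Spor.ON) S1692.result S1699.result.2 (by norm_num) (by norm_num))

theorem big_th {G : Type u} [Group G] (h : Spor.IsoTh G) : Big G :=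
  Big.of_nonempty h (Big.of_index (G := Spor.Th) S1706.result S1700.result.2 (by norm_num) (by norm_num))

theorem big_hn {G : Type u} [Group G] (h : Spor.IsoHN G) : Big G :=
  Big.of_nonempty h (Big.of_index (G := Spor.HN) S1707.result S1701.result.2 (by norm_num) (by norm_num))

theorem big_ly {G : Type u} [Group G] (h : Spor.IsoLy G) : Big G :=
  Big.of_nonempty h (Big.of_index (G := Spor.Ly) S1709.result S1702.result.2 (by norm_num) (by norm_num))

theorem big_j4 {G : Type u} [Group G] (h : Spor.IsoJ4 G) : Big G :=
  Big.of_nonempty h (Big.of_index (G := Spor.J4) S1712.result S1703.result.2 (by norm_num) (by norm_num))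

/-- Intersecting with a subgroup of small index. -/
theorem Big.of_inter {X : Type*} [Group X] {D H : Subgroup X} {n N : ℕ} (hn : H.index = n) (hn0 : 0 < n)
    (hD : Nat.card D = N) (hdvd : ¬ n ∣ D.index) (h : n ^ 2 < N) : Big D := by
  refine Big.of_index_le (H := H.subgroupOf D) (n := n) ?_ ?_ (by rw [hD]; exact h)
  · intro ht
    rw [Subgroup.subgroupOf_eq_top] at ht
    apply hdvd
    rw [← hn]
    exact Subgroup.index_dvd_of_le ht
  · have h1 : H.relIndex D ≤ H.relIndex ⊤ :=
      Subgroup.relIndex_le_of_le_right le_top (by rw [Subgroup.relIndex_top_right, hn]; omega)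
    rw [Subgroup.relIndex_top_right, hn] at h1
    exact h1

theorem big_fi24 {G : Type u} [Group G] (h : Spor.IsoFi24' G) : Big G :=
  Big.of_nonempty h (Big.of_inter (X := Spor.Fi24) S1690.result (by norm_num) S1698.result.2
    (by rw [S1691.result]; norm_num) (by norm_num))

end Cfsg.Agent.H933
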