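import Cfsg.Agent.H933.BigSmallSpor
import Cfsg.Agent.RuLat.Main
import Cfsg.Agent.BM.KHAll

/-!
Large subgroups of the Rudvalis group and of the Baby Monster.
-/

set_option autoImplicit false

namespace Cfsg.Agent.H933

universe u

theorem big_ru {G : Type u} [Group G] (h : Spor.IsoRu G) : Big G := by
  obtain ⟨e⟩ := h
  refine Big.of_equiv (e.trans Cfsg.Agent.RuLat.Main.equiv) (Big.of_perm _ ?_)
  rw [← Nat.card_congr Cfsg.Agent.RuLat.Main.equiv.toEquiv, Cfsg.Agent.RuLat.Main.main.2.1]
  simp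

theorem big_b {G : Type u} [Group G] (h : Spor.IsoB G) : Big G :=
  Big.of_nonempty h (Big.of_index (G := Spor.BabyMonster) Cfsg.Agent.BM.KHAll.index_H Cfsg.Agent.BM.KHAll.card_B
    (by norm_num) (by norm_num))

end Cfsg.Agent.H933
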