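import Cfsg.Agent.H933.Big
import Cfsg.Agent.S0364
import Cfsg.Agent.SporadicA.MathieuRecog
import Cfsg.Agent.MTwelveType.SylowModel
import Cfsg.Agent.HNType.Alt
import Cfsg.Agent.SporadicB.J1.Main
import Cfsg.Agent.J2Sylow.SporSylow
import Cfsg.Agent.J2.HundredFinal
import Cfsg.Agent.S0458

/-!
Large subgroups of the Mathieu groups and of the first three Janko groups.
-/

set_option autoImplicit false

namespace Cfsg.Agent.H933

universe u

theorem card_golay : Nat.card Cfsg.GolayPt = 24 := by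
  rw [Nat.card_eq_fintype_card]
  rfl

theorem big_of_golay (G : Subgroup (Equiv.Perm Cfsg.GolayPt)) (N : ℕ) (h : Nat.card G = N) (hN : 576 < N) : Big G := by
  apply Big.of_perm
  rw [card_golay, h]
  exact hN

theorem big_m24 {G : Type u} [Group G] (h : Spor.IsoM24 G) : Big G :=
  Big.of_nonempty h (big_of_golay _ _ Cfsg.Agent.S0364.result (by norm_num))

theorem big_m23 {G : Type u} [Group G] (h : Spor.IsoM23 G) : Big G :=
  Big.of_nonempty h (big_of_golay _ _ Cfsg.Agent.SporadicA.MathieuRecog.card_M23 (by norm_num))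

theorem big_m22 {G : Type u} [Group G] (h : Spor.IsoM22 G) : Big G :=
  Big.of_nonempty h (big_of_golay _ _ Cfsg.Agent.SporadicA.MathieuRecog.card_M22 (by norm_num))

theorem big_m12 {G : Type u} [Group G] (h : Spor.IsoM12 G) : Big G :=
  Big.of_nonempty h (big_of_golay _ _ Cfsg.Agent.MTwelveType.SylowModel.card_M12 (by norm_num))

theorem big_m11 {G : Type u} [Group G] (h : Spor.IsoM11 G) : Big G :=
  Big.of_nonempty h (big_of_golay _ _ Cfsg.Agent.HNType.Alt.card_M11 (by norm_num))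

open Cfsg.Agent.SporadicB.J1.Mat Cfsg.Agent.SporadicB.J1.Data Cfsg.Agent.SporadicB.KTab
  Cfsg.Agent.SporadicB.J1.Main in
theorem exists_660 : ∃ H : Subgroup Cfsg.Spor.J1, Nat.card H = 660 := by
  have hcard : Nat.card Cfsg.Spor.J1 = 175560 := isJ1.2
  have hfin : Finite Cfsg.Spor.J1 := Nat.finite_of_card_ne_zero (by rw [hcard]; norm_num)
  let f : Fin 266 × Fin 660 → Matrix (Fin 7) (Fin 7) (ZMod 11) := fun p => dec (T p.1) * dec (H p.2)
  have hf : ∀ g : Cfsg.Spor.J1, ∃ p, f p = ((g : GL (Fin 7) (ZMod 11)) : Matrix (Fin 7) (Fin 7) (ZMod 11)) := by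
    intro g
    obtain ⟨i, hi, k, hk, h⟩ := mem_S_of_mem g.2
    exact ⟨(⟨i, hi⟩, ⟨k, hk⟩), h.symm⟩
  choose F hF using hf
  have hinj : Function.Injective F := by
    intro a b hab
    apply Subtype.ext
    apply Units.ext
    rw [← hF a, ← hF b, hab]
  have hbij : Function.Bijective F := by
    rw [Nat.bijective_iff_injective_and_card]
    refine ⟨hinj, ?_⟩
    rw [hcard]
    simp
  let P : Set Cfsg.Spor.J1 := {g | ∃ k < 660, ((g : GL (Fin 7) (ZMod 11)) : Matrix (Fin 7) (Fin 7) (ZMod 11)) = dec (H k)}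
  have hmul : ∀ a ∈ P, ∀ b ∈ P, a * b ∈ P := by
    rintro a ⟨k, hk, ha⟩ b ⟨l, hl, hb⟩
    obtain ⟨m, hm, h⟩ := H_mul k hk l hl
    refine ⟨m, hm, ?_⟩
    rw [← h, ← ha, ← hb]
    rfl
  have hone : (1 : Cfsg.Spor.J1) ∈ P := ⟨0, by norm_num, by rw [H0, dec_cI]; rfl⟩
  have hpow : ∀ a ∈ P, ∀ n : ℕ, a ^ n ∈ P := by
    intro a ha n
    induction n with
    | zero => simpa using hone
    | succ n ih => rw [pow_succ]; exact hmul _ ih _ ha
  let Q : Subgroup Cfsg.Spor.J1 :=
    { carrier := P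
      mul_mem' := fun {a b} ha hb => hmul a ha b hb
      one_mem' := hone
      inv_mem' := by
        intro a ha
        have h1 : a⁻¹ = a ^ (orderOf a - 1) := by
          rw [inv_eq_iff_mul_eq_one, ← pow_succ', Nat.sub_add_cancel (orderOf_pos a), pow_orderOf_eq_one]
        rw [h1]
        exact hpow a ha _ }
  refine ⟨Q, ?_⟩
  have e : Q ≃ Fin 660 := by
    refine Equiv.ofBijective (fun g => (F g.1).2) ⟨?_, ?_⟩
    · rintro ⟨a, ha⟩ ⟨b, hb⟩ hab
      obtain ⟨k, hk, ha⟩ := ha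
      obtain ⟨l, hl, hb⟩ := hb
      obtain ⟨a', ha'⟩ := hbij.2 (⟨0, by norm_num⟩, ⟨k, hk⟩)
      obtain ⟨b', hb'⟩ := hbij.2 (⟨0, by norm_num⟩, ⟨l, hl⟩)
      have h1 : a = a' := by
        apply Subtype.ext
        apply Units.ext
        rw [ha, ← hF a', ha']
        change _ = dec (T 0) * dec (H k)
        rw [T0, dec_cI, one_mul]
      have h2 : b = b' := by
        apply Subtype.ext
        apply Units.ext
        rw [hb, ← hF b', hb']
        change _ = dec (T 0) * dec (H l)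
        rw [T0, dec_cI, one_mul]
      subst h1 h2
      have h3 : (F a).2 = (F b).2 := hab
      rw [ha', hb'] at h3
      have h4 : k = l := congrArg Fin.val h3
      subst h4
      have : F a = F b := by rw [ha', hb']
      exact Subtype.ext (hinj this)
    · rintro ⟨k, hk⟩
      obtain ⟨a', ha'⟩ := hbij.2 (⟨0, by norm_num⟩, ⟨k, hk⟩)
      refine ⟨⟨a', k, hk, ?_⟩, ?_⟩
      · rw [← hF a', ha']
        change dec (T 0) * dec (H k) = _
        rw [T0, dec_cI, one_mul]
      · change (F a').2 = _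
        rw [ha']
  rw [Nat.card_congr e]
  simp

theorem big_j1 {G : Type u} [Group G] (h : Spor.IsoJ1 G) : Big G := by
  refine Big.of_nonempty h ?_
  obtain ⟨H, hH⟩ := exists_660
  exact Big.of_card hH Cfsg.Agent.SporadicB.J1.Main.isJ1.2 (by norm_num) (by norm_num) (by norm_num)

theorem big_j2 {G : Type u} [Group G] (h : Spor.IsoJ2 G) : Big G := by
  refine Big.of_nonempty h ?_
  obtain ⟨H, hH, -⟩ := Cfsg.Agent.J2.HundredFinal.main Cfsg.Agent.J2Sylow.SporSylow.card_J2
  exact Big.of_index hH Cfsg.Agent.J2Sylow.SporSylow.card_J2 (by norm_num) (by norm_num)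

end Cfsg.Agent.H933
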