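import Cfsg.Agent.H933.BigChev
import Cfsg.Agent.S1040
import Cfsg.Agent.S1066
import Cfsg.Agent.S1067
import Cfsg.Agent.S1068
import Cfsg.Agent.S1069
import Cfsg.Agent.S1074
import Cfsg.Agent.S1085
import Cfsg.Agent.S1086
import Cfsg.Agent.S1087
import Cfsg.Agent.S1088
import Cfsg.Agent.S1089
import Cfsg.Agent.S1090
import Cfsg.Agent.S1091
import Cfsg.Agent.S1092
import Cfsg.Agent.S1101
import Cfsg.Agent.S1102
import Cfsg.Agent.S1103
import Cfsg.Agent.S1106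
import Cfsg.Agent.S1107
import Cfsg.Agent.S1110
import Cfsg.Agent.S1111
import Cfsg.Agent.S1114
import Cfsg.Agent.S1115
import Cfsg.Agent.S1163

/-!
Large subgroups of the twisted groups of exceptional type and of the Tits group.
-/

set_option autoImplicit false

namespace Cfsg.Agent.H933

open Cfsg Cfsg.Lie

universe u

namespace BN

variable {G : Type u} [Group G] (P : BNPair G)

/-- A Weyl group of order more than two needs two generators. -/
theorem two_le_ncard [Finite G] (h : 2 < (P.B ⊓ P.N).relIndex P.N) : 2 ≤ P.S.ncard := by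
  by_contra hlt
  have h1 : ∃ s ∈ P.N, s * s ∈ P.B ∧ P.S ⊆ {s} := by
    have hle : P.S.ncard ≤ 1 := by omega
    rw [Set.ncard_le_one_iff_subset_singleton] at hle
    obtain ⟨s, hs⟩ := hle
    by_cases hS : s ∈ P.S
    · exact ⟨s, P.subset hS, P.sq_mem s hS, hs⟩
    · refine ⟨1, one_mem _, by rw [one_mul]; exact one_mem _, ?_⟩
      intro x hx
      have := hs hx
      rw [Set.mem_singleton_iff] at this
      exact absurd (this ▸ hx) hS
  obtain ⟨s, hs, hss, hS⟩ := h1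
  let T := (P.B ⊓ P.N).subgroupOf P.N
  have hT : T.Normal := by
    refine ⟨?_⟩
    rintro ⟨t, htN⟩ ht ⟨n, hn⟩
    have ht' : t ∈ P.B ⊓ P.N := Subgroup.mem_subgroupOf.1 ht
    rw [Subgroup.mem_subgroupOf]
    exact ⟨P.conj_mem n hn t ht', P.N.mul_mem (P.N.mul_mem hn htN) (P.N.inv_mem hn)⟩
  let s' : P.N ⧸ T := QuotientGroup.mk' T ⟨s, hs⟩
  have hs2 : s' ^ 2 = 1 := by
    rw [pow_two, ← map_mul]
    change ((⟨s, hs⟩ * ⟨s, hs⟩ : P.N) : P.N ⧸ T) = 1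
    rw [QuotientGroup.eq_one_iff, Subgroup.mem_subgroupOf]
    exact ⟨hss, P.N.mul_mem hs hs⟩
  have hgen : ∀ x : P.N ⧸ T, x ∈ Subgroup.zpowers s' := by
    intro x
    obtain ⟨⟨n, hn⟩, rfl⟩ := QuotientGroup.mk'_surjective T x
    have hle : P.N ≤ ((Subgroup.zpowers s').comap (QuotientGroup.mk' T)).map P.N.subtype := by
      conv_lhs => rw [← P.closure_sup]
      refine sup_le ?_ ?_
      · rw [Subgroup.closure_le]
        intro t ht
        have hts : t = s := hS ht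
        subst hts
        exact ⟨⟨t, hs⟩, Subgroup.mem_zpowers s', rfl⟩
      · intro t ht
        refine ⟨⟨t, ht.2⟩, ?_, rfl⟩
        have : QuotientGroup.mk' T ⟨t, ht.2⟩ = 1 := by
          change ((⟨t, ht.2⟩ : P.N) : P.N ⧸ T) = 1
          rw [QuotientGroup.eq_one_iff, Subgroup.mem_subgroupOf]
          exact ht
        change QuotientGroup.mk' T ⟨t, ht.2⟩ ∈ Subgroup.zpowers s'
        rw [this]
        exact one_mem _
    obtain ⟨m, hm, hmn⟩ := hle hn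
    have : m = ⟨n, hn⟩ := Subtype.ext hmn
    rw [← this]
    exact hm
  have hcard : Nat.card (P.N ⧸ T) ≤ 2 := by
    rw [← orderOf_eq_card_of_forall_mem_zpowers hgen]
    exact orderOf_le_of_pow_eq_one (by norm_num) hs2
  have : Nat.card (P.N ⧸ T) = (P.B ⊓ P.N).relIndex P.N := rfl
  omega

end BN

/-- General facts about `B¹ = G¹ ∩ B` and `N¹ = G¹ ∩ N`. -/
theorem tw_card_B {K : Type} [Field K] [Fintype K] (D : ChevalleyDatum)
    (hD : D ∈ [chevG2, chevB2, chevD4, chevF4, chevE6, chevE7, chevE8]) (T : Subgroup (GL D.Idx K)) :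
    Nat.card ↥(D.posUnipotent K ⊓ T) * Nat.card ↥(D.diagonalSubgroup K ⊓ T) ≤
      Nat.card ↥((D.borelSubgroup K ⊓ T).subgroupOf T) := by
  have hfB : Finite ↥(D.borelSubgroup K ⊓ T) := inferInstance
  rw [Nat.card_congr (Subgroup.subgroupOfEquivOfLe (inf_le_right : D.borelSubgroup K ⊓ T ≤ T)).toEquiv]
  refine card_mul_le (inf_le_inf_right _ le_sup_left) (inf_le_inf_right _ le_sup_right) ?_
  rw [eq_bot_iff, ← (S1036.result (F := K) D hD).2]
  exact inf_le_inf inf_le_left inf_le_left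

theorem tw_inf {K : Type} [Field K] [Fintype K] (D : ChevalleyDatum)
    (hD : D ∈ [chevG2, chevB2, chevD4, chevF4, chevE6, chevE7, chevE8]) (T : Subgroup (GL D.Idx K)) :
    (D.borelSubgroup K ⊓ T).subgroupOf T ⊓ (D.monomialSubgroup K ⊓ T).subgroupOf T =
      (D.diagonalSubgroup K ⊓ T).subgroupOf T := by
  have h := (S1040.result (F := K) D hD).2
  ext ⟨x, hx⟩
  have hx' : x ∈ D.diagonalSubgroup K ↔ x ∈ D.borelSubgroup K ∧ x ∈ D.monomialSubgroup K := by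
    rw [← h]
    rfl
  simp only [Subgroup.mem_inf, Subgroup.mem_subgroupOf]
  rw [hx']
  tauto

/-- The relative index of `H¹` in `N¹`. -/
theorem tw_relIndex {K : Type} [Field K] [Fintype K] (D : ChevalleyDatum)
    (hD : D ∈ [chevG2, chevB2, chevD4, chevF4, chevE6, chevE7, chevE8]) (T : Subgroup (GL D.Idx K))
    {W : Type*} [Group W] {φ : ↥(D.monomialSubgroup K ⊓ T) →* W} (hφ : Function.Surjective φ)
    (hk : φ.ker = (D.diagonalSubgroup K ⊓ T).subgroupOf (D.monomialSubgroup K ⊓ T)) :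
    ((D.borelSubgroup K ⊓ T).subgroupOf T ⊓ (D.monomialSubgroup K ⊓ T).subgroupOf T).relIndex
      ((D.monomialSubgroup K ⊓ T).subgroupOf T) = Nat.card W := by
  rw [tw_inf D hD]
  have h1 : (D.monomialSubgroup K ⊓ T) ≤ T := inf_le_right
  have h2 : ((D.diagonalSubgroup K ⊓ T).subgroupOf T).relIndex ((D.monomialSubgroup K ⊓ T).subgroupOf T) =
      (D.diagonalSubgroup K ⊓ T).relIndex (D.monomialSubgroup K ⊓ T) := by
    rw [Subgroup.subgroupOf, Subgroup.relIndex_comap, Subgroup.subgroupOf_map_subtype, inf_eq_left.2 h1]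
  rw [h2]
  have h3 : (D.diagonalSubgroup K ⊓ T).relIndex (D.monomialSubgroup K ⊓ T) = φ.ker.index := by
    rw [hk]
    rfl
  rw [h3, Subgroup.index_ker, MonoidHom.range_eq_top.2 hφ, Subgroup.card_top]

theorem BN.one_le_ncard {G : Type u} [Group G] (P : BNPair G) [Finite G] (h : 1 < (P.B ⊓ P.N).relIndex P.N) :
    1 ≤ P.S.ncard := by
  by_contra hlt
  have h0 : P.S.ncard = 0 := by omega
  rw [Set.ncard_eq_zero] at h0
  have h1 := P.closure_sup
  rw [h0, Subgroup.closure_empty, bot_sup_eq] at h1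
  rw [h1, Subgroup.relIndex_self] at h
  exact absurd h (lt_irrefl 1)

/-! ### `²E₆(q)` -/

theorem arith_2E6 {q g h d : ℕ} (hq : 2 ≤ q) (hd3 : d ≤ 3)
    (hg : d * g = q ^ 36 * (q ^ 2 - 1) * (q ^ 5 + 1) * (q ^ 6 - 1) * (q ^ 8 - 1) * (q ^ 9 + 1) * (q ^ 12 - 1))
    (hh : d * h = (q - 1) ^ 4 * (q + 1) ^ 2) : g < (3 ^ 1 * (q ^ 36 * h)) ^ 2 := by
  apply lt_of_mul_lt_mul_left _ (Nat.zero_le (d ^ 2))
  have h1 : d ^ 2 * (3 ^ 1 * (q ^ 36 * h)) ^ 2 = 9 * q ^ 72 * ((q - 1) ^ 4 * (q + 1) ^ 2) ^ 2 := by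
    rw [← hh]
    ring
  have h2 : d ^ 2 * g = d * (d * g) := by ring
  rw [h1, h2, hg]
  rcases Nat.eq_or_lt_of_le hq with rfl | hq3
  · calc d * (2 ^ 36 * (2 ^ 2 - 1) * (2 ^ 5 + 1) * (2 ^ 6 - 1) * (2 ^ 8 - 1) * (2 ^ 9 + 1) * (2 ^ 12 - 1))
        ≤ 3 * (2 ^ 36 * (2 ^ 2 - 1) * (2 ^ 5 + 1) * (2 ^ 6 - 1) * (2 ^ 8 - 1) * (2 ^ 9 + 1) * (2 ^ 12 - 1)) :=
          Nat.mul_le_mul_right _ hd3
      _ < _ := by norm_num
  · have hq1 : 1 ≤ q := by omega
    have e1 : q ^ 5 + 1 ≤ 2 * q ^ 5 := by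
      have : 1 ≤ q ^ 5 := Nat.one_le_pow _ _ hq1
      omega
    have e2 : q ^ 9 + 1 ≤ 2 * q ^ 9 := by
      have : 1 ≤ q ^ 9 := Nat.one_le_pow _ _ hq1
      omega
    have hL : d * (q ^ 36 * (q ^ 2 - 1) * (q ^ 5 + 1) * (q ^ 6 - 1) * (q ^ 8 - 1) * (q ^ 9 + 1) * (q ^ 12 - 1)) ≤
        12 * q ^ 78 := by
      calc d * (q ^ 36 * (q ^ 2 - 1) * (q ^ 5 + 1) * (q ^ 6 - 1) * (q ^ 8 - 1) * (q ^ 9 + 1) * (q ^ 12 - 1))
          ≤ 3 * (q ^ 36 * q ^ 2 * (2 * q ^ 5) * q ^ 6 * q ^ 8 * (2 * q ^ 9) * q ^ 12) := by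
            gcongr <;> first | exact hd3 | exact Nat.sub_le _ _
        _ = 12 * q ^ 78 := by ring
    refine lt_of_le_of_lt hL ?_
    apply lt_of_mul_lt_mul_left _ (Nat.zero_le (3 ^ 8))
    have e3 : 2 * q ≤ 3 * (q - 1) := by omega
    have e4 : (2 * q) ^ 8 ≤ (3 * (q - 1)) ^ 8 := Nat.pow_le_pow_left e3 8
    have e5 : q ^ 4 ≤ (q + 1) ^ 4 := Nat.pow_le_pow_left (by omega) 4
    have e6 : 729 ≤ q ^ 6 := by
      calc 729 = 3 ^ 6 := by norm_num
        _ ≤ q ^ 6 := Nat.pow_le_pow_left (by omega) 6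
    have hpos : 0 < q ^ 78 := Nat.pow_pos (by omega)
    calc 3 ^ 8 * (12 * q ^ 78) = 78732 * q ^ 78 := by ring
      _ < (2304 * 729) * q ^ 78 := Nat.mul_lt_mul_of_pos_right (by norm_num) hpos
      _ ≤ (2304 * q ^ 6) * q ^ 78 := by gcongr
      _ = 9 * q ^ 72 * ((2 * q) ^ 8 * q ^ 4) := by ring
      _ ≤ 9 * q ^ 72 * ((3 * (q - 1)) ^ 8 * (q + 1) ^ 4) := by gcongr
      _ = 3 ^ 8 * (9 * q ^ 72 * ((q - 1) ^ 4 * (q + 1) ^ 2) ^ 2) := by ring

theorem big_2E6 {G : Type u} [Group G] (h : Iso2E6 G) : Big G := by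
  obtain ⟨K, _, _, q, hq, hK, e⟩ := h
  refine Big.of_nonempty e ?_
  obtain ⟨P, hB, hN⟩ := S1085.result hq hK
  obtain ⟨h1, h2⟩ := gcd_le' (a := 3) (b := q + 1) (by norm_num)
  have hfin : Finite (twistedE6 K q) := inferInstance
  obtain ⟨φ, hφ, hk⟩ := S1103.result hq hK
  have hW : 2 < (P.B ⊓ P.N).relIndex P.N := by
    rw [hB, hN, tw_relIndex chevE6 (by simp) _ hφ hk, S1092.result (⟨4, CoxeterMatrix.F₄⟩, 1152) (by simp)]
    norm_num
  have hS := BN.two_le_ncard P hW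
  refine Big.of_bnPair P (k := 1) (b := q ^ 36 * Nat.card ↥(chevE6.diagonalSubgroup K ⊓ twistedE6 K q)) (by omega) ?_ rfl
    (arith_2E6 hq.two_le h2 (S1066.result hq hK) (S1102.result hq hK))
  rw [hB, ← S1086.result hq hK]
  exact tw_card_B chevE6 (by simp) _

/-! ### `³D₄(q)` -/

theorem arith_3D4 {q : ℕ} (hq : 2 ≤ q) : q ^ 12 * (q ^ 2 - 1) * (q ^ 6 - 1) * (q ^ 8 + q ^ 4 + 1) <
    (3 ^ 0 * (q ^ 12 * ((q - 1) ^ 2 * (q ^ 2 + q + 1)))) ^ 2 := by
  rcases Nat.eq_or_lt_of_le hq with rfl | hq3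
  · norm_num
  · have hq1 : 1 ≤ q := by omega
    have e1 : q ^ 8 + q ^ 4 + 1 ≤ 3 * q ^ 8 := by
      have h1 : 1 ≤ q ^ 8 := Nat.one_le_pow _ _ hq1
      have h2 : q ^ 4 ≤ q ^ 8 := Nat.pow_le_pow_right hq1 (by norm_num)
      omega
    have hL : q ^ 12 * (q ^ 2 - 1) * (q ^ 6 - 1) * (q ^ 8 + q ^ 4 + 1) ≤ 3 * q ^ 28 := by
      calc q ^ 12 * (q ^ 2 - 1) * (q ^ 6 - 1) * (q ^ 8 + q ^ 4 + 1)
          ≤ q ^ 12 * q ^ 2 * q ^ 6 * (3 * q ^ 8) := by
            gcongr <;> exact Nat.sub_le _ _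
        _ = 3 * q ^ 28 := by ring
    refine lt_of_le_of_lt hL ?_
    apply lt_of_mul_lt_mul_left _ (Nat.zero_le (3 ^ 4))
    have e3 : 2 * q ≤ 3 * (q - 1) := by omega
    have e4 : (2 * q) ^ 4 ≤ (3 * (q - 1)) ^ 4 := Nat.pow_le_pow_left e3 4
    have e5 : q ^ 2 ≤ q ^ 2 + q + 1 := by omega
    have e6 : 81 ≤ q ^ 4 := by
      calc 81 = 3 ^ 4 := by norm_num
        _ ≤ q ^ 4 := Nat.pow_le_pow_left (by omega) 4
    have hpos : 0 < q ^ 28 := Nat.pow_pos (by omega)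
    calc 3 ^ 4 * (3 * q ^ 28) = 243 * q ^ 28 := by ring
      _ < (16 * 81) * q ^ 28 := Nat.mul_lt_mul_of_pos_right (by norm_num) hpos
      _ ≤ (16 * q ^ 4) * q ^ 28 := by gcongr
      _ = q ^ 24 * ((2 * q) ^ 4 * (q ^ 2) ^ 2) := by ring
      _ ≤ q ^ 24 * ((3 * (q - 1)) ^ 4 * (q ^ 2 + q + 1) ^ 2) := by gcongr
      _ = 3 ^ 4 * (3 ^ 0 * (q ^ 12 * ((q - 1) ^ 2 * (q ^ 2 + q + 1)))) ^ 2 := by ring

theorem big_3D4 {G : Type u} [Group G] (h : Iso3D4 G) : Big G := by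
  obtain ⟨K, _, _, q, hq, hK, e⟩ := h
  refine Big.of_nonempty e ?_
  obtain ⟨P, hB, hN⟩ := S1087.result hq hK
  have hfin : Finite (twistedD4 K q) := inferInstance
  obtain ⟨φ, hφ, hk⟩ := S1107.result hq hK
  have hW : 1 < (P.B ⊓ P.N).relIndex P.N := by
    rw [hB, hN, tw_relIndex chevD4 (by simp) _ hφ hk, S1092.result (⟨2, CoxeterMatrix.G₂⟩, 12) (by simp)]
    norm_num
  have hS := BN.one_le_ncard P hW
  refine Big.of_bnPair P (k := 0) (b := q ^ 12 * ((q - 1) ^ 2 * (q ^ 2 + q + 1))) (by omega) ?_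
    (S1067.result hq hK) (arith_3D4 hq.two_le)
  rw [hB, ← S1088.result hq hK, ← S1106.result hq hK]
  exact tw_card_B chevD4 (by simp) _

/-! ### `²F₄(q)` -/

theorem arith_2F4 {q : ℕ} (hq : 8 ≤ q) : q ^ 12 * (q - 1) * (q ^ 3 + 1) * (q ^ 4 - 1) * (q ^ 6 + 1) <
    (3 ^ 0 * (q ^ 12 * (q - 1) ^ 2)) ^ 2 := by
  have hq1 : 1 ≤ q := by omega
  have e1 : q ^ 3 + 1 ≤ 2 * q ^ 3 := by
    have : 1 ≤ q ^ 3 := Nat.one_le_pow _ _ hq1
    omega
  have e2 : q ^ 6 + 1 ≤ 2 * q ^ 6 := by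
    have : 1 ≤ q ^ 6 := Nat.one_le_pow _ _ hq1
    omega
  have e3 : q * 4 < (q - 1) * (q - 1) ^ 2 := by
    have h1 : 7 ^ 2 ≤ (q - 1) ^ 2 := Nat.pow_le_pow_left (by omega) 2
    have h2 : q ≤ 2 * (q - 1) := by omega
    calc q * 4 ≤ (2 * (q - 1)) * 4 := Nat.mul_le_mul_right _ h2
      _ = (q - 1) * 8 := by ring
      _ < (q - 1) * 7 ^ 2 := Nat.mul_lt_mul_of_pos_left (by norm_num) (by omega)
      _ ≤ (q - 1) * (q - 1) ^ 2 := Nat.mul_le_mul_left _ h1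
  have hpos : 0 < q ^ 24 * (q - 1) := Nat.mul_pos (Nat.pow_pos (by omega)) (by omega)
  calc q ^ 12 * (q - 1) * (q ^ 3 + 1) * (q ^ 4 - 1) * (q ^ 6 + 1)
      ≤ q ^ 12 * (q - 1) * (2 * q ^ 3) * q ^ 4 * (2 * q ^ 6) := by
        gcongr
        exact Nat.sub_le _ _
    _ = (q ^ 24 * (q - 1)) * (q * 4) := by ring
    _ < (q ^ 24 * (q - 1)) * ((q - 1) * (q - 1) ^ 2) := Nat.mul_lt_mul_of_pos_left e3 hpos
    _ = _ := by ring

theorem big_2F4 {G : Type u} [Group G] (h : Iso2F4 G) : Big G := by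
  obtain ⟨K, _, _, m, hm, hK, e⟩ := h
  refine Big.of_nonempty e ?_
  obtain ⟨P, hB, hN⟩ := S1089.result hK
  have hfin : Finite (twistedF4 K (2 ^ m)) := inferInstance
  obtain ⟨φ, hφ, hk⟩ := S1111.result hK
  have hW : 1 < (P.B ⊓ P.N).relIndex P.N := by
    rw [hB, hN, tw_relIndex chevF4 (by simp) _ hφ hk, DihedralGroup.nat_card]
    norm_num
  have hS := BN.one_le_ncard P hW
  have hq8 : 8 ≤ 2 ^ (2 * m + 1) := by
    calc 8 = 2 ^ 3 := by norm_num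
      _ ≤ 2 ^ (2 * m + 1) := Nat.pow_le_pow_right (by norm_num) (by omega)
  refine Big.of_bnPair P (k := 0) (b := (2 ^ (2 * m + 1)) ^ 12 * (2 ^ (2 * m + 1) - 1) ^ 2) (by omega) ?_
    (S1068.result hK) (arith_2F4 hq8)
  rw [hB, ← S1090.result hK, ← S1110.result hK]
  exact tw_card_B chevF4 (by simp) _

/-! ### `²G₂(q)` -/

theorem arith_2G2 {q : ℕ} (hq : 27 ≤ q) : q ^ 3 * (q - 1) * (q ^ 3 + 1) < (3 ^ 0 * (q ^ 3 * (q - 1))) ^ 2 := by
  have e1 : q ^ 3 + 1 ≤ 2 * q ^ 3 := by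
    have : 1 ≤ q ^ 3 := Nat.one_le_pow _ _ (by omega)
    omega
  have hpos : 0 < q ^ 6 * (q - 1) := Nat.mul_pos (Nat.pow_pos (by omega)) (by omega)
  calc q ^ 3 * (q - 1) * (q ^ 3 + 1) ≤ q ^ 3 * (q - 1) * (2 * q ^ 3) := by gcongr
    _ = (q ^ 6 * (q - 1)) * 2 := by ring
    _ < (q ^ 6 * (q - 1)) * (q - 1) := Nat.mul_lt_mul_of_pos_left (by omega) hpos
    _ = _ := by ring

theorem big_2G2 {G : Type u} [Group G] (h : IsoRee G) : Big G := by
  obtain ⟨K, _, _, m, hm, hK, e⟩ := h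
  refine Big.of_nonempty e ?_
  obtain ⟨P, hB, hN⟩ := S1091.result hK
  have hfin : Finite (twistedG2 K (3 ^ m)) := inferInstance
  obtain ⟨φ, hφ, hk⟩ := S1115.result hK
  have hW : 1 < (P.B ⊓ P.N).relIndex P.N := by
    rw [hB, hN, tw_relIndex chevG2 (by simp) _ hφ hk, Nat.card_eq_fintype_card]
    decide
  have hS := BN.one_le_ncard P hW
  have hq27 : 27 ≤ 3 ^ (2 * m + 1) := by
    calc 27 = 3 ^ 3 := by norm_num
      _ ≤ 3 ^ (2 * m + 1) := Nat.pow_le_pow_right (by norm_num) (by omega)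
  refine Big.of_bnPair P (k := 0) (b := (3 ^ (2 * m + 1)) ^ 3 * (3 ^ (2 * m + 1) - 1)) (by omega) ?_
    (S1069.result hK) (arith_2G2 hq27)
  rw [hB, ← (S1101.result hK).2, ← S1114.result hK]
  exact tw_card_B chevG2 (by simp) _

/-! ### Suzuki groups -/

theorem big_Sz {G : Type u} [Group G] (h : IsoSuzuki G) : Big G := by
  obtain ⟨K, _, _, m, hm, hK, e⟩ := h
  refine Big.of_nonempty e ?_
  obtain ⟨hcard, S, hS, -⟩ := S1163.result hm hK
  have hq8 : 8 ≤ 2 ^ (2 * m + 1) := by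
    calc 8 = 2 ^ 3 := by norm_num
      _ ≤ 2 ^ (2 * m + 1) := Nat.pow_le_pow_right (by norm_num) (by omega)
  generalize 2 ^ (2 * m + 1) = q at *
  have e1 : q ^ 2 + 1 < q ^ 2 * (q - 1) := by
    have h1 : 64 ≤ q ^ 2 := by
      calc 64 = 8 ^ 2 := by norm_num
        _ ≤ q ^ 2 := Nat.pow_le_pow_left hq8 2
    calc q ^ 2 + 1 < q ^ 2 * 2 := by omega
      _ ≤ q ^ 2 * (q - 1) := Nat.mul_le_mul_left _ (by omega)
  have hpos : 0 < q ^ 2 * (q - 1) := Nat.mul_pos (Nat.pow_pos (by omega)) (by omega)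
  refine Big.of_card hS hcard (Nat.mul_pos hpos (by positivity)) ?_ ?_
  · calc q ^ 2 * (q - 1) = q ^ 2 * (q - 1) * 1 := (mul_one _).symm
      _ < q ^ 2 * (q - 1) * (q ^ 2 + 1) := Nat.mul_lt_mul_of_pos_left (by
        have : 1 ≤ q ^ 2 := Nat.one_le_pow _ _ (by omega)
        omega) hpos
  · rw [pow_two (q ^ 2 * (q - 1))]
    exact Nat.mul_lt_mul_of_pos_left e1 hpos

/-! ### The Tits group -/

/-- Large subgroups of a subgroup of index two of a group with a (B,N)-pair. -/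
theorem Big.of_bnPair_index_two {G : Type u} [Group G] [Finite G] (P : BNPair G) {T : Subgroup G} (hidx : T.index = 2)
    {k b n N : ℕ} (hk : k < P.S.ncard) (hb : b ≤ Nat.card P.B) (hn : 2 * n ≤ 3 ^ k * b) (hN : Nat.card T = N)
    (h : N < n ^ 2) : Big T := by
  obtain ⟨J, hJ, hJne, hJc⟩ := BN.exists_proper P hk
  have hne : P.parabolic J ≠ ⊤ := BN.parabolic_ne_top P hJ hJne
  refine Big.of_le_card (H := (P.parabolic J).subgroupOf T) (n := n) ?_ ?_ hN (by rw [← hN]; exact Nat.card_pos) h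
  · intro ht
    rw [Subgroup.subgroupOf_eq_top] at ht
    have h1 : (P.parabolic J).index ∣ 2 := by rw [← hidx]; exact Subgroup.index_dvd_of_le ht
    rcases (Nat.dvd_prime Nat.prime_two).1 h1 with h2 | h2
    · exact hne (Subgroup.index_eq_one.1 h2)
    · have h3 : (P.parabolic J).Normal := Subgroup.normal_of_index_eq_two h2
      have h4 := S0312.result P hJ
      rw [Subgroup.normalizer_eq_top] at h4
      exact hne h4.symm
  · have h1 : T.relIndex (P.parabolic J) ≤ T.relIndex ⊤ :=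
      Subgroup.relIndex_le_of_le_right le_top Subgroup.index_ne_zero_of_finite
    rw [Subgroup.relIndex_top_right, hidx] at h1
    have h2 := Subgroup.card_mul_index (T.subgroupOf (P.parabolic J))
    have h3 : Nat.card (T.subgroupOf (P.parabolic J)) = Nat.card ((P.parabolic J).subgroupOf T) := by
      rw [← Subgroup.inf_subgroupOf_right T, ← Subgroup.inf_subgroupOf_right (P.parabolic J),
        Nat.card_congr (Subgroup.subgroupOfEquivOfLe (inf_le_right : T ⊓ P.parabolic J ≤ P.parabolic J)).toEquiv,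
        Nat.card_congr (Subgroup.subgroupOfEquivOfLe (inf_le_right : P.parabolic J ⊓ T ≤ T)).toEquiv, inf_comm]
    have h4 : (T.subgroupOf (P.parabolic J)).index ≤ 2 := h1
    rw [h3] at h2
    have h5 : 2 * n ≤ Nat.card (P.parabolic J) :=
      hn.trans ((Nat.mul_le_mul_left _ hb).trans hJc)
    rw [← h2] at h5
    have h6 : Nat.card ((P.parabolic J).subgroupOf T) * (T.subgroupOf (P.parabolic J)).index ≤
        Nat.card ((P.parabolic J).subgroupOf T) * 2 := Nat.mul_le_mul_left _ h4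
    omega

theorem big_tits_aux (m : ℕ) (hm : m = 0) (hidx : (commutator ↥(twistedF4 (ZMod 2) (2 ^ m))).index = 2)
    (hcard : Nat.card ↥(commutator ↥(twistedF4 (ZMod 2) (2 ^ m))) = 2 ^ 11 * 3 ^ 3 * 5 ^ 2 * 13) :
    Big ↥(commutator ↥(twistedF4 (ZMod 2) (2 ^ m))) := by
  have hK : Fintype.card (ZMod 2) = 2 ^ (2 * m + 1) := by rw [ZMod.card, hm]; norm_num
  obtain ⟨P, hB, hN⟩ := S1089.result hK
  obtain ⟨φ, hφ, hk⟩ := S1111.result hK
  have hfin : Finite (twistedF4 (ZMod 2) (2 ^ m)) := inferInstance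
  have hW : 2 < (P.B ⊓ P.N).relIndex P.N := by
    rw [hB, hN, tw_relIndex chevF4 (by simp) _ hφ hk, DihedralGroup.nat_card]
    norm_num
  have hS := BN.two_le_ncard P hW
  have hBc : 4096 ≤ Nat.card P.B := by
    have h1 := tw_card_B chevF4 (by simp) (twistedF4 (ZMod 2) (2 ^ m))
    rw [S1090.result hK, S1110.result hK] at h1
    rw [hB]
    refine le_trans ?_ h1
    rw [hm]
    norm_num
  exact Big.of_bnPair_index_two P hidx (k := 1) (b := 4096) (n := 6144) (by omega) hBc (by norm_num) hcard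
    (by norm_num)

theorem big_TitsGroup : Big TitsGroup := by
  have key : ∀ n : ℕ, n = 2 ^ 0 → (commutator ↥(twistedF4 (ZMod 2) n)).index = 2 →
      Nat.card ↥(commutator ↥(twistedF4 (ZMod 2) n)) = 2 ^ 11 * 3 ^ 3 * 5 ^ 2 * 13 →
      Big ↥(commutator ↥(twistedF4 (ZMod 2) n)) := by
    rintro _ rfl h1 h2
    exact big_tits_aux 0 rfl h1 h2
  exact key 1 (by norm_num) S1074.result.1 S1074.result.2.2.2

theorem big_Tits {G : Type u} [Group G] (h : IsoTits G) : Big G := by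
  obtain ⟨e⟩ := h
  have h2 := @Big.of_equiv G _ TitsGroup _ e
  exact h2 big_TitsGroup

end Cfsg.Agent.H933
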