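import Cfsg.Prelude.Def_Classification2
import Cfsg.Agent.H933.BigClassical
import Cfsg.Agent.H933.BigTwisted
import Cfsg.Agent.H933.BigSmallSpor
import Cfsg.Agent.H933.BigJ3
import Cfsg.Agent.H933.BigConway
import Cfsg.Agent.H933.BigPresented
import Cfsg.Agent.H933.BigRuB
import Cfsg.Agent.H933.BigMonsterFin

/-!
Every known non-abelian finite simple group `G` has a proper subgroup `H` with `|G : H| ^ 2 < |G|`.
-/

set_option autoImplicit false

namespace Cfsg.Agent.H933

open Cfsg

universe u

theorem big_exceptional {G : Type u} [Group G] (h : IsExceptionalLieType G) : Big G := by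
  rcases h with h | h | h | h | h | h | h | h | h | h | h
  · exact big_G2 h
  · exact big_F4 h
  · exact big_E6 h
  · exact big_E7 h
  · exact big_E8 h
  · exact big_2E6 h
  · exact big_3D4 h
  · exact big_Sz h
  · exact big_2G2 h
  · exact big_2F4 h
  · exact big_Tits h

theorem big_sporadic {G : Type u} [Group G] (h : IsSporadicGroup G) : Big G := by
  rcases h with h | h | h | h | h | h | h | h | h | h | h | h | h | h | h | h | h | h | h | h | h | h | h | h | h | h
  · exact big_m11 h
  · exact big_m12 h
  · exact big_m22 h
  · exact big_m23 h
  · exact big_m24 h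
  · exact big_j1 h
  · exact big_j2 h
  · exact big_j3 h
  · exact big_j4 h
  · exact big_co1 h
  · exact big_co2 h
  · exact big_co3 h
  · exact big_mcl h
  · exact big_hs h
  · exact big_suz h
  · exact big_he h
  · exact big_ru h
  · exact big_on h
  · exact big_ly h
  · exact big_fi22 h
  · exact big_fi23 h
  · exact big_fi24 h
  · exact big_hn h
  · exact big_th h
  · exact big_b h
  · exact big_m h

/-- The large subgroup of a known non-abelian simple group. -/
theorem big_known {G : Type u} [Group G] (hG : ¬ IsMulCommutative G) (h : IsKnownSimple' G) : Big G := by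
  rcases h with h | h | h | h | h | h | h | h | h | h
  · exfalso
    apply hG
    have h1 : Fact (Nat.card G).Prime := ⟨h⟩
    have h2 : IsCyclic G := isCyclic_of_prime_card (p := Nat.card G) rfl
    exact IsCyclic.isMulCommutative
  · exact big_alt h
  · exact big_psl hG h
  · exact big_psp hG h
  · exact big_psu hG h
  · exact big_pomega_odd hG h
  · exact big_pomega_plus hG h
  · exact big_pomega_minus hG h
  · exact big_exceptional h
  · exact big_sporadic h

end Cfsg.Agent.H933
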