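import Cfsg.Agent.H933.BigBN
import Cfsg.Agent.S1027
import Cfsg.Agent.S1035
import Cfsg.Agent.S1036
import Cfsg.Agent.S1042
import Cfsg.Agent.S1059
import Cfsg.Agent.S1062
import Cfsg.Agent.S1063
import Cfsg.Agent.S1064
import Cfsg.Agent.S1065

/-!
Large subgroups of the Chevalley groups of exceptional type.
-/

set_option autoImplicit false

namespace Cfsg.Agent.H933

open Cfsg Cfsg.Lie

universe u

/-- `|U| |H| ≤ |UH|` when `U ∩ H = 1`. -/
theorem card_mul_le {G : Type*} [Group G] {U H B : Subgroup G} (hU : U ≤ B) (hH : H ≤ B) (hUH : U ⊓ H = ⊥)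
    [Finite B] : Nat.card U * Nat.card H ≤ Nat.card B := by
  rw [← Nat.card_prod]
  refine Nat.card_le_card_of_injective (fun p : U × H => (⟨(p.1 : G) * p.2, B.mul_mem (hU p.1.2) (hH p.2.2)⟩ : B)) ?_
  intro p q hpq
  have h := congrArg Subtype.val hpq
  exact Subgroup.mul_injective_of_disjoint (disjoint_iff.2 hUH) h

/-- The arithmetic behind the Chevalley groups. -/
theorem chev_arith {q g h d r N : ℕ} (hq : 2 ≤ q) (hd : 0 < d) (hg : d * g ≤ q ^ (2 * N + r))
    (hh : d * h = (q - 1) ^ r) (hc : d * 2 ^ r < 9 ^ (r - 1)) : g < (3 ^ (r - 1) * (q ^ N * h)) ^ 2 := by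
  have hd2 : 0 < d ^ 2 := by positivity
  apply lt_of_mul_lt_mul_left _ (Nat.zero_le (d ^ 2))
  have h1 : d ^ 2 * (3 ^ (r - 1) * (q ^ N * h)) ^ 2 = 9 ^ (r - 1) * q ^ (2 * N) * ((q - 1) ^ r) ^ 2 := by
    rw [← hh]
    have : (9 : ℕ) = 3 ^ 2 := by norm_num
    rw [this, ← pow_mul, mul_comm 2 (r - 1), pow_mul 3, mul_comm 2 N, pow_mul q]
    ring
  have h2 : q ≤ 2 * (q - 1) := by omega
  have h3 : q ^ r ≤ 2 ^ r * (q - 1) ^ r := by
    rw [← mul_pow]
    exact Nat.pow_le_pow_left h2 r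
  have hpos : 0 < (q - 1) ^ r := Nat.pow_pos (by omega)
  rw [h1]
  calc d ^ 2 * g = d * (d * g) := by ring
    _ ≤ d * q ^ (2 * N + r) := Nat.mul_le_mul_left _ hg
    _ = d * (q ^ (2 * N) * q ^ r) := by rw [pow_add]
    _ ≤ d * (q ^ (2 * N) * (2 ^ r * (q - 1) ^ r)) := by gcongr
    _ = (d * 2 ^ r) * (q ^ (2 * N) * (q - 1) ^ r) := by ring
    _ < 9 ^ (r - 1) * (q ^ (2 * N) * (q - 1) ^ r) := by
      apply Nat.mul_lt_mul_of_pos_right hc
      positivity
    _ = 9 ^ (r - 1) * q ^ (2 * N) * ((q - 1) ^ r * 1) := by ring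
    _ ≤ 9 ^ (r - 1) * q ^ (2 * N) * ((q - 1) ^ r * (q - 1) ^ r) := by
      gcongr
      exact hpos
    _ = _ := by ring

/-- Chevalley groups in general, from the order formula. -/
theorem big_chev {F : Type} [Field F] [Fintype F] (D : ChevalleyDatum)
    (hD : D ∈ [chevG2, chevB2, chevD4, chevF4, chevE6, chevE7, chevE8]) {d N r : ℕ}
    (hN : D.nroots / 2 = N) (hr : D.rank = r) (hr0 : 0 < r) (hd : 0 < d)
    (hH : d * Nat.card (D.diagonalSubgroup F) = (Fintype.card F - 1) ^ D.rank)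
    (hg : d * Nat.card (D.group F) ≤ Fintype.card F ^ (2 * N + r)) (hc : d * 2 ^ r < 9 ^ (r - 1)) :
    Big (D.group F) := by
  obtain ⟨P, hB, -, hS⟩ := S1042.result (F := F) D hD
  have hq : 2 ≤ Fintype.card F := Fintype.one_lt_card
  have hfin : Finite (D.group F) := inferInstance
  have hncard : P.S.ncard = r := by
    have h1 : P.S = Set.range (S1042.nn hD F) := by
      rw [hS]
      ext g
      constructor
      · rintro ⟨i, hi, hg⟩
        exact ⟨⟨i, hi⟩, Subtype.ext ((Cfsg.Agent.ChevalleyStructure.Elts.eq_nG_iff hD _ _ _).2 hg).symm⟩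
      · rintro ⟨i, rfl⟩
        exact ⟨i, i.2, Cfsg.Agent.ChevalleyStructure.Elts.coe_nG hD _ _⟩
    rw [h1, ← Set.image_univ, Set.ncard_image_of_injective, Set.ncard_univ, Nat.card_eq_fintype_card,
      Fintype.card_fin, hr]
    intro i j hij
    have h2 : (S1042.nn hD F i : GL D.Idx F) = S1042.nn hD F j := congrArg Subtype.val hij
    rw [S1042.coe_nn, S1042.coe_nn] at h2
    apply Fin.ext
    apply S1042.eq_of_inv_mul_mem (F := F) hD i.2 j.2
    rw [h2, inv_mul_cancel]
    exact one_mem _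
  refine Big.of_bnPair P (k := r - 1) (b := Fintype.card F ^ N * Nat.card (D.diagonalSubgroup F)) (by omega) ?_ rfl
    (chev_arith hq hd hg (by rw [hH, hr]) hc)
  have hle : D.borelSubgroup F ≤ D.group F := (S1043.result (F := F) D hD).1
  rw [hB, Nat.card_congr (Subgroup.subgroupOfEquivOfLe hle).toEquiv, ← hN, ← S1027.result D hD]
  have hfB : Finite (D.borelSubgroup F) := inferInstance
  exact card_mul_le le_sup_left le_sup_right (S1036.result (F := F) D hD).2

theorem big_G2 {G : Type u} [Group G] (h : IsoChevG2 G) : Big G := by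
  obtain ⟨F, _, _, -, e⟩ := h
  refine Big.of_nonempty e (big_chev (N := 6) (r := 2) (d := 1) chevG2 (by simp) (by decide) (by decide) (by norm_num)
    (by norm_num) (S1035.result rfl (chevG2, 1) (by simp)) ?_ (by norm_num))
  rw [S1059.result rfl, one_mul]
  calc Fintype.card F ^ 6 * (Fintype.card F ^ 2 - 1) * (Fintype.card F ^ 6 - 1)
      ≤ Fintype.card F ^ 6 * (Fintype.card F ^ 2) * (Fintype.card F ^ 6) := by
        gcongr <;> exact Nat.sub_le _ _
    _ = _ := by ring

theorem big_F4 {G : Type u} [Group G] (h : IsoF4 G) : Big G := by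
  obtain ⟨F, _, _, e⟩ := h
  refine Big.of_nonempty e (big_chev (N := 24) (r := 4) (d := 1) chevF4 (by simp) (by decide) (by decide) (by norm_num)
    (by norm_num) (S1035.result rfl (chevF4, 1) (by simp)) ?_ (by norm_num))
  rw [S1062.result rfl, one_mul]
  calc Fintype.card F ^ 24 * (Fintype.card F ^ 2 - 1) * (Fintype.card F ^ 6 - 1) * (Fintype.card F ^ 8 - 1) *
        (Fintype.card F ^ 12 - 1)
      ≤ Fintype.card F ^ 24 * (Fintype.card F ^ 2) * (Fintype.card F ^ 6) * (Fintype.card F ^ 8) *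
        (Fintype.card F ^ 12) := by
        gcongr <;> exact Nat.sub_le _ _
    _ = _ := by ring

theorem gcd_le' {a b : ℕ} (ha : 0 < a) : 0 < Nat.gcd a b ∧ Nat.gcd a b ≤ a :=
  ⟨Nat.gcd_pos_of_pos_left _ ha, Nat.le_of_dvd ha (Nat.gcd_dvd_left _ _)⟩

theorem big_E6 {G : Type u} [Group G] (h : IsoChevE6 G) : Big G := by
  obtain ⟨F, _, _, e⟩ := h
  obtain ⟨h1, h2⟩ := gcd_le' (a := 3) (b := Fintype.card F - 1) (by norm_num)
  refine Big.of_nonempty e (big_chev (N := 36) (r := 6) (d := Nat.gcd 3 (Fintype.card F - 1)) chevE6 (by simp)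
    (by decide) (by decide) (by norm_num) h1
    (S1035.result rfl (chevE6, Nat.gcd 3 (Fintype.card F - 1)) (by simp)) ?_
    (lt_of_le_of_lt (Nat.mul_le_mul_right _ h2) (by norm_num)))
  rw [S1063.result rfl]
  calc Fintype.card F ^ 36 * (Fintype.card F ^ 2 - 1) * (Fintype.card F ^ 5 - 1) * (Fintype.card F ^ 6 - 1) *
        (Fintype.card F ^ 8 - 1) * (Fintype.card F ^ 9 - 1) * (Fintype.card F ^ 12 - 1)
      ≤ Fintype.card F ^ 36 * (Fintype.card F ^ 2) * (Fintype.card F ^ 5) * (Fintype.card F ^ 6) *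
        (Fintype.card F ^ 8) * (Fintype.card F ^ 9) * (Fintype.card F ^ 12) := by
        gcongr <;> exact Nat.sub_le _ _
    _ = _ := by ring

theorem big_E7 {G : Type u} [Group G] (h : IsoE7 G) : Big G := by
  obtain ⟨F, _, _, e⟩ := h
  obtain ⟨h1, h2⟩ := gcd_le' (a := 2) (b := Fintype.card F - 1) (by norm_num)
  refine Big.of_nonempty e (big_chev (N := 63) (r := 7) (d := Nat.gcd 2 (Fintype.card F - 1)) chevE7 (by simp)
    (by decide) (by decide) (by norm_num) h1
    (S1035.result rfl (chevE7, Nat.gcd 2 (Fintype.card F - 1)) (by simp)) ?_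
    (lt_of_le_of_lt (Nat.mul_le_mul_right _ h2) (by norm_num)))
  rw [S1064.result rfl]
  calc Fintype.card F ^ 63 * (Fintype.card F ^ 2 - 1) * (Fintype.card F ^ 6 - 1) * (Fintype.card F ^ 8 - 1) *
        (Fintype.card F ^ 10 - 1) * (Fintype.card F ^ 12 - 1) * (Fintype.card F ^ 14 - 1) * (Fintype.card F ^ 18 - 1)
      ≤ Fintype.card F ^ 63 * (Fintype.card F ^ 2) * (Fintype.card F ^ 6) * (Fintype.card F ^ 8) *
        (Fintype.card F ^ 10) * (Fintype.card F ^ 12) * (Fintype.card F ^ 14) * (Fintype.card F ^ 18) := by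
        gcongr <;> exact Nat.sub_le _ _
    _ = _ := by ring

theorem big_E8 {G : Type u} [Group G] (h : IsoE8 G) : Big G := by
  obtain ⟨F, _, _, e⟩ := h
  refine Big.of_nonempty e (big_chev (N := 120) (r := 8) (d := 1) chevE8 (by simp)
    (by decide) (by decide) (by norm_num) (by norm_num)
    (S1035.result rfl (chevE8, 1) (by simp)) ?_ (by norm_num))
  rw [S1065.result rfl, one_mul]
  calc Fintype.card F ^ 120 * (Fintype.card F ^ 2 - 1) * (Fintype.card F ^ 8 - 1) * (Fintype.card F ^ 12 - 1) *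
        (Fintype.card F ^ 14 - 1) * (Fintype.card F ^ 18 - 1) * (Fintype.card F ^ 20 - 1) *
        (Fintype.card F ^ 24 - 1) * (Fintype.card F ^ 30 - 1)
      ≤ Fintype.card F ^ 120 * (Fintype.card F ^ 2) * (Fintype.card F ^ 8) * (Fintype.card F ^ 12) *
        (Fintype.card F ^ 14) * (Fintype.card F ^ 18) * (Fintype.card F ^ 20) *
        (Fintype.card F ^ 24) * (Fintype.card F ^ 30) := by
        gcongr <;> exact Nat.sub_le _ _
    _ = _ := by ring

end Cfsg.Agent.H933
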