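import Cfsg.Agent.H933.Big
import Cfsg.Agent.S0312
import Cfsg.Agent.S0314
import Cfsg.Agent.S0315

/-!
Large subgroups of groups with a (B,N)-pair: the standard parabolic subgroup of a set of `k` distinguished generators
has order at least `3 ^ k |B|`.
-/

set_option autoImplicit false

namespace Cfsg.Agent.H933

open Cfsg

universe u

namespace BN

variable {G : Type u} [Group G] (P : BNPair G)

theorem parabolic_empty : P.parabolic ∅ = P.B := by
  unfold BNPair.parabolic
  rw [Subgroup.closure_empty, sup_bot_eq]

theorem parabolic_S : P.parabolic P.S = ⊤ := by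
  rw [eq_top_iff, ← P.sup_eq_top]
  unfold BNPair.parabolic
  refine sup_le le_sup_left ?_
  rw [← P.closure_sup]
  exact sup_le le_sup_right (inf_le_left.trans le_sup_left)

theorem parabolic_mono {J K : Set G} (h : J ⊆ K) : P.parabolic J ≤ P.parabolic K :=
  sup_le_sup_left (Subgroup.closure_mono h) _

theorem parabolic_ne_top {J : Set G} (hJ : J ⊆ P.S) (hne : J ≠ P.S) : P.parabolic J ≠ ⊤ := by
  intro h
  apply hne
  exact S0314.result P hJ subset_rfl (by rw [h, parabolic_S])

/-- `|P_s : B| ≥ 3`. -/
theorem three_le_relIndex [Finite G] {s : G} (hs : s ∈ P.S) : 3 ≤ P.B.relIndex (P.parabolic {s}) := by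
  have hS : ({s} : Set G) ⊆ P.S := Set.singleton_subset_iff.2 hs
  have hle : P.B ≤ P.parabolic {s} := le_sup_left
  have h0 : P.B.relIndex (P.parabolic {s}) ≠ 0 := Subgroup.index_ne_zero_of_finite
  have hne : P.B ≠ P.parabolic {s} := by
    intro h
    have h1 : (∅ : Set G) = {s} :=
      S0314.result P (Set.empty_subset _) hS (by rw [parabolic_empty]; exact h)
    exact (Set.singleton_ne_empty s) h1.symm
  have h1 : P.B.relIndex (P.parabolic {s}) ≠ 1 := by
    rw [Ne, Subgroup.relIndex_eq_one]
    intro h
    exact hne (le_antisymm hle h)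
  have h2 : P.B.relIndex (P.parabolic {s}) ≠ 2 := by
    intro h
    have hn : (P.B.subgroupOf (P.parabolic {s})).Normal := Subgroup.normal_of_index_eq_two h
    have h3 : P.parabolic {s} ≤ Subgroup.normalizer (P.B : Set G) :=
      (Subgroup.normal_subgroupOf_iff_le_normalizer hle).1 hn
    have h4 := S0312.result P (Set.empty_subset P.S)
    rw [parabolic_empty] at h4
    rw [h4] at h3
    exact hne (le_antisymm hle h3)
  omega

/-- `|P_J| ≥ 3 ^ |J| |B|`. -/
theorem card_parabolic [Finite G] (J : Finset G) (hJ : (J : Set G) ⊆ P.S) :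
    3 ^ J.card * Nat.card P.B ≤ Nat.card (P.parabolic J) := by
  classical
  induction J using Finset.induction_on with
  | empty => rw [Finset.coe_empty, parabolic_empty, Finset.card_empty, pow_zero, one_mul]
  | insert s J hs ih =>
    have hJ' : (J : Set G) ⊆ P.S := fun x hx => hJ (by rw [Finset.coe_insert]; exact Or.inr hx)
    have hsS : s ∈ P.S := hJ (by rw [Finset.coe_insert]; exact Or.inl rfl)
    have ih' := ih hJ'
    have hS : ({s} : Set G) ⊆ P.S := Set.singleton_subset_iff.2 hsS
    have h1 : P.parabolic J ≤ P.parabolic (insert s J : Finset G) :=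
      parabolic_mono P (by rw [Finset.coe_insert]; exact Set.subset_insert _ _)
    have h2 : P.parabolic {s} ≤ P.parabolic (insert s J : Finset G) :=
      parabolic_mono P (by rw [Finset.coe_insert]; exact Set.singleton_subset_iff.2 (Set.mem_insert _ _))
    have hinf : P.parabolic J ⊓ P.parabolic {s} = P.B := by
      rw [S0315.result P hJ' hS]
      have : (J : Set G) ∩ {s} = ∅ := by
        rw [Set.inter_singleton_eq_empty]
        exact hs
      rw [this, parabolic_empty]
    have h3 : (P.parabolic J).relIndex (P.parabolic {s}) ≤ (P.parabolic J).relIndex (P.parabolic (insert s J : Finset G)) :=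
      Subgroup.relIndex_le_of_le_right h2 Subgroup.index_ne_zero_of_finite
    have h4 : (P.parabolic J).relIndex (P.parabolic {s}) = P.B.relIndex (P.parabolic {s}) := by
      rw [← hinf, Subgroup.inf_relIndex_right]
    have h5 := three_le_relIndex P hsS
    have h6 : (P.parabolic J).relIndex (P.parabolic (insert s J : Finset G)) * Nat.card (P.parabolic J) =
        Nat.card (P.parabolic (insert s J : Finset G)) := by
      have := Subgroup.card_mul_index ((P.parabolic J).subgroupOf (P.parabolic (insert s J : Finset G)))
      rw [Nat.card_congr (Subgroup.subgroupOfEquivOfLe h1).toEquiv] at this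
      rw [mul_comm]
      exact this
    rw [Finset.card_insert_of_notMem hs, pow_succ]
    calc 3 ^ J.card * 3 * Nat.card P.B = 3 * (3 ^ J.card * Nat.card P.B) := by ring
      _ ≤ (P.parabolic J).relIndex (P.parabolic (insert s J : Finset G)) * Nat.card (P.parabolic J) := by
        apply Nat.mul_le_mul
        · omega
        · exact ih'
      _ = _ := h6

/-- There is a proper subgroup of order at least `3 ^ k |B|` when there are more than `k` distinguished generators. -/
theorem exists_proper [Finite G] {k : ℕ} (hk : k < P.S.ncard) :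
    ∃ J : Finset G, (J : Set G) ⊆ P.S ∧ (J : Set G) ≠ P.S ∧ 3 ^ k * Nat.card P.B ≤ Nat.card (P.parabolic J) := by
  have hfin : P.S.Finite := Set.toFinite _
  obtain ⟨T, hT, hTk⟩ := Set.exists_subset_card_eq hk.le
  have hTf : T.Finite := hfin.subset hT
  refine ⟨hTf.toFinset, by rw [Set.Finite.coe_toFinset]; exact hT, ?_, ?_⟩
  · rw [Set.Finite.coe_toFinset]
    rintro rfl
    omega
  · have := card_parabolic P hTf.toFinset (by rw [Set.Finite.coe_toFinset]; exact hT)
    rwa [← Set.ncard_eq_toFinset_card, hTk] at this

end BN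

theorem Big.of_bnPair {G : Type u} [Group G] [Finite G] (P : BNPair G) {k b N : ℕ} (hk : k < P.S.ncard)
    (hb : b ≤ Nat.card P.B) (hN : Nat.card G = N) (h : N < (3 ^ k * b) ^ 2) : Big G := by
  obtain ⟨J, hJ, hne, hc⟩ := BN.exists_proper P hk
  refine Big.of_le_card (H := P.parabolic J) (BN.parabolic_ne_top P hJ hne)
    (n := 3 ^ k * b) (le_trans (Nat.mul_le_mul_left _ hb) hc) hN ?_ h
  rw [← hN]
  exact Nat.card_pos

end Cfsg.Agent.H933
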