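import Cfsg.Agent.H933.Big
import Mathlib.LinearAlgebra.Projectivization.Action
import Mathlib.LinearAlgebra.Projectivization.Cardinality
import Mathlib.LinearAlgebra.Center

/-!
Large subgroups of central quotients of linear groups: the stabiliser of a line.
-/

set_option autoImplicit false

namespace Cfsg.Agent.H933

open scoped LinearAlgebra.Projectivization

/-- The centre cannot fill up a subgroup whose index exceeds the order of the centre. -/
theorem sup_center_ne_top' {X : Type*} [Group X] [Finite X] (H : Subgroup X)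
    (h : Nat.card (Subgroup.center X) < H.index) : H ⊔ Subgroup.center X ≠ ⊤ := by
  intro htop
  apply absurd h
  rw [not_lt]
  have hsurj : Function.Surjective (fun z : Subgroup.center X => ((z : X) : X ⧸ H)) := by
    intro y
    obtain ⟨g, rfl⟩ := QuotientGroup.mk_surjective y
    have hg : g ∈ H ⊔ Subgroup.center X := by rw [htop]; trivial
    obtain ⟨s, hs, z, hz, rfl⟩ := Subgroup.mem_sup_of_normal_right.1 hg
    refine ⟨⟨z, hz⟩, ?_⟩
    rw [QuotientGroup.eq]
    change z⁻¹ * (s * z) ∈ H
    rw [Subgroup.mem_center_iff.1 hz s, inv_mul_cancel_left]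
    exact hs
  exact Nat.card_le_card_of_surjective _ hsurj

/-- If all stabilisers together with the centre are everything, commutators fix all points. -/
theorem comm_fix {X : Type*} [Group X] {Ω : Type*} [MulAction X Ω] (D : Ω)
    (h : MulAction.stabilizer X D ⊔ Subgroup.center X = ⊤) (x y : X) : (x * y) • D = (y * x) • D := by
  have key : ∀ g : X, ∃ z ∈ Subgroup.center X, g • D = z • D := by
    intro g
    have hg : g ∈ MulAction.stabilizer X D ⊔ Subgroup.center X := by rw [h]; trivial
    obtain ⟨s, hs, z, hz, rfl⟩ := Subgroup.mem_sup_of_normal_right.1 hg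
    refine ⟨z, hz, ?_⟩
    rw [Subgroup.mem_center_iff.1 hz s, mul_smul, show s • D = D from hs]
  obtain ⟨z, hz, hxz⟩ := key x
  obtain ⟨w, hw, hyw⟩ := key y
  rw [mul_smul, mul_smul, hyw, hxz, ← mul_smul, ← mul_smul, Subgroup.mem_center_iff.1 hw x, mul_smul w x, hxz,
    Subgroup.mem_center_iff.1 hz y, mul_smul z y, hyw, ← mul_smul, ← mul_smul, Subgroup.mem_center_iff.1 hz w]

/-- Central quotients of linear groups: if the number of lines is small, the stabiliser of a suitable line is large. -/
theorem big_projective {X : Type*} [Group X] [Finite X] {K V : Type*} [Field K] [Finite K] [AddCommGroup V] [Module K V]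
    [Finite V] (ρ : X →* Module.End K V) (hρ : Function.Injective ρ)
    (hna : ¬ ∀ a b : X ⧸ Subgroup.center X, a * b = b * a)
    (h : Nat.card (ℙ K V) ^ 2 < Nat.card (X ⧸ Subgroup.center X)) : Big (X ⧸ Subgroup.center X) := by
  let _ : DistribMulAction X V := DistribMulAction.compHom V ρ
  have hsmul : ∀ (x : X) (v : V), x • v = ρ x v := fun _ _ => rfl
  have _ : SMulCommClass X K V := ⟨fun x c v => by rw [hsmul, hsmul, map_smul]⟩
  have hfin : Finite (ℙ K V) := (Projectivization.finite_iff_of_finite K V).2 inferInstance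
  have key : ∃ D : ℙ K V, MulAction.stabilizer X D ⊔ Subgroup.center X ≠ ⊤ := by
    by_contra hcon
    push Not at hcon
    apply hna
    intro a b
    obtain ⟨x, rfl⟩ := QuotientGroup.mk_surjective a
    obtain ⟨y, rfl⟩ := QuotientGroup.mk_surjective b
    rw [← QuotientGroup.mk_mul, ← QuotientGroup.mk_mul, eq_comm, QuotientGroup.eq]
    -- `g = (y x)⁻¹ (x y)` acts as a scalar
    have hfix : ∀ D : ℙ K V, ((y * x)⁻¹ * (x * y)) • D = D := by
      intro D
      rw [mul_smul, comm_fix D (hcon D) x y, inv_smul_smul]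
    set g := (y * x)⁻¹ * (x * y) with hg
    have hdep : ∀ v : V, ¬ LinearIndependent K ![v, ρ g v] := by
      intro v hv
      have hv0 : v ≠ 0 := by
        have := hv.ne_zero 0
        simpa using this
      have h1 := hfix (Projectivization.mk K v hv0)
      rw [Projectivization.smul_mk, Projectivization.mk_eq_mk_iff'] at h1
      obtain ⟨c, hc⟩ := h1
      rw [LinearIndependent.pair_iff] at hv
      have h2 := hv c (-1) (by rw [hc, hsmul]; simp)
      exact absurd h2.2 (by simp)
    obtain ⟨c, hc⟩ := LinearMap.exists_eq_smul_id_of_forall_notLinearIndependent hdep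
    rw [Subgroup.mem_center_iff]
    intro k
    apply hρ
    rw [map_mul ρ k g, map_mul ρ g k, hc]
    simp
  obtain ⟨D, hD⟩ := key
  have hidx : (MulAction.stabilizer X D).index ≤ Nat.card (ℙ K V) := by
    rw [MulAction.index_stabilizer]
    exact Set.ncard_le_card _
  exact Big.of_quotient hD hidx Subgroup.index_ne_zero_of_finite h

/-- The matrix version. -/
theorem big_matrix {X : Type*} [Group X] [Finite X] {ι : Type} [Fintype ι] [DecidableEq ι] {F : Type} [Field F]
    [Fintype F] (ρ : X →* Matrix ι ι F) (hρ : Function.Injective ρ)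
    (hna : ¬ ∀ a b : X ⧸ Subgroup.center X, a * b = b * a) {n : ℕ} (hn : Nat.card (ℙ F (ι → F)) ≤ n)
    (h : n ^ 2 < Nat.card (X ⧸ Subgroup.center X)) : Big (X ⧸ Subgroup.center X) := by
  refine big_projective (K := F) (V := ι → F)
    (((Matrix.toLinAlgEquiv' : Matrix ι ι F ≃ₐ[F] Module.End F (ι → F)) : Matrix ι ι F →* Module.End F (ι → F)).comp ρ)
    ?_ hna (lt_of_le_of_lt (Nat.pow_le_pow_left hn 2) h)
  intro a b hab
  exact hρ ((Matrix.toLinAlgEquiv' : Matrix ι ι F ≃ₐ[F] Module.End F (ι → F)).injective hab)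

/-- The number of lines of `F ^ ι`: at most `2 q ^ (d - 1)`, and it times `q - 1` is `q ^ d - 1`. -/
theorem card_lines {ι : Type} [Fintype ι] {F : Type} [Field F] [Fintype F] {d : ℕ} (hd : Fintype.card ι = d) :
    Nat.card (ℙ F (ι → F)) * (Fintype.card F - 1) = Fintype.card F ^ d - 1 := by
  have h := Projectivization.card F (ι → F)
  rw [Nat.card_fun, Nat.card_eq_fintype_card (α := F), Nat.card_eq_fintype_card (α := ι), hd] at h
  exact h.symm

theorem card_lines_le {ι : Type} [Fintype ι] {F : Type} [Field F] [Fintype F] {d : ℕ} (hd : Fintype.card ι = d + 1) :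
    Nat.card (ℙ F (ι → F)) ≤ 2 * Fintype.card F ^ d := by
  have h := card_lines (F := F) hd
  have hq : 2 ≤ Fintype.card F := Fintype.one_lt_card
  set q := Fintype.card F
  have h1 : q ≤ 2 * (q - 1) := by omega
  apply Nat.le_of_mul_le_mul_right (c := q - 1) _ (by omega)
  rw [h]
  calc q ^ (d + 1) - 1 ≤ q ^ (d + 1) := Nat.sub_le _ _
    _ = q ^ d * q := pow_succ _ _
    _ ≤ q ^ d * (2 * (q - 1)) := Nat.mul_le_mul_left _ h1
    _ = 2 * q ^ d * (q - 1) := by ring

end Cfsg.Agent.H933
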