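import Cfsg.Agent.H933.Big
import Cfsg.Agent.MonsterX.MainBasic

/-!
A large subgroup of the Monster: the stabiliser of an axis, in the abstract model.
-/

set_option autoImplicit false

namespace Cfsg.Agent.H933

open Cfsg.Agent.MonsterX.Model Cfsg.Agent.MonsterX.MainBasic

theorem big_model {W : Type} [AddCommGroup W] [Module ℚ W] {M : MData W} (hO : MOrbit M)
    (hcard : Nat.card M.G = 808017424794512875886459904961710757005754368000000000) : Big M.G := by
  have h1 : ∃ x ∈ M.X, x ≠ M.a₀ := by
    by_contra hcon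
    push Not at hcon
    have h2 : M.X ⊆ {M.a₀} := fun x hx => hcon x hx
    have h3 := Set.ncard_le_ncard h2 (Set.finite_singleton _)
    rw [hO.card_X, Set.ncard_singleton] at h3
    omega
  obtain ⟨x, hx, hne⟩ := h1
  obtain ⟨g, hg, hgx⟩ := X_eq_orbit hO hx
  refine Big.of_orbit (G := M.G) (Ω := W) (x := M.a₀) (g := ⟨g, hg⟩) (n := 97239461142009186000) ?_ ?_ ?_
  · intro h
    apply hne
    rw [← hgx]
    exact h
  · rw [← hO.card_X]
    apply Set.ncard_le_ncard _ (X_finite hO)
    rintro _ ⟨k, rfl⟩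
    exact G_X hO k.2 (S_sub_X hO a₀_mem_S)
  · rw [hcard]
    norm_num

end Cfsg.Agent.H933
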