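import Cfsg.Agent.H933.ExtraEig

set_option autoImplicit false

/-!
The simultaneous eigenspace decomposition for a commuting set `X` of elements of `H`, and the
resulting bound for the eigenspaces of an element permuting it.
-/

namespace Cfsg.Agent.H933

open Module

variable {F : Type*} [Field F] {V : Type*} [AddCommGroup V] [Module F V]
variable {G : Type*} [Group G] {ρ : G →* Module.End F V}

/-- Simultaneous eigenspaces of the elements of `X`. -/
def Vs (ρ : G →* Module.End F V) (X : Set G) (χ : X → F) : Submodule F V :=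
  ⨅ u : X, Module.End.eigenspace (ρ u) (χ u)

theorem mem_Vs {X : Set G} {χ : X → F} {v : V} : v ∈ Vs ρ X χ ↔ ∀ u : X, ρ u v = χ u • v := by
  simp [Vs, Submodule.mem_iInf]

/-- The character of `X` defined by `y`. -/
noncomputable def chi (ρ : G →* Module.End F V) (X : Set G) (y : G) : X → F := fun u => zz ρ u y

section setup

variable {H : Subgroup G} {r : ℕ} (S : Setup ρ H r)

include S

theorem Setup.map_Vs_le {X : Set G} (hX : X ⊆ H) {y : G} (hy : y ∈ H) (χ : X → F) :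
    (Vs ρ X χ).map (ρ y) ≤ Vs ρ X (χ * chi ρ X y) := by
  rintro _ ⟨v, hv, rfl⟩
  rw [SetLike.mem_coe, mem_Vs] at hv
  rw [mem_Vs]
  intro u
  rw [(S.isZ (hX u.2) hy).apply, hv u, map_smul, smul_smul, Pi.mul_apply, chi, mul_comm]

theorem Setup.chi_mul {X : Set G} (hX : X ⊆ H) {y y' : G} (hy : y ∈ H) (hy' : y' ∈ H) :
    chi ρ X (y * y') = chi ρ X y * chi ρ X y' := by
  funext u
  exact S.zz_mul_right (hX u.2) hy hy'

theorem Setup.chi_one (X : Set G) : chi ρ X (1 : G) = 1 := by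
  funext u
  exact S.zz_one_right _

theorem Setup.finrank_Vs [FiniteDimensional F V] {X : Set G} (hX : X ⊆ H) {y : G} (hy : y ∈ H) :
    Module.finrank F (Vs ρ X (chi ρ X y)) = Module.finrank F (Vs ρ X 1) := by
  apply le_antisymm
  · rw [← finrank_map_rho ρ y⁻¹ (Vs ρ X (chi ρ X y))]
    apply Submodule.finrank_mono
    refine (S.map_Vs_le hX (H.inv_mem hy) _).trans ?_
    rw [← S.chi_mul hX hy (H.inv_mem hy), mul_inv_cancel, S.chi_one]
  · rw [← finrank_map_rho ρ y (Vs ρ X 1)]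
    apply Submodule.finrank_mono
    refine (S.map_Vs_le hX hy _).trans ?_
    rw [one_mul]

/-- Elements of `H` fixing a common non-zero vector commute. -/
theorem Setup.isZ_one_of_fix {u u' : G} (hu : u ∈ H) (hu' : u' ∈ H) {t : V} (ht : t ≠ 0)
    (h : ρ u t = t) (h' : ρ u' t = t) : IsZ ρ u u' 1 := by
  have h1 := S.isZ hu hu'
  have h2 := h1.apply t
  rw [h', h, h'] at h2
  have h3 : (zz ρ u u' - 1) • t = 0 := by rw [sub_smul, one_smul, ← h2, sub_self]
  rcases smul_eq_zero.1 h3 with h4 | h4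
  · rwa [sub_eq_zero.1 h4] at h1
  · exact absurd h4 ht

omit S in
theorem iSupIndep_Vs (X : Set G) (hc : ∀ u ∈ X, ∀ u' ∈ X, IsZ ρ u u' 1) :
    iSupIndep (fun χ : X → F => Vs ρ X χ) := by
  have h := Module.End.independent_iInf_maxGenEigenspace_of_forall_mapsTo (fun u : X => ρ (u : G))
    (by
      intro i j φ
      apply Module.End.mapsTo_maxGenEigenspace_of_comm
      have := hc j j.2 i i.2
      unfold IsZ at this
      rw [one_smul] at this
      exact this)
  refine h.mono fun χ => ?_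
  refine le_iInf fun u => (iInf_le _ u).trans ?_
  exact (Module.End.genEigenspace (ρ (u : G)) (χ u)).monotone le_top

/-- **The counting bound.** `X` is a set of elements of `H` fixing a common non-zero subspace,
normalised by `g`, where `g` normalises `H` and has `g ^ p = 1`, `p` prime. There are
numbers `N` (of characters), `s`, `f` (of fixed characters) and `d` with the properties stated. -/
theorem Setup.count [FiniteDimensional F V] [Finite G] {X : Set G} (hX : X ⊆ H) {t : V}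
    (ht : t ≠ 0) (hXt : ∀ u ∈ X, ρ u t = t) {g : G} (hgH : ∀ u ∈ H, g * u * g⁻¹ ∈ H)
    (hgH' : ∀ u ∈ H, g⁻¹ * u * g ∈ H)
    (hgX : ∀ u ∈ X, g * u * g⁻¹ ∈ X) (hgX' : ∀ u ∈ X, g⁻¹ * u * g ∈ X) {p : ℕ} (hp : p.Prime)
    (hgp : g ^ p = 1) {c : F} (hc : c ≠ 0) :
    ∃ s d : ℕ, Module.finrank F V = (Set.range (fun y : H => chi ρ X y)).ncard * d ∧
      Module.finrank F (Module.End.eigenspace (ρ g) c) ≤ s * d ∧
      p * s = (Set.range (fun y : H => chi ρ X y)).ncard +
        (p - 1) * {χ ∈ Set.range (fun y : H => chi ρ X y) |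
          ∀ u : G, ∀ hu : u ∈ X, χ ⟨g⁻¹ * u * g, hgX' u hu⟩ = χ ⟨u, hu⟩}.ncard := by
  classical
  have hnt := S.nontrivial
  set I : Set (X → F) := Set.range (fun y : H => chi ρ X y) with hI
  have hIfin : Finite I := Set.finite_range _
  have hIft : Fintype I := Fintype.ofFinite I
  let D : I → Submodule F V := fun χ => Vs ρ X χ.1
  have hcomm : ∀ u ∈ X, ∀ u' ∈ X, IsZ ρ u u' 1 := fun u hu u' hu' =>
    S.isZ_one_of_fix (hX hu) (hX hu') ht (hXt u hu) (hXt u' hu')
  have hind : iSupIndep D := (iSupIndep_Vs X hcomm).comp Subtype.val_injective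
  have hd : ∀ χ : I, Module.finrank F (D χ) = Module.finrank F (Vs ρ X 1) := by
    rintro ⟨_, ⟨y, rfl⟩⟩
    exact S.finrank_Vs hX y.2
  have htD : t ∈ D ⟨chi ρ X (1 : G), ⟨1, rfl⟩⟩ := by
    change t ∈ Vs ρ X (chi ρ X (1 : G))
    rw [S.chi_one, mem_Vs]
    intro u
    rw [hXt u u.2, Pi.one_apply, one_smul]
  have htop : iSup D = ⊤ := by
    have hinv : ∀ y ∈ H, (iSup D).map (ρ y) ≤ iSup D := by
      intro y hy
      rw [Submodule.map_iSup]
      refine iSup_le ?_
      rintro ⟨_, ⟨x, rfl⟩⟩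
      refine (S.map_Vs_le hX hy _).trans ?_
      rw [← S.chi_mul hX x.2 hy]
      exact le_iSup D ⟨chi ρ X (x * y), ⟨⟨x * y, H.mul_mem x.2 hy⟩, rfl⟩⟩
    rcases S.irred _ hinv with h | h
    · exfalso
      have : t ∈ iSup D := (le_iSup D _) htD
      rw [h] at this
      exact ht (by simpa using this)
    · exact h
  -- the permutation
  let τ : (X → F) → (X → F) := fun χ u => χ ⟨g⁻¹ * u * g, hgX' u u.2⟩
  let τ' : (X → F) → (X → F) := fun χ u => χ ⟨g * u * g⁻¹, hgX u u.2⟩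
  have hτchi : ∀ y ∈ H, τ (chi ρ X y) = chi ρ X (g * y * g⁻¹) := by
    intro y hy
    funext u
    change zz ρ (g⁻¹ * u * g) y = zz ρ u (g * y * g⁻¹)
    have := S.zz_conj (hgH' _ (hX u.2)) hy g
    rw [← this]
    congr 1
    group
  have hτ'chi : ∀ y ∈ H, τ' (chi ρ X y) = chi ρ X (g⁻¹ * y * g) := by
    intro y hy
    funext u
    change zz ρ (g * u * g⁻¹) y = zz ρ u (g⁻¹ * y * g)
    have := S.zz_conj (hX u.2) (hgH' _ hy) g
    rw [← this]
    congr 1
    group
  have hττ' : ∀ χ, τ (τ' χ) = χ := by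
    intro χ
    funext u
    change χ ⟨g * (g⁻¹ * u * g) * g⁻¹, _⟩ = χ u
    congr 1
    apply Subtype.ext
    change g * (g⁻¹ * u * g) * g⁻¹ = u
    group
  have hτ'τ : ∀ χ, τ' (τ χ) = χ := by
    intro χ
    funext u
    change χ ⟨g⁻¹ * (g * u * g⁻¹) * g, _⟩ = χ u
    congr 1
    apply Subtype.ext
    change g⁻¹ * (g * u * g⁻¹) * g = u
    group
  have hτI : ∀ χ ∈ I, τ χ ∈ I := by
    rintro _ ⟨y, rfl⟩
    exact ⟨⟨g * y * g⁻¹, hgH y y.2⟩, (hτchi y y.2).symm⟩
  have hτ'I : ∀ χ ∈ I, τ' χ ∈ I := by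
    rintro _ ⟨y, rfl⟩
    exact ⟨⟨g⁻¹ * y * g, hgH' y y.2⟩, (hτ'chi y y.2).symm⟩
  let σ : Equiv.Perm I :=
    ⟨fun χ => ⟨τ χ.1, hτI _ χ.2⟩, fun χ => ⟨τ' χ.1, hτ'I _ χ.2⟩,
      fun χ => Subtype.ext (hτ'τ _), fun χ => Subtype.ext (hττ' _)⟩
  have hσpow : ∀ (k : ℕ) (y : G) (hy : y ∈ H) (hy2 : g ^ k * y * (g ^ k)⁻¹ ∈ H),
      (σ ^ k) ⟨chi ρ X y, ⟨⟨y, hy⟩, rfl⟩⟩ =
        ⟨chi ρ X (g ^ k * y * (g ^ k)⁻¹), ⟨⟨_, hy2⟩, rfl⟩⟩ := by
    intro k
    induction k with
    | zero =>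
      intro y hy hy2
      apply Subtype.ext
      simp
    | succ k ih =>
      intro y hy hy2
      have h1 : g ^ k * y * (g ^ k)⁻¹ ∈ H := by
        have := hgH' _ hy2
        have e : g⁻¹ * (g ^ (k + 1) * y * (g ^ (k + 1))⁻¹) * g = g ^ k * y * (g ^ k)⁻¹ := by
          rw [pow_succ']; group
        rwa [e] at this
      rw [pow_succ', Equiv.Perm.mul_apply, ih y hy h1]
      apply Subtype.ext
      change τ (chi ρ X (g ^ k * y * (g ^ k)⁻¹)) = _
      rw [hτchi _ h1]
      congr 1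
      rw [pow_succ']; group
  have hσp : σ ^ p = 1 := by
    ext1 χ
    obtain ⟨_, ⟨y, rfl⟩⟩ := χ
    have h2 : g ^ p * y * (g ^ p)⁻¹ ∈ H := by rw [hgp]; simp
    rw [hσpow p y y.2 h2]
    apply Subtype.ext
    simp [hgp]
  have hσD : ∀ χ : I, (D χ).map (ρ g) ≤ D (σ χ) := by
    rintro χ _ ⟨v, hv, rfl⟩
    rw [SetLike.mem_coe] at hv
    have hv' := mem_Vs.1 hv
    change ρ g v ∈ Vs ρ X (τ χ.1)
    rw [mem_Vs]
    intro u
    have h1 := hv' ⟨g⁻¹ * u * g, hgX' u u.2⟩
    change ρ (g⁻¹ * u * g) v = _ at h1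
    have h2 : ρ (u : G) (ρ g v) = ρ g (ρ (g⁻¹ * u * g) v) := by
      rw [← Module.End.mul_apply, ← Module.End.mul_apply, ← map_mul, ← map_mul]
      congr 2
      group
    rw [h2, h1, map_smul]
  obtain ⟨T, hT, hTc⟩ := exists_orbit_reps σ hp hσp
  refine ⟨T.card, Module.finrank F (Vs ρ X 1), ?_, ?_, ?_⟩
  · rw [finrank_eq_sum_of_indep D hind htop]
    simp only [hd]
    rw [Finset.sum_const, Finset.card_univ, smul_eq_mul, ← Nat.card_eq_fintype_card, Nat.card_coe_set_eq]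
  · have := mon_bound D hind htop (ρ g) σ σ.injective hσD c hc T hT
    simp only [hd] at this
    rwa [Finset.sum_const, smul_eq_mul] at this
  · rw [hTc, ← Nat.card_eq_fintype_card, Nat.card_coe_set_eq]
    congr 2
    rw [← Set.ncard_coe_finset, ← Set.ncard_image_of_injective _ Subtype.val_injective]
    congr 1
    ext χ
    simp only [Set.mem_image, Set.mem_ofPred_eq, Finset.coe_filter, Finset.mem_univ, true_and,
      Subtype.exists, exists_and_right, exists_eq_right]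
    constructor
    · rintro ⟨hχ, hfix⟩
      refine ⟨hχ, ?_⟩
      intro u hu
      have := congrFun (congrArg Subtype.val hfix) ⟨u, hu⟩
      exact this
    · rintro ⟨hχ, hfix⟩
      refine ⟨hχ, ?_⟩
      apply Subtype.ext
      funext u
      exact hfix u u.2

end setup

end Cfsg.Agent.H933
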