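import Cfsg.Agent.H933.ExtraEqual

set_option autoImplicit false

/-!
The last step of the case of an element of order `r`, and the final bound.
-/

namespace Cfsg.Agent.H933

open Module DirectSum

variable {F : Type*} [Field F] {V : Type*} [AddCommGroup V] [Module F V]

theorem finrank_iSup_le_sum [FiniteDimensional F V] {I : Type*} [Fintype I] [DecidableEq I]
    (D : I → Submodule F V) :
    Module.finrank F (iSup D : Submodule F V) ≤ ∑ i, Module.finrank F (D i) := by
  rw [← Module.finrank_directSum, ← DirectSum.range_coeLinearMap]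
  exact LinearMap.finrank_range_le _

theorem sum_finrank_le_of_indep_of_le [FiniteDimensional F V] {I : Type*} [Fintype I]
    [DecidableEq I] (D : I → Submodule F V) (hi : iSupIndep D) (U : Submodule F V)
    (hU : ∀ i, D i ≤ U) : ∑ i, Module.finrank F (D i) ≤ Module.finrank F U := by
  have hinj := hi.dfinsupp_lsum_injective
  rw [← Module.finrank_directSum]
  have h1 : Module.finrank F (LinearMap.range (DirectSum.coeLinearMap D)) =
      Module.finrank F (⨁ i, D i) := LinearMap.finrank_range_of_inj hinj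
  rw [← h1]
  apply Submodule.finrank_mono
  rw [DirectSum.range_coeLinearMap]
  exact iSup_le hU

variable {G : Type*} [Group G] {ρ : G →* Module.End F V}

theorem modEq_of_pow_eq {a : F} {r m n : ℕ} (hr : r ≠ 0) (ha : IsPrimitiveRoot a r)
    (h : a ^ m = a ^ n) : m ≡ n [MOD r] := by
  have ha0 : a ≠ 0 := ha.ne_zero hr
  have h2 : ∀ {i j : ℕ}, i ≤ j → a ^ i = a ^ j → i ≡ j [MOD r] := by
    intro i j hij h
    obtain ⟨k, rfl⟩ := Nat.exists_eq_add_of_le hij
    rw [pow_add] at h
    have h3 : a ^ k = 1 := by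
      apply mul_left_cancel₀ (pow_ne_zero i ha0)
      rw [← h, mul_one]
    have h4 := ha.dvd_of_pow_eq_one k h3
    rw [Nat.modEq_iff_dvd' (Nat.le_add_right i k), Nat.add_sub_cancel_left]
    exact h4
  rcases le_total m n with hmn | hmn
  · exact h2 hmn h
  · exact (h2 hmn h.symm).symm

section setup

variable {H : Subgroup G} {r : ℕ} (S : Setup ρ H r)

/-- Triangular numbers modulo an odd prime: at most two to one. -/
theorem tri_inj {r : ℕ} (hr : r.Prime) {i j : ℕ} (hi : i < r) (hj : j < r)
    (h : i * (i + 1) / 2 ≡ j * (j + 1) / 2 [MOD r]) : i = j ∨ i + j + 1 = r := by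
  have hi2 : 2 * (i * (i + 1) / 2) = i * (i + 1) := Nat.mul_div_cancel' (Nat.even_mul_succ_self i).two_dvd
  have hj2 : 2 * (j * (j + 1) / 2) = j * (j + 1) := Nat.mul_div_cancel' (Nat.even_mul_succ_self j).two_dvd
  have h1 := h.mul_left 2
  rw [hi2, hj2] at h1
  have h2 : (r : ℤ) ∣ (j : ℤ) * (j + 1) - i * (i + 1) := by
    have := Nat.modEq_iff_dvd.1 h1
    push_cast at this
    exact this
  have e : (j : ℤ) * (j + 1) - i * (i + 1) = (j - i) * (i + j + 1) := by ring
  rw [e] at h2
  have hp : Prime (r : ℤ) := Nat.prime_iff_prime_int.1 hr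
  rcases hp.dvd_or_dvd h2 with h3 | h3
  · left
    have h4 : (j : ℤ) - i = 0 := by
      apply Int.eq_zero_of_abs_lt_dvd h3
      rw [abs_lt]
      constructor <;> omega
    omega
  · right
    have h5 : (r : ℤ) ∣ ((i + j + 1 : ℕ) : ℤ) := by exact_mod_cast h3
    rw [Int.natCast_dvd_natCast] at h5
    obtain ⟨k, hk⟩ := h5
    have hk1 : k < 2 := by
      by_contra hcon
      have : 2 ≤ k := by omega
      have := Nat.mul_le_mul_left r this
      omega
    interval_cases k
    · omega
    · omega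

include S

/-- Step 3. -/
theorem Setup.equal_step3 [FiniteDimensional F V] {g : G} (hr5 : 5 ≤ r) {c : F}
    (hw : Module.finrank F V < 2 * Module.finrank F (Module.End.eigenspace (ρ g) c))
    {v : G} (hv : v ∈ H) (hxH : g * v * g⁻¹ * v⁻¹ ∈ H)
    (hne : zz ρ (g * v * g⁻¹ * v⁻¹) v ≠ 1) (hgx : IsZ ρ g (g * v * g⁻¹ * v⁻¹) 1) : False := by
  classical
  have hnt := S.nontrivial
  have hc := c_ne_zero hw
  obtain ⟨t, ht0, htg, htv⟩ := exists_common hw v
  set x := g * v * g⁻¹ * v⁻¹ with hx
  set ω := zz ρ x v with hω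
  have hxv : IsZ ρ x v ω := S.isZ hxH hv
  have hωr : ω ^ r = 1 := S.zz_pow hxH hv
  have hω0 : ω ≠ 0 := S.zz_ne_zero hxH hv
  have hωp : IsPrimitiveRoot ω r := by
    have : Fact r.Prime := ⟨S.prime⟩
    have ho : orderOf ω = r := orderOf_eq_prime hωr hne
    exact ho ▸ IsPrimitiveRoot.orderOf _
  have hrpos : NeZero r := ⟨S.prime.ne_zero⟩
  set W := Module.End.eigenspace (ρ g) c with hW
  let D : Fin r → Submodule F V := fun j => Module.End.eigenspace (ρ x) (ω ^ (j : ℕ))
  -- `⨆ D = ⊤`
  have htop : iSup D = ⊤ := by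
    have hinv : ∀ y ∈ H, (iSup D).map (ρ y) ≤ iSup D := by
      intro y hy
      rw [Submodule.map_iSup]
      refine iSup_le fun j => ?_
      obtain ⟨i, hi, hi2⟩ := hωp.eq_pow_of_pow_eq_one (ξ := ω ^ (j : ℕ) * zz ρ x y) (by
        rw [mul_pow, S.zz_pow hxH hy, ← pow_mul, mul_comm (j : ℕ) r, pow_mul, hωr, one_pow, one_mul])
      refine le_trans ?_ (le_iSup D ⟨i, hi⟩)
      rintro _ ⟨w, hw, rfl⟩
      rw [SetLike.mem_coe, Module.End.mem_eigenspace_iff] at hw
      change ρ y w ∈ Module.End.eigenspace (ρ x) (ω ^ i)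
      rw [Module.End.mem_eigenspace_iff, (S.isZ hxH hy).apply, hw, map_smul, smul_smul, hi2,
        mul_comm]
    rcases S.irred _ hinv with h | h
    · exfalso
      have h1 : t ∈ D ⟨0, S.prime.pos⟩ := by
        change t ∈ Module.End.eigenspace (ρ x) (ω ^ 0)
        rw [Module.End.mem_eigenspace_iff, pow_zero, one_smul, htv]
      have h2 : t ∈ iSup D := (le_iSup D _) h1
      rw [h] at h2
      exact ht0 (by simpa using h2)
    · exact h
  -- `W` is the sum of its intersections
  have hWinv : ∀ w ∈ W, ρ x w ∈ W := by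
    intro w hw
    rw [hW, Module.End.mem_eigenspace_iff] at hw ⊢
    rw [hgx.apply, one_smul, hw, map_smul]
  have hωinj : Function.Injective (fun j : Fin r => ω ^ (j : ℕ)) := fun i j hij =>
    Fin.ext (hωp.pow_inj i.2 j.2 hij)
  have hWle : W ≤ ⨆ j, W ⊓ D j := by
    have h1 := Submodule.inf_iSup_genEigenspace (f := ρ x) hWinv 1
    have h2 : (⨆ μ, (ρ x).genEigenspace μ 1) = ⊤ := by
      rw [eq_top_iff, ← htop]
      exact iSup_le fun j => le_iSup (fun μ => (ρ x).genEigenspace μ 1) (ω ^ (j : ℕ))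
    rw [h2, inf_top_eq] at h1
    refine (le_of_eq h1).trans ?_
    refine iSup_le fun μ => ?_
    by_cases hμ : ∃ j : Fin r, ω ^ (j : ℕ) = μ
    · obtain ⟨j, rfl⟩ := hμ
      exact le_iSup (fun j => W ⊓ D j) j
    · -- no eigenvectors
      have h3 : (ρ x).genEigenspace μ 1 ≤ ⊥ := by
        intro w hw
        change w ∈ Module.End.eigenspace (ρ x) μ at hw
        rw [Module.End.mem_eigenspace_iff] at hw
        rw [Submodule.mem_bot]
        by_contra hw0
        have h4 : ∀ k : ℕ, ρ (x ^ k) w = μ ^ k • w := by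
          intro k
          induction k with
          | zero => simp
          | succ k ih => rw [pow_succ, map_mul, Module.End.mul_apply, hw, map_smul, ih, smul_smul,
              pow_succ, mul_comm]
        have h5 : ρ (x ^ r) = 1 := by
          apply eq_one_of_fix ht0 _ (S.pow_scalar hxH)
          have : ∀ k : ℕ, ρ (x ^ k) t = t := by
            intro k
            induction k with
            | zero => simp
            | succ k ih => rw [pow_succ]; exact fix_mul ih htv
          exact this r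
        have h6 := h4 r
        rw [h5, Module.End.one_apply] at h6
        have h7 : μ ^ r = 1 := by
          have h8 : (μ ^ r - 1) • w = 0 := by rw [sub_smul, one_smul, ← h6, sub_self]
          rcases smul_eq_zero.1 h8 with h9 | h9
          · exact sub_eq_zero.1 h9
          · exact absurd h9 hw0
        obtain ⟨i, hi, hi2⟩ := hωp.eq_pow_of_pow_eq_one h7
        exact hμ ⟨⟨i, hi⟩, hi2⟩
      exact (inf_le_right.trans h3).trans bot_le
  have hwsum : Module.finrank F W ≤ ∑ j, Module.finrank F (W ⊓ D j : Submodule F V) :=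
    (Submodule.finrank_mono hWle).trans (finrank_iSup_le_sum _)
  -- the joint eigenspaces
  let E : ℕ → F → Submodule F V := fun j γ =>
    Module.End.eigenspace (ρ x) (ω ^ j) ⊓ Module.End.eigenspace (ρ g) γ
  have hEstep : ∀ j γ, Module.finrank F (E (j + 1) γ) ≤ Module.finrank F (E j (γ * (ω⁻¹) ^ (j + 1))) := by
    intro j γ
    rw [← finrank_map_rho ρ v⁻¹ (E (j + 1) γ)]
    apply Submodule.finrank_mono
    rintro _ ⟨w, ⟨hw1, hw2⟩, rfl⟩
    rw [SetLike.mem_coe, Module.End.mem_eigenspace_iff] at hw1 hw2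
    set s := ρ v⁻¹ w with hs
    have hvs : ρ v s = w := by
      rw [hs, ← Module.End.mul_apply, rho_mul_inv]; rfl
    have hxs : ρ x s = ω ^ j • s := by
      have h1 := hxv.apply s
      rw [hvs, hw1] at h1
      -- ω ^ (j+1) • w = ω • ρ v (ρ x s)
      have h2 : ρ v (ρ x s) = ρ v (ω ^ j • s) := by
        rw [map_smul, hvs]
        have h3 : ω • (ω ^ j • w) = ω • ρ v (ρ x s) := by rw [smul_smul, ← pow_succ']; exact h1
        exact (smul_right_injective V hω0 h3).symm
      exact rho_inj ρ v h2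
    have hgs : ρ g s = (γ * (ω⁻¹) ^ (j + 1)) • s := by
      have h1 : ρ g w = ρ x (ρ v (ρ g s)) := by
        have e : x * v * g = g * v := by rw [hx]; group
        calc ρ g w = ρ g (ρ v s) := by rw [hvs]
          _ = ρ (g * v) s := by rw [map_mul]; rfl
          _ = ρ (x * v * g) s := by rw [e]
          _ = ρ x (ρ v (ρ g s)) := by rw [map_mul, map_mul]; rfl
      rw [hw2] at h1
      -- γ • w = ρ x (ρ v (ρ g s))
      have h2 : ρ x (ρ v (ρ g s)) = ρ x (ρ v ((γ * (ω⁻¹) ^ (j + 1)) • s)) := by
        rw [← h1, map_smul, hvs, map_smul, hw1, smul_smul, mul_assoc, ← mul_pow,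
          inv_mul_cancel₀ hω0, one_pow, mul_one]
      exact rho_inj ρ v (rho_inj ρ x h2)
    exact ⟨Module.End.mem_eigenspace_iff.2 hxs, Module.End.mem_eigenspace_iff.2 hgs⟩
  have htri : ∀ j : ℕ, (j + 1) * (j + 1 + 1) / 2 = j * (j + 1) / 2 + (j + 1) := by
    intro j
    have e : (j + 1) * (j + 1 + 1) = j * (j + 1) + (j + 1) * 2 := by ring
    rw [e, Nat.add_mul_div_right _ _ (by norm_num)]
  have hE : ∀ j γ, Module.finrank F (E j γ) ≤
      Module.finrank F (E 0 (γ * (ω⁻¹) ^ (j * (j + 1) / 2))) := by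
    intro j
    induction j with
    | zero => intro γ; rw [Nat.zero_mul, Nat.zero_div, pow_zero, mul_one]
    | succ j ih =>
      intro γ
      refine (hEstep j γ).trans ?_
      refine (ih _).trans ?_
      rw [htri, mul_assoc, ← pow_add, Nat.add_comm (j + 1)]
  let γ : Fin r → F := fun j => c * (ω⁻¹) ^ ((j : ℕ) * (j + 1) / 2)
  have hγ : ∀ j : Fin r, Module.finrank F (W ⊓ D j : Submodule F V) ≤ Module.finrank F (E 0 (γ j)) := by
    intro j
    have := hE j c
    have e : (W ⊓ D j : Submodule F V) = E j c := inf_comm _ _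
    rw [e]
    exact this
  have hγinj : ∀ i j : Fin r, γ i = γ j → i = j ∨ (i : ℕ) + j + 1 = r := by
    intro i j h
    have h1 := mul_left_cancel₀ hc h
    have h2 : (i : ℕ) * (i + 1) / 2 ≡ (j : ℕ) * (j + 1) / 2 [MOD r] :=
      modEq_of_pow_eq S.prime.ne_zero hωp.inv h1
    rcases tri_inj S.prime i.2 j.2 h2 with h3 | h3
    · exact Or.inl (Fin.ext h3)
    · exact Or.inr h3
  -- the two halves
  have hhalf : ∀ J : Finset (Fin r), (∀ i ∈ J, ∀ j ∈ J, γ i = γ j → i = j) →
      ∑ j ∈ J, Module.finrank F (E 0 (γ j)) ≤ Module.finrank F (Module.End.eigenspace (ρ x) 1) := by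
    intro J hJ
    rw [← Finset.sum_coe_sort J]
    have hind : iSupIndep (fun j : J => E 0 (γ j)) := by
      have h0 := Module.End.eigenspaces_iSupIndep (ρ g)
      have hinj : Function.Injective (fun j : J => γ j) := by
        intro i j hij
        exact Subtype.ext (hJ i i.2 j j.2 hij)
      exact (h0.comp hinj).mono fun j => inf_le_right
    apply sum_finrank_le_of_indep_of_le _ hind
    intro j
    refine inf_le_left.trans ?_
    rw [pow_zero]
  have hd := mul_finrank_eig_le_of_isZ S.prime hωr hne hxv 1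
  set d := Module.finrank F (Module.End.eigenspace (ρ x) 1) with hddef
  let J : Finset (Fin r) := Finset.univ.filter fun j => 2 * (j : ℕ) + 1 ≤ r
  have hsplit : ∑ j, Module.finrank F (E 0 (γ j)) =
      ∑ j ∈ J, Module.finrank F (E 0 (γ j)) + ∑ j ∈ Jᶜ, Module.finrank F (E 0 (γ j)) :=
    (Finset.sum_add_sum_compl J _).symm
  have hJ1 := hhalf J (by
    intro i hi j hj hij
    rcases hγinj i j hij with h | h
    · exact h
    · apply Fin.ext
      rw [Finset.mem_filter] at hi hj
      omega)
  have hJ2 := hhalf Jᶜ (by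
    intro i hi j hj hij
    rcases hγinj i j hij with h | h
    · exact h
    · exfalso
      rw [Finset.mem_compl, Finset.mem_filter] at hi hj
      have hi' : ¬ (2 * (i : ℕ) + 1 ≤ r) := fun h => hi ⟨Finset.mem_univ _, h⟩
      have hj' : ¬ (2 * (j : ℕ) + 1 ≤ r) := fun h => hj ⟨Finset.mem_univ _, h⟩
      omega)
  have hfinal : Module.finrank F W ≤ 2 * d := by
    refine hwsum.trans ((Finset.sum_le_sum fun j _ => hγ j).trans ?_)
    rw [hsplit]
    omega
  have h5 : 5 * d ≤ r * d := Nat.mul_le_mul_right d hr5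
  omega

/-- **Equal case.** -/
theorem Setup.equal_case [FiniteDimensional F V] [Finite G] {g : G}
    (hgH : ∀ u ∈ H, g * u * g⁻¹ ∈ H) (hgH' : ∀ u ∈ H, g⁻¹ * u * g ∈ H)
    (hr5 : 5 ≤ r) (hgp : g ^ r = 1) (hg : ¬ ∃ b : F, ρ g = b • 1) (c : F) :
    2 * Module.finrank F (Module.End.eigenspace (ρ g) c) ≤ Module.finrank F V := by
  by_contra hcon
  push Not at hcon
  obtain ⟨v, hv, hne⟩ := S.equal_step2 hgH hgH' hr5 hgp hg hcon
  exact S.equal_step3 hr5 hcon hv (H.mul_mem (hgH v hv) (H.inv_mem hv)) hne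
    (S.equal_step1 hgH hgH' hr5 hgp hcon hv)

/-- **General case**: `r (2 w - n) ≤ n`, that is `2 r w ≤ (r + 1) n`. -/
theorem Setup.general_case [FiniteDimensional F V] {g : G}
    (hgH : ∀ u ∈ H, g * u * g⁻¹ ∈ H) (hg : ¬ ∃ b : F, ρ g = b • 1) (c : F) :
    2 * r * Module.finrank F (Module.End.eigenspace (ρ g) c) ≤ (r + 1) * Module.finrank F V := by
  by_cases hw : Module.finrank F V < 2 * Module.finrank F (Module.End.eigenspace (ρ g) c)
  · obtain ⟨v, hv, hvs⟩ := S.exists_comm_not_scalar hw hg
    have h1 := two_mul_finrank_eig_le ρ g v c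
    have h2 := S.eig_le (H.mul_mem (hgH v hv) (H.inv_mem hv)) hvs 1
    calc 2 * r * Module.finrank F (Module.End.eigenspace (ρ g) c)
        = r * (2 * Module.finrank F (Module.End.eigenspace (ρ g) c)) := by ring
      _ ≤ r * (Module.finrank F V +
            Module.finrank F (Module.End.eigenspace (ρ (g * v * g⁻¹ * v⁻¹)) 1)) := by gcongr
      _ = r * Module.finrank F V +
            r * Module.finrank F (Module.End.eigenspace (ρ (g * v * g⁻¹ * v⁻¹)) 1) := by ring
      _ ≤ r * Module.finrank F V + Module.finrank F V := by gcongr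
      _ = _ := by ring
  · push Not at hw
    calc 2 * r * Module.finrank F (Module.End.eigenspace (ρ g) c)
        = r * (2 * Module.finrank F (Module.End.eigenspace (ρ g) c)) := by ring
      _ ≤ r * Module.finrank F V := by gcongr
      _ ≤ (r + 1) * Module.finrank F V := by gcongr; omega

end setup

end Cfsg.Agent.H933
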