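import Cfsg.Agent.H956.EigBasis

/-!
# Scott's lemma and dimensions of fixed spaces (helper933)

`ρ : G →* End V`, `fx ρ g` the dimension of the fixed space of `g`.

* `scott` : `fx x + fx y + fx (x * y) ≤ dim V` if `x, y` fix no non-zero vector of `V` and of its dual;
  `scott_irr` : the same for `ρ` irreducible, `x, y` generating `G`;
* `fx_of_sq` : `x * x = 1` : `dim V ≤ 2 * fx x` in characteristic 2;
* `fx_seven`, `fx_nineteen` : `z` of order `7` conjugate to `z ^ 3`, or of order `19` conjugate to `z ^ 8`, `dim V ≤ 11` :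
  `dim V ≤ fx z + 6`;
* `fx_three` : `y` of order `3` normalizing such a subgroup: `2 ≤ fx y`;
* `fx_frob8` : `a` an involution of a group `2^3:7`, `dim V ≤ 13`, `2 ≠ 0`: `dim V ≤ fx a + 4`.
-/

set_option autoImplicit false
set_option linter.unusedSectionVars false

namespace Cfsg.Agent.H933.Scott

open Module

universe u v w

variable {K : Type u} [Field K] {V : Type v} [AddCommGroup V] [Module K V] [FiniteDimensional K V] {G : Type w} [Group G]
  (ρ : G →* Module.End K V)

/-- dimension of the fixed space -/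
noncomputable def fx (g : G) : ℕ := finrank K ((ρ g).eigenspace 1)

theorem rank_add_fx (g : G) : finrank K (LinearMap.range (ρ g - 1)) + fx ρ g = finrank K V := by
  have h := LinearMap.finrank_range_add_finrank_ker (ρ g - 1)
  rw [fx, Module.End.eigenspace_def, one_smul]
  exact h

/-- **Scott's lemma.** -/
theorem scott {x y : G} (h1 : ∀ v, ρ x v = v → ρ y v = v → v = 0)
    (h2 : LinearMap.range (ρ x - 1) ⊔ LinearMap.range (ρ y - 1) = ⊤) :
    fx ρ x + fx ρ y + fx ρ (x * y) ≤ finrank K V := by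
  set A := LinearMap.range (ρ x - 1) with hA
  set B := LinearMap.range (ρ y - 1) with hB
  set C := LinearMap.range (ρ (x * y) - 1) with hC
  let δ : (A × B × C) →ₗ[K] V :=
    A.subtype ∘ₗ LinearMap.fst K A (B × C) +
      (ρ x ∘ₗ B.subtype) ∘ₗ LinearMap.fst K B C ∘ₗ LinearMap.snd K A (B × C) -
      C.subtype ∘ₗ LinearMap.snd K B C ∘ₗ LinearMap.snd K A (B × C)
  have hδ : ∀ (a : A) (b : B) (c : C), δ (a, b, c) = (a : V) + ρ x b - c := fun a b c => rfl
  let β : V →ₗ[K] (A × B × C) :=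
    LinearMap.prod (LinearMap.rangeRestrict (ρ x - 1))
      (LinearMap.prod (LinearMap.rangeRestrict (ρ y - 1)) (LinearMap.rangeRestrict (ρ (x * y) - 1)))
  have hβ : ∀ v, δ (β v) = 0 := by
    intro v
    change ((ρ x - 1) v) + ρ x ((ρ y - 1) v) - (ρ (x * y) - 1) v = 0
    simp only [LinearMap.sub_apply, Module.End.one_apply, map_sub, map_mul, Module.End.mul_apply]
    abel
  have hβi : Function.Injective β := by
    rw [← LinearMap.ker_eq_bot]
    rw [eq_bot_iff]
    intro v hv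
    have hv1 : (ρ x - 1) v = 0 := congrArg (fun t : A × B × C => (t.1 : V)) (LinearMap.mem_ker.1 hv)
    have hv2 : (ρ y - 1) v = 0 := congrArg (fun t : A × B × C => (t.2.1 : V)) (LinearMap.mem_ker.1 hv)
    rw [LinearMap.sub_apply, Module.End.one_apply, sub_eq_zero] at hv1 hv2
    exact (Submodule.mem_bot K).2 (h1 v hv1 hv2)
  have hδs : LinearMap.range δ = ⊤ := by
    rw [eq_top_iff, ← h2]
    refine sup_le ?_ ?_
    · intro a ha
      exact ⟨(⟨a, ha⟩, 0, 0), by rw [hδ]; simp⟩
    · intro b hb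
      refine ⟨(-⟨(ρ x - 1) b, LinearMap.mem_range_self _ _⟩, ⟨b, hb⟩, 0), ?_⟩
      rw [hδ]
      simp only [Submodule.coe_neg, LinearMap.sub_apply, Module.End.one_apply, ZeroMemClass.coe_zero]
      abel
  have k1 : finrank K V ≤ finrank K (LinearMap.ker δ) := by
    have : LinearMap.range β ≤ LinearMap.ker δ := by
      rintro _ ⟨v, rfl⟩
      exact LinearMap.mem_ker.2 (hβ v)
    rw [← LinearMap.finrank_range_of_inj hβi]
    exact Submodule.finrank_mono this
  have k2 := LinearMap.finrank_range_add_finrank_ker δ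
  rw [hδs, finrank_top, Module.finrank_prod, Module.finrank_prod] at k2
  have r1 := rank_add_fx ρ x
  have r2 := rank_add_fx ρ y
  have r3 := rank_add_fx ρ (x * y)
  rw [← hA] at r1
  rw [← hB] at r2
  rw [← hC] at r3
  omega

/-- `W` is invariant if `x` and `y` act trivially modulo `W` -/
theorem sub_mem_of_gen {x y : G} (hgen : Subgroup.closure {x, y} = ⊤) {W : Submodule K V} (hx : ∀ v, ρ x v - v ∈ W)
    (hy : ∀ v, ρ y v - v ∈ W) (g : G) : ∀ v, ρ g v - v ∈ W := by
  have hg : g ∈ Subgroup.closure {x, y} := by rw [hgen]; trivial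
  induction hg using Subgroup.closure_induction with
  | mem t ht =>
    rcases ht with rfl | ht
    · exact hx
    · rw [Set.mem_singleton_iff] at ht
      rw [ht]; exact hy
  | one => intro v; simp
  | mul a b _ _ ha hb =>
    intro v
    have h1 := W.add_mem (ha (ρ b v)) (hb v)
    rw [map_mul, Module.End.mul_apply]
    simpa using h1
  | inv a _ ha =>
    intro v
    have h1 := W.neg_mem (ha (ρ a⁻¹ v))
    rw [← Module.End.mul_apply, ← map_mul, mul_inv_cancel, map_one, Module.End.one_apply, neg_sub] at h1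
    exact h1

theorem scott_irr (hirr : ∀ W : Submodule K V, (∀ g : G, ∀ w ∈ W, ρ g w ∈ W) → W = ⊥ ∨ W = ⊤) {x y : G}
    (hgen : Subgroup.closure {x, y} = ⊤) (hne : ∃ g, ρ g ≠ 1) : fx ρ x + fx ρ y + fx ρ (x * y) ≤ finrank K V := by
  have triv : (∀ v, ρ x v = v) → (∀ v, ρ y v = v) → False := by
    intro hx hy
    obtain ⟨g, hg⟩ := hne
    apply hg
    have := sub_mem_of_gen ρ hgen (W := ⊥) (fun v => by rw [hx, sub_self]; exact Submodule.zero_mem _)
      (fun v => by rw [hy, sub_self]; exact Submodule.zero_mem _) g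
    ext v
    have h1 := (Submodule.mem_bot K).1 (this v)
    rw [sub_eq_zero] at h1
    rw [h1, Module.End.one_apply]
  refine scott ρ ?_ ?_
  · let W : Submodule K V := (ρ x).eigenspace 1 ⊓ (ρ y).eigenspace 1
    have hW : ∀ w ∈ W, ρ x w = w ∧ ρ y w = w := by
      intro w hw
      obtain ⟨h1, h2⟩ := Submodule.mem_inf.1 hw
      rw [Module.End.mem_eigenspace_iff, one_smul] at h1 h2
      exact ⟨h1, h2⟩
    have hfix : ∀ w ∈ W, ∀ g : G, ρ g w = w := by
      intro w hw g
      obtain ⟨h1, h2⟩ := hW w hw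
      have hg : g ∈ Subgroup.closure {x, y} := by rw [hgen]; trivial
      induction hg using Subgroup.closure_induction with
      | mem t ht =>
        rcases ht with rfl | ht
        · exact h1
        · rw [Set.mem_singleton_iff] at ht
          rw [ht]; exact h2
      | one => simp
      | mul a b _ _ ha hb => rw [map_mul, Module.End.mul_apply, hb, ha]
      | inv a _ ha =>
        conv_lhs => rw [← ha]
        rw [← Module.End.mul_apply, ← map_mul, inv_mul_cancel, map_one, Module.End.one_apply]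
    intro v hv1 hv2
    rcases hirr W (fun g w hw => by rw [hfix w hw g]; exact hw) with h | h
    · have : v ∈ W := Submodule.mem_inf.2
        ⟨by rw [Module.End.mem_eigenspace_iff, one_smul, hv1], by rw [Module.End.mem_eigenspace_iff, one_smul, hv2]⟩
      rw [h] at this
      exact (Submodule.mem_bot K).1 this
    · exfalso
      exact triv (fun v => (hW v (h ▸ Submodule.mem_top)).1) (fun v => (hW v (h ▸ Submodule.mem_top)).2)
  · set W := LinearMap.range (ρ x - 1) ⊔ LinearMap.range (ρ y - 1) with hW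
    have hx : ∀ v, ρ x v - v ∈ W := fun v => Submodule.mem_sup_left ⟨v, by simp⟩
    have hy : ∀ v, ρ y v - v ∈ W := fun v => Submodule.mem_sup_right ⟨v, by simp⟩
    have hall := sub_mem_of_gen ρ hgen hx hy
    rcases hirr W (fun g w hw => by
      have := W.add_mem (hall g w) hw
      rwa [sub_add_cancel] at this) with h | h
    · exfalso
      rw [h] at hx hy
      exact triv (fun v => sub_eq_zero.1 ((Submodule.mem_bot K).1 (hx v)))
        (fun v => sub_eq_zero.1 ((Submodule.mem_bot K).1 (hy v)))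
    · exact h

/-- an involution in characteristic 2 -/
theorem fx_of_sq (h2 : (2 : K) = 0) {x : G} (hx : x * x = 1) : finrank K V ≤ 2 * fx ρ x := by
  have h := rank_add_fx ρ x
  have h1 : LinearMap.range (ρ x - 1) ≤ (ρ x).eigenspace 1 := by
    rintro _ ⟨v, rfl⟩
    rw [Module.End.mem_eigenspace_iff, one_smul, LinearMap.sub_apply, Module.End.one_apply, map_sub,
      ← Module.End.mul_apply, ← map_mul, hx, map_one, Module.End.one_apply]
    have h3 : v + v = 0 := by rw [← two_smul K v, h2, zero_smul]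
    have h4 : ρ x v + ρ x v = 0 := by rw [← two_smul K, h2, zero_smul]
    rw [← neg_sub, neg_eq_iff_add_eq_zero]
    calc ρ x v - v + (ρ x v - v) = (ρ x v + ρ x v) - (v + v) := by abel
      _ = 0 := by rw [h3, h4, sub_zero]
  have h2 := Submodule.finrank_mono h1
  unfold fx at h ⊢
  omega

/-! ### Eigenspaces -/

/-- all eigenspaces of an element of order dividing `r` -/
theorem sum_eigen {r : ℕ} (hr : 0 < r) {ζ : K} (hζ : IsPrimitiveRoot ζ r) {z : G} (hz : z ^ r = 1) :
    ∑ i ∈ Finset.range r, finrank K ((ρ z).eigenspace (ζ ^ i)) = finrank K V := by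
  classical
  have hpow : (ρ z) ^ r = ((1 : K) ^ r) • (1 : Module.End K V) := by
    rw [← map_pow, hz, map_one, one_pow, one_smul]
  have htop := H956.EigBasis.iSup_eigenspace_of_pow hr hζ (ρ z) one_ne_zero hpow
  obtain ⟨b, d, hb⟩ := H956.EigBasis.exists_eigenbasis (ρ z) htop (κ := Fin (finrank K V)) (Fintype.card_fin _)
  have hd : ∀ j, (d j) ^ r = 1 := by
    intro j
    have h1 : ∀ n : ℕ, ((ρ z) ^ n) (b j) = (d j) ^ n • b j := by
      intro n
      induction n with
      | zero => simp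
      | succ n ih => rw [pow_succ', Module.End.mul_apply, ih, map_smul, hb, smul_smul, pow_succ]
    have h2 := h1 r
    rw [hpow, one_pow, one_smul, Module.End.one_apply] at h2
    have h3 : ((d j) ^ r - 1) • b j = 0 := by rw [sub_smul, one_smul, ← h2, sub_self]
    exact sub_eq_zero.1 ((smul_eq_zero.1 h3).resolve_right (b.ne_zero j))
  have heig : ∀ μ : K, finrank K ((ρ z).eigenspace μ) = (Finset.univ.filter (fun j => d j = μ)).card := by
    intro μ
    have hspan : (ρ z).eigenspace μ = Submodule.span K (Set.range fun j : {j // d j = μ} => b j) := by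
      apply le_antisymm
      · intro v hv
        rw [Module.End.mem_eigenspace_iff] at hv
        have hrep : ∀ j, d j ≠ μ → b.repr v j = 0 := by
          intro j hj
          have h1 : b.repr (ρ z v) j = d j * b.repr v j := by
            conv_lhs => rw [← b.sum_repr v, map_sum]
            simp only [map_smul, hb, map_sum, Finset.sum_apply', Finsupp.smul_apply, Basis.repr_self, smul_eq_mul]
            rw [Finset.sum_eq_single j]
            · simp only [Finsupp.single_eq_same, mul_one]; ring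
            · intro i _ hij
              rw [Finsupp.single_eq_of_ne (Ne.symm hij)]; ring
            · intro h; exact absurd (Finset.mem_univ _) h
          rw [hv, map_smul, Finsupp.smul_apply, smul_eq_mul] at h1
          have h2 : (d j - μ) * b.repr v j = 0 := by rw [sub_mul, ← h1, sub_self]
          exact (mul_eq_zero.1 h2).resolve_left (sub_ne_zero.2 hj)
        rw [← b.sum_repr v]
        refine Submodule.sum_mem _ fun j _ => ?_
        by_cases hj : d j = μ
        · exact Submodule.smul_mem _ _ (Submodule.subset_span ⟨⟨j, hj⟩, rfl⟩)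
        · rw [hrep j hj, zero_smul]; exact Submodule.zero_mem _
      · rw [Submodule.span_le]
        rintro _ ⟨⟨j, hj⟩, rfl⟩
        rw [SetLike.mem_coe, Module.End.mem_eigenspace_iff, hb, hj]
    have hli : LinearIndependent K (fun j : {j // d j = μ} => b j) :=
      b.linearIndependent.comp _ Subtype.val_injective
    rw [hspan, finrank_span_eq_card hli, Fintype.card_subtype]
  simp only [heig]
  have hinj : Set.InjOn (fun i => ζ ^ i) (Finset.range r) := by
    intro i hi j hj hij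
    rw [Finset.coe_range, Set.mem_Iio] at hi hj
    exact hζ.pow_inj hi hj hij
  have hmem : ∀ j, d j ∈ (Finset.range r).image (fun i => ζ ^ i) := by
    intro j
    have : NeZero r := ⟨hr.ne'⟩
    obtain ⟨i, hi, hij⟩ := hζ.eq_pow_of_pow_eq_one (hd j)
    exact Finset.mem_image.2 ⟨i, Finset.mem_range.2 hi, hij⟩
  have hc := Finset.card_eq_sum_card_fiberwise (s := (Finset.univ : Finset (Fin (finrank K V)))) (f := d)
    (t := (Finset.range r).image (fun i => ζ ^ i)) (fun j _ => hmem j)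
  rw [Finset.sum_image hinj, Finset.card_univ, Fintype.card_fin] at hc
  exact hc.symm

/-- `t z t⁻¹ = z ^ k`, `k * l = 1 mod r`: `t` maps the `c`-eigenspace into the `c ^ l`-eigenspace -/
theorem map_eigen {r k l : ℕ} {z t : G} (hz : z ^ r = 1) (ht : t * z = z ^ k * t) (hkl : k * l % r = 1 % r) {c : K} {v : V}
    (hv : ρ z v = c • v) : ρ z (ρ t v) = c ^ l • ρ t v := by
  have h1 : ρ (z ^ k) (ρ t v) = c • ρ t v := by
    rw [← Module.End.mul_apply, ← map_mul, ← ht, map_mul, Module.End.mul_apply, hv, map_smul]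
  have h2 : ∀ n : ℕ, ρ ((z ^ k) ^ n) (ρ t v) = c ^ n • ρ t v := by
    intro n
    induction n with
    | zero => simp
    | succ n ih => rw [pow_succ', map_mul, Module.End.mul_apply, ih, map_smul, h1, smul_smul, pow_succ]
  have h3 : (z ^ k) ^ l = z := by
    rw [← pow_mul, ← pow_mod_orderOf]
    have h4 : k * l ≡ 1 [MOD orderOf z] := Nat.ModEq.of_dvd (orderOf_dvd_of_pow_eq_one hz) hkl
    rw [h4, pow_mod_orderOf, pow_one]
  have h4 := h2 l
  rwa [h3] at h4

theorem rho_inj (s : G) : Function.Injective (ρ s) := by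
  intro v w h
  have h1 : ρ s⁻¹ (ρ s v) = ρ s⁻¹ (ρ s w) := by rw [h]
  rwa [← Module.End.mul_apply, ← Module.End.mul_apply, ← map_mul, inv_mul_cancel, map_one,
    Module.End.one_apply, Module.End.one_apply] at h1

theorem finrank_eigen_le {r k l : ℕ} {z t : G} (hz : z ^ r = 1) (ht : t * z = z ^ k * t) (hkl : k * l % r = 1 % r)
    (c : K) : finrank K ((ρ z).eigenspace c) ≤ finrank K ((ρ z).eigenspace (c ^ l)) := by
  have h1 : ((ρ z).eigenspace c).map (ρ t) ≤ (ρ z).eigenspace (c ^ l) := by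
    rintro _ ⟨v, hv, rfl⟩
    rw [SetLike.mem_coe, Module.End.mem_eigenspace_iff] at hv
    rw [Module.End.mem_eigenspace_iff]
    exact map_eigen ρ hz ht hkl hv
  refine le_trans (le_of_eq ?_) (Submodule.finrank_mono h1)
  exact (Submodule.equivMapOfInjective (ρ t) (rho_inj ρ t) _).finrank_eq

theorem zpow_mod {r : ℕ} {ζ : K} (hζ : IsPrimitiveRoot ζ r) (i : ℕ) : ζ ^ i = ζ ^ (i % r) := by
  conv_lhs => rw [← Nat.div_add_mod i r, pow_add, pow_mul, hζ.pow_eq_one, one_pow, one_mul]

theorem step {r k l : ℕ} {ζ : K} (hζ : IsPrimitiveRoot ζ r) {z t : G} (hz : z ^ r = 1) (ht : t * z = z ^ k * t)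
    (hkl : k * l % r = 1 % r) (i j : ℕ) (hij : i * l % r = j) :
    finrank K ((ρ z).eigenspace (ζ ^ i)) ≤ finrank K ((ρ z).eigenspace (ζ ^ j)) := by
  refine (finrank_eigen_le ρ hz ht hkl (ζ ^ i)).trans (le_of_eq ?_)
  rw [← pow_mul, zpow_mod hζ, hij]

theorem fx_eq_zero {ζ : K} (z : G) : fx ρ z = finrank K ((ρ z).eigenspace (ζ ^ 0)) := by rw [pow_zero, fx]

theorem fx_seven (h7 : (7 : K) ≠ 0) [IsAlgClosed K] {z t : G} (hz : z ^ 7 = 1) (ht : t * z = z ^ 3 * t)
    (hn : finrank K V ≤ 11) : finrank K V ≤ fx ρ z + 6 := by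
  have : NeZero ((7 : ℕ) : K) := ⟨by exact_mod_cast h7⟩
  obtain ⟨ζ, hζ⟩ := (HasEnoughRootsOfUnity.exists_primitiveRoot K 7)
  have hs := sum_eigen ρ (by norm_num) hζ hz
  rw [fx_eq_zero ρ (ζ := ζ) z]
  simp only [Finset.sum_range_succ, Finset.sum_range_zero, zero_add] at hs
  have e : ∀ i j : ℕ, i * 5 % 7 = j → _ := step ρ hζ hz ht (k := 3) (l := 5) (by norm_num)
  have e1 := e 1 5 rfl
  have e5 := e 5 4 rfl
  have e4 := e 4 6 rfl
  have e6 := e 6 2 rfl
  have e2 := e 2 3 rfl
  have e3 := e 3 1 rfl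
  omega

theorem cyc_six {m : ℕ → ℕ} {a b c d e f : ℕ} (h1 : m a ≤ m b) (h2 : m b ≤ m c) (h3 : m c ≤ m d) (h4 : m d ≤ m e)
    (h5 : m e ≤ m f) (h6 : m f ≤ m a) : m b = m a ∧ m c = m a ∧ m d = m a ∧ m e = m a ∧ m f = m a := by
  omega

theorem arith_nineteen {m : ℕ → ℕ} {n : ℕ} (hn : n ≤ 11)
    (hs : m 0 + m 1 + m 2 + m 3 + m 4 + m 5 + m 6 + m 7 + m 8 + m 9 + m 10 + m 11 + m 12 + m 13 + m 14 + m 15 + m 16 +
      m 17 + m 18 = n)
    (a : m 12 = m 1 ∧ m 11 = m 1 ∧ m 18 = m 1 ∧ m 7 = m 1 ∧ m 8 = m 1)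
    (b : m 5 = m 2 ∧ m 3 = m 2 ∧ m 17 = m 2 ∧ m 14 = m 2 ∧ m 16 = m 2)
    (c : m 10 = m 4 ∧ m 6 = m 4 ∧ m 15 = m 4 ∧ m 9 = m 4 ∧ m 13 = m 4) : n ≤ m 0 + 6 := by
  obtain ⟨a1, a2, a3, a4, a5⟩ := a
  obtain ⟨b1, b2, b3, b4, b5⟩ := b
  obtain ⟨c1, c2, c3, c4, c5⟩ := c
  rw [a1, a2, a3, a4, a5, b1, b2, b3, b4, b5, c1, c2, c3, c4, c5] at hs
  clear a1 a2 a3 a4 a5 b1 b2 b3 b4 b5 c1 c2 c3 c4 c5
  omega

theorem fx_nineteen (h19 : (19 : K) ≠ 0) [IsAlgClosed K] {z t : G} (hz : z ^ 19 = 1) (ht : t * z = z ^ 8 * t)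
    (hn : finrank K V ≤ 11) : finrank K V ≤ fx ρ z + 6 := by
  have : NeZero ((19 : ℕ) : K) := ⟨by exact_mod_cast h19⟩
  obtain ⟨ζ, hζ⟩ := (HasEnoughRootsOfUnity.exists_primitiveRoot K 19)
  have hs := sum_eigen ρ (by norm_num) hζ hz
  rw [fx_eq_zero ρ (ζ := ζ) z]
  simp only [Finset.sum_range_succ, Finset.sum_range_zero, zero_add] at hs
  have e : ∀ i j : ℕ, i * 12 % 19 = j → _ := step ρ hζ hz ht (k := 8) (l := 12) (by norm_num)
  exact arith_nineteen (m := fun i => finrank K ((ρ z).eigenspace (ζ ^ i))) hn hs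
    (cyc_six (m := fun i => finrank K ((ρ z).eigenspace (ζ ^ i))) (e 1 12 rfl) (e 12 11 rfl) (e 11 18 rfl) (e 18 7 rfl)
      (e 7 8 rfl) (e 8 1 rfl))
    (cyc_six (m := fun i => finrank K ((ρ z).eigenspace (ζ ^ i))) (e 2 5 rfl) (e 5 3 rfl) (e 3 17 rfl) (e 17 14 rfl)
      (e 14 16 rfl) (e 16 2 rfl))
    (cyc_six (m := fun i => finrank K ((ρ z).eigenspace (ζ ^ i))) (e 4 10 rfl) (e 10 6 rfl) (e 6 15 rfl) (e 15 9 rfl)
      (e 9 13 rfl) (e 13 4 rfl))

theorem exists_eigen {r : ℕ} (hr : r.Prime) {ζ : K} (hζ : IsPrimitiveRoot ζ r) {z : G} (hz : z ^ r = 1) (hz1 : ρ z ≠ 1) :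
    ∃ (c : K) (v : V), IsPrimitiveRoot c r ∧ v ≠ 0 ∧ ρ z v = c • v := by
  by_contra hcon
  push Not at hcon
  have hs := sum_eigen ρ hr.pos hζ hz
  have h0 : ∀ i ∈ Finset.range r, i ≠ 0 → finrank K ((ρ z).eigenspace (ζ ^ i)) = 0 := by
    intro i hi hi0
    rw [Finset.mem_range] at hi
    rw [Submodule.finrank_eq_zero, eq_bot_iff]
    intro v hv
    rw [Module.End.mem_eigenspace_iff] at hv
    by_contra hv0
    refine hcon (ζ ^ i) v (hζ.pow_of_coprime i ?_) (fun h => hv0 ((Submodule.mem_bot K).2 h)) hv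
    rw [Nat.coprime_comm, hr.coprime_iff_not_dvd]
    exact fun h => absurd (Nat.le_of_dvd (Nat.pos_of_ne_zero hi0) h) (by omega)
  rw [Finset.sum_eq_single_of_mem 0 (Finset.mem_range.2 hr.pos) h0, pow_zero] at hs
  apply hz1
  have h1 := Submodule.eq_top_of_finrank_eq hs
  ext v
  have h2 : v ∈ (ρ z).eigenspace 1 := by rw [h1]; trivial
  rw [Module.End.mem_eigenspace_iff, one_smul] at h2
  rw [h2, Module.End.one_apply]

/-- `y` of order `3` normalizing `⟨z⟩`, `t` normalizing `⟨z⟩` -/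
theorem fx_three {r k l k' l' : ℕ} (hr : r.Prime) {ζ : K} (hζ : IsPrimitiveRoot ζ r) {z y t : G} (hz : z ^ r = 1)
    (hz1 : ρ z ≠ 1) (hy : y ^ 3 = 1) (hyz : y * z = z ^ k * y) (hkl : k * l % r = 1 % r) (htz : t * z = z ^ k' * t)
    (hkl' : k' * l' % r = 1 % r)
    (hE : Function.Injective (fun j : Fin 6 => (![1, l, l * l, l', l' * l, l' * l * l] : Fin 6 → ℕ) j % r)) :
    2 ≤ fx ρ y := by
  obtain ⟨c, v, hc, hv0, hv⟩ := exists_eigen ρ hr hζ hz hz1
  have m1 := map_eigen ρ hz hyz hkl hv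
  have m2 := map_eigen ρ hz hyz hkl m1
  have m3 := map_eigen ρ hz htz hkl' hv
  have m4 := map_eigen ρ hz hyz hkl m3
  have m5 := map_eigen ρ hz hyz hkl m4
  rw [← pow_mul] at m2 m4
  rw [← pow_mul, ← pow_mul] at m5
  have ne : ∀ (s : G) {u : V}, u ≠ 0 → ρ s u ≠ 0 := fun s u hu h => hu (rho_inj ρ s (by rw [h, map_zero]))
  have hli : LinearIndependent K (![v, ρ y v, ρ y (ρ y v), ρ t v, ρ y (ρ t v), ρ y (ρ y (ρ t v))] : Fin 6 → V) := by
    refine Module.End.eigenvectors_linearIndependent' (ρ z)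
      (fun j : Fin 6 => c ^ ((![1, l, l * l, l', l' * l, l' * l * l] : Fin 6 → ℕ) j)) ?_ _ ?_
    · intro i j hij
      apply hE
      simp only at hij ⊢
      rw [zpow_mod hc ((![1, l, l * l, l', l' * l, l' * l * l] : Fin 6 → ℕ) i),
        zpow_mod hc ((![1, l, l * l, l', l' * l, l' * l * l] : Fin 6 → ℕ) j)] at hij
      exact hc.pow_inj (Nat.mod_lt _ hr.pos) (Nat.mod_lt _ hr.pos) hij
    · intro j
      fin_cases j
      · exact ⟨Module.End.mem_eigenspace_iff.2 (by simpa using hv), hv0⟩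
      · exact ⟨Module.End.mem_eigenspace_iff.2 (by simpa using m1), ne _ hv0⟩
      · exact ⟨Module.End.mem_eigenspace_iff.2 (by simpa using m2), ne _ (ne _ hv0)⟩
      · exact ⟨Module.End.mem_eigenspace_iff.2 (by simpa using m3), ne _ hv0⟩
      · exact ⟨Module.End.mem_eigenspace_iff.2 (by simpa using m4), ne _ (ne _ hv0)⟩
      · exact ⟨Module.End.mem_eigenspace_iff.2 (by simpa [mul_assoc] using m5), ne _ (ne _ (ne _ hv0))⟩
  have h3 : ∀ u : V, ρ y (ρ y (ρ y u)) = u := by
    intro u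
    rw [← Module.End.mul_apply, ← Module.End.mul_apply, ← map_mul, ← map_mul, show y * y * y = y ^ 3 by
      rw [pow_succ, pow_two], hy, map_one, Module.End.one_apply]
  have hfix : ∀ u : V, u + ρ y u + ρ y (ρ y u) ∈ (ρ y).eigenspace 1 := by
    intro u
    rw [Module.End.mem_eigenspace_iff, one_smul, map_add, map_add, h3]
    abel
  have hli2 : LinearIndependent K ![v + ρ y v + ρ y (ρ y v), ρ t v + ρ y (ρ t v) + ρ y (ρ y (ρ t v))] := by
    rw [LinearIndependent.pair_iff]
    intro a b hab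
    rw [Fintype.linearIndependent_iff] at hli
    have h := hli ![a, a, a, b, b, b] (by
      rw [← hab]
      simp only [Fin.sum_univ_six, smul_add]
      simp
      abel)
    exact ⟨by simpa using h 0, by simpa using h 3⟩
  have h4 := finrank_span_eq_card hli2
  rw [Fintype.card_fin] at h4
  rw [fx]
  refine h4.symm.le.trans (Submodule.finrank_mono ?_)
  rw [Submodule.span_le]
  rintro _ ⟨j, rfl⟩
  fin_cases j
  · exact hfix v
  · exact hfix (ρ t v)

/-! ### `2^3:7` -/

theorem split (h2 : (2 : K) ≠ 0) {f : Module.End K V} (hf : f * f = 1) {W : Submodule K V} (hW : ∀ w ∈ W, f w ∈ W) :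
    finrank K W = finrank K ↥(W ⊓ f.eigenspace 1) + finrank K ↥(W ⊓ f.eigenspace (-1)) := by
  have hff : ∀ v, f (f v) = v := fun v => by rw [← Module.End.mul_apply, hf, Module.End.one_apply]
  have hinf : (W ⊓ f.eigenspace 1) ⊓ (W ⊓ f.eigenspace (-1)) = ⊥ := by
    rw [eq_bot_iff]
    rintro v ⟨⟨-, h1⟩, -, h3⟩
    rw [SetLike.mem_coe, Module.End.mem_eigenspace_iff] at h1 h3
    rw [h1, one_smul] at h3
    have h4 : (2 : K) • v = 0 := by
      rw [two_smul]
      nth_rewrite 2 [h3]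
      rw [neg_smul, one_smul, add_neg_cancel]
    exact (Submodule.mem_bot K).2 ((smul_eq_zero.1 h4).resolve_left h2)
  have hsup : (W ⊓ f.eigenspace 1) ⊔ (W ⊓ f.eigenspace (-1)) = W := by
    apply le_antisymm (sup_le inf_le_left inf_le_left)
    intro w hw
    have hfw := hW w hw
    have e1 : (2 : K)⁻¹ • (w + f w) ∈ W ⊓ f.eigenspace 1 := by
      refine Submodule.mem_inf.2 ⟨W.smul_mem _ (W.add_mem hw hfw), ?_⟩
      rw [Module.End.mem_eigenspace_iff, map_smul, map_add, hff, one_smul, add_comm]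
    have e2 : (2 : K)⁻¹ • (w - f w) ∈ W ⊓ f.eigenspace (-1) := by
      refine Submodule.mem_inf.2 ⟨W.smul_mem _ (W.sub_mem hw hfw), ?_⟩
      rw [Module.End.mem_eigenspace_iff, map_smul, map_sub, hff, neg_smul, one_smul, ← smul_neg, neg_sub]
    have e3 : w = (2 : K)⁻¹ • (w + f w) + (2 : K)⁻¹ • (w - f w) := by
      rw [← smul_add]
      have : w + f w + (w - f w) = (2 : K) • w := by rw [two_smul]; abel
      rw [this, smul_smul, inv_mul_cancel₀ h2, one_smul]
    rw [e3]
    exact Submodule.add_mem_sup e1 e2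
  have h := Submodule.finrank_sup_add_finrank_inf_eq (W ⊓ f.eigenspace 1) (W ⊓ f.eigenspace (-1))
  rw [hinf, finrank_bot, add_zero, hsup] at h
  exact h

/-- joint eigenspaces of three involutions -/
def U (a b c : G) (s : K × K × K) : Submodule K V :=
  ((ρ a).eigenspace s.1 ⊓ (ρ b).eigenspace s.2.1) ⊓ (ρ c).eigenspace s.2.2

theorem mem_U {a b c : G} {s : K × K × K} {v : V} :
    v ∈ U ρ a b c s ↔ ρ a v = s.1 • v ∧ ρ b v = s.2.1 • v ∧ ρ c v = s.2.2 • v := by
  rw [U, Submodule.mem_inf, Submodule.mem_inf, Module.End.mem_eigenspace_iff, Module.End.mem_eigenspace_iff,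
    Module.End.mem_eigenspace_iff, and_assoc]

theorem U_le {a b c w : G} (hwa : w * a = b * w) (hwb : w * b = c * w) (hwc : w * c = a * b * w) {s1 s2 s3 : K}
    (hs : s1 * s1 = 1) : finrank K (U ρ a b c (s1, s2, s3)) ≤ finrank K (U ρ a b c (s1 * s3, s1, s2)) := by
  have hmap : (U ρ a b c (s1, s2, s3)).map (ρ w) ≤ U ρ a b c (s1 * s3, s1, s2) := by
    rintro _ ⟨v, hv, rfl⟩
    obtain ⟨h1, h2, h3⟩ := (mem_U ρ).1 hv
    simp only at h1 h2 h3
    have e1 : ρ b (ρ w v) = s1 • ρ w v := by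
      rw [← Module.End.mul_apply, ← map_mul, ← hwa, map_mul, Module.End.mul_apply, h1, map_smul]
    have e2 : ρ c (ρ w v) = s2 • ρ w v := by
      rw [← Module.End.mul_apply, ← map_mul, ← hwb, map_mul, Module.End.mul_apply, h2, map_smul]
    have e3 : ρ a (ρ b (ρ w v)) = s3 • ρ w v := by
      rw [← Module.End.mul_apply, ← Module.End.mul_apply, ← map_mul, ← map_mul, ← hwc, map_mul,
        Module.End.mul_apply, h3, map_smul]
    refine (mem_U ρ).2 ⟨?_, e1, e2⟩
    simp only
    rw [e1, map_smul] at e3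
    calc ρ a (ρ w v) = s1 • (s1 • ρ a (ρ w v)) := by rw [smul_smul, hs, one_smul]
      _ = (s1 * s3) • ρ w v := by rw [e3, smul_smul]
  refine le_trans (le_of_eq ?_) (Submodule.finrank_mono hmap)
  exact (Submodule.equivMapOfInjective (ρ w) (rho_inj ρ w) _).finrank_eq

/-- an involution of `2^3:7` -/
theorem fx_frob8 (h2 : (2 : K) ≠ 0) {a b c w : G} (ha : a * a = 1) (hab : a * b = b * a) (hwa : w * a = b * w)
    (hwb : w * b = c * w) (hwc : w * c = a * b * w) (hn : finrank K V ≤ 13) : finrank K V ≤ fx ρ a + 4 := by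
  have hb : b * b = 1 := by
    have : b = w * a * w⁻¹ := by rw [hwa]; group
    rw [this]
    calc w * a * w⁻¹ * (w * a * w⁻¹) = w * (a * a) * w⁻¹ := by group
      _ = 1 := by rw [ha]; group
  have hc : c * c = 1 := by
    have : c = w * b * w⁻¹ := by rw [hwb]; group
    rw [this]
    calc w * b * w⁻¹ * (w * b * w⁻¹) = w * (b * b) * w⁻¹ := by group
      _ = 1 := by rw [hb]; group
  have hbc : b * c = c * b := by
    apply mul_right_cancel (b := w)
    calc b * c * w = b * (c * w) := by rw [mul_assoc]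
      _ = w * (a * b) := by rw [← hwb, ← mul_assoc, ← hwa, mul_assoc]
      _ = w * (b * a) := by rw [hab]
      _ = c * b * w := by rw [← mul_assoc, hwb, mul_assoc, hwa, ← mul_assoc]
  have hca : c * (a * b) = a * b * c := by
    apply mul_right_cancel (b := w)
    calc c * (a * b) * w = c * (a * b * w) := by simp only [mul_assoc]
      _ = w * (b * c) := by rw [← hwc, ← mul_assoc, ← hwb, mul_assoc]
      _ = w * (c * b) := by rw [hbc]
      _ = a * b * c * w := by rw [← mul_assoc, hwc, mul_assoc, hwb, ← mul_assoc]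
  have hac : a * c = c * a := by
    have h1 : c * a * b = a * c * b := by
      calc c * a * b = c * (a * b) := by rw [mul_assoc]
        _ = a * (b * c) := by rw [hca, mul_assoc]
        _ = a * c * b := by rw [hbc, mul_assoc]
    exact (mul_right_cancel h1).symm
  have sq : ∀ {g : G}, g * g = 1 → ρ g * ρ g = 1 := fun h => by rw [← map_mul, h, map_one]
  have stab : ∀ {g g' : G} (s : K), g * g' = g' * g → ∀ v ∈ (ρ g).eigenspace s, ρ g' v ∈ (ρ g).eigenspace s := by
    intro g g' s h v hv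
    rw [Module.End.mem_eigenspace_iff] at hv ⊢
    rw [← Module.End.mul_apply, ← map_mul, h, map_mul, Module.End.mul_apply, hv, map_smul]
  -- the decompositions
  have d0 := split h2 (sq ha) (W := (⊤ : Submodule K V)) (fun _ _ => Submodule.mem_top)
  rw [finrank_top, top_inf_eq, top_inf_eq] at d0
  have d1 : ∀ s : K, finrank K ((ρ a).eigenspace s) = _ := fun s => split h2 (sq hb) (stab s hab)
  have d2 : ∀ s t : K, finrank K ↥((ρ a).eigenspace s ⊓ (ρ b).eigenspace t) = _ := fun s t =>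
    split h2 (sq hc) (fun v hv => by
      obtain ⟨k1, k2⟩ := Submodule.mem_inf.1 hv
      exact Submodule.mem_inf.2 ⟨stab s hac v k1, stab t hbc v k2⟩)
  have u : ∀ s1 s2 s3 : K, s1 * s1 = 1 → _ := fun s1 s2 s3 => U_le ρ hwa hwb hwc (s1 := s1) (s2 := s2) (s3 := s3)
  have u1 := u (-1) 1 1 (by ring)
  have u2 := u (-1) (-1) 1 (by ring)
  have u3 := u (-1) (-1) (-1) (by ring)
  have u4 := u 1 (-1) (-1) (by ring)
  have u5 := u (-1) 1 (-1) (by ring)
  have u6 := u 1 (-1) 1 (by ring)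
  have u7 := u 1 1 (-1) (by ring)
  rw [mul_one] at u1 u2 u6
  rw [show (-1 : K) * -1 = 1 by ring] at u3 u5
  rw [one_mul] at u4 u7
  have e1 := d1 1
  have e2 := d1 (-1)
  have f1 := d2 1 1
  have f2 := d2 1 (-1)
  have f3 := d2 (-1) 1
  have f4 := d2 (-1) (-1)
  unfold U at u1 u2 u3 u4 u5 u6 u7
  dsimp only at u1 u2 u3 u4 u5 u6 u7
  unfold fx
  omega

end Cfsg.Agent.H933.Scott
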